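import Cfsg.Agent.Cit.Nil.ROne.TwinDef

/-!
# (6b), `r = 1`, core-free: commuting pairs (helper194)

Sections 0 and 1 of `blueprints/R18-6b-r1-helper545.md`.

* `W.hyp` : `Hyp (K '' Z)`; `W.com` : members in a 2-group commute;
* `W.inv_cases` : an element of `C(z)` whose square centralises `K z`: `Cen`, `Inn` or `Trn`;
* `W.quat_act` : a quaternion group acts on `K z` with non-trivial kernel;
* `W.csymm`, `W.cen_symm`, `W.cen_iff` : `u` centralises `K z` iff `u = z` or `(z, u)` is a C-pair;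
* `NP K z u` (N-pair), `TI`, `TS`; `W.tri` : the trichotomy; `W.flip`, `W.mul_mem`, `W.np_mul`;
* `W.ti_four` : (1.1); `AN`, `CS`, `TT`; lemmas on `NC`.
-/

set_option autoImplicit false
set_option linter.style.haveILetI false
set_option linter.unusedSectionVars false

namespace Cfsg.Agent.Cit.Nil.ROne

open Subgroup Cfsg Cit

variable {G : Type*} [Group G]

/-- `(z, u)` is an N-pair -/
def NP (K : G → Subgroup G) (z u : G) : Prop := z ≠ u ∧ z * u = u * z ∧ ¬ CP K z u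

/-- type I: both act as inner automorphisms -/
def TI (K : G → Subgroup G) (z u : G) : Prop := ∃ y y', Inn K u z y ∧ Inn K z u y'

/-- type TS: both act as transpositions -/
def TS (K : G → Subgroup G) (z u : G) : Prop := ∃ b b', Trn K u z b ∧ Trn K z u b'

/-- `AN(s)` : `Z(s) ≤ O₂(C(s))` -/
def AN (Z : Set G) (K : G → Subgroup G) (s : G) : Prop :=
  ∀ z ∈ Z, Cen K s z →
    ∃ N : Subgroup G, N ≤ centralizer {s} ∧ centralizer {s} ≤ normalizer (N : Set G) ∧ IsPGroup 2 N ∧ z ∈ N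

/-- the involutions of the members in `S` -/
def CS (Z : Set G) (K : G → Subgroup G) (S : Subgroup G) : Set G := {z | z ∈ Z ∧ K z ≤ S}

/-- `T_S` -/
def TT (Z : Set G) (K : G → Subgroup G) (S : Subgroup G) : Subgroup G := closure (CS Z K S)

section pairs

variable {K : G → Subgroup G} {z u x y g : G}

theorem TI.symm (h : TI K z u) : TI K u z := by
  obtain ⟨y, y', h1, h2⟩ := h
  exact ⟨y', y, h2, h1⟩

theorem TS.symm (h : TS K z u) : TS K u z := by
  obtain ⟨y, y', h1, h2⟩ := h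
  exact ⟨y', y, h2, h1⟩

theorem NP.symm (h : NP K z u) : NP K u z := ⟨h.1.symm, h.2.1.symm, fun h1 => h.2.2 h1.symm⟩

theorem Cen.mul {g' : G} (h1 : Cen K g z) (h2 : Cen K g' z) : Cen K (g * g') z := fun k hk => by
  rw [mul_assoc, h2 k hk, ← mul_assoc, h1 k hk, mul_assoc]

theorem Cen.inv (h1 : Cen K g z) : Cen K g⁻¹ z := fun k hk => by
  rw [inv_mul_eq_iff_eq_mul, ← mul_assoc, h1 k hk, mul_inv_cancel_right]

theorem Cen.one : Cen K 1 z := fun k _ => by rw [one_mul, mul_one]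

end pairs

namespace W

variable {Z : Set G} {K : G → Subgroup G} {z u v g x y b k : G} (h : W Z K)

section basic

include h

theorem zz_K (hz : z ∈ Z) : zz (K z) = z := by
  have h1 := zz_spec (K := K z) ⟨z, h.mem z hz, h.ord hz⟩
  rcases h.uniq hz h1.1 (by rw [← pow_two, ← h1.2, pow_orderOf_eq_one]) with h2 | h2
  · rw [h2, orderOf_one] at h1
    omega
  · exact h2

theorem K_inj (hz : z ∈ Z) (hu : u ∈ Z) (he : K z = K u) : z = u := by
  rw [← h.zz_K hz, he, h.zz_K hu]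

theorem hyp : Hyp (K '' Z) := by
  haveI : Fact (Nat.Prime 2) := ⟨Nat.prime_two⟩
  refine ⟨?_, ?_, ?_, ?_, ?_, ?_⟩
  · rintro _ ⟨z, hz, rfl⟩ g
    exact ⟨g * z * g⁻¹, h.conjZ z hz g, h.conjK z hz g⟩
  · rintro _ ⟨z, hz, rfl⟩
    have h1 : IsPGroup 2 (⊤ : Subgroup (K z)) := (h.two hz).to_subgroup ⊤
    have h2 : ¬ 2 ∣ (⊤ : Subgroup (K z)).index := by rw [index_top]; omega
    exact ⟨h1.toSylow h2, 0, ⟨topEquiv.trans (h.e hz)⟩⟩
  · rintro _ ⟨z, hz, rfl⟩ t ht h2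
    rw [h.zz_K hz]
    rcases h.uniq hz ht (by rw [← pow_two, ← h2, pow_orderOf_eq_one]) with h3 | h3
    · rw [h3, orderOf_one] at h2
      omega
    · exact h3
  · rintro _ ⟨z, hz, rfl⟩
    rw [h.zz_K hz]
    refine Subgroup.Normal.isSubnormal ?_
    exact (normal_subgroupOf_iff_le_normalizer (h.K_le hz)).2 fun g hg =>
      h.mem_norm hz (mem_centralizer_singleton_iff.1 hg)
  · rintro _ ⟨z, hz, rfl⟩ _ ⟨u, hu, rfl⟩ he
    rw [h.zz_K hz, h.zz_K hu] at he
    rw [he]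
    exact Or.inl rfl
  · rintro _ ⟨z, hz, rfl⟩ _ ⟨u, hu, rfl⟩ y _ _ _ hy
    rw [h.zz_K hu] at hy
    exact h.mem_norm hu hy

/-- members in a common 2-group commute -/
theorem com [Finite G] {S : Subgroup G} (hz : z ∈ Z) (hu : u ∈ Z) (hS : IsPGroup 2 S) (h1 : K z ≤ S)
    (h2 : K u ≤ S) (hne : z ≠ u) : CP K z u := by
  have h3 : ∀ {v}, v ∈ Z → K v ≤ S → K v ∈ OmS (K '' Z) S := fun hv hvS =>
    mem_OmS_of_le ⟨_, hv, rfl⟩ ⟨le_rfl, h.two hv, by rw [relIndex_self]; omega⟩ hvS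
  exact ⟨hne, fun a ha b hb => h.hyp.comm hS (h3 hz h1) (h3 hu h2) (fun he => hne (h.K_inj hz hu he))
    ⟨ha, h1 ha⟩ ⟨hb, h2 hb⟩⟩

end basic

/-! ### Actions on `K z` -/

section act

include h

theorem inv_cases (hz : z ∈ Z) (hg : g * z = z * g) (hgg : Cen K (g * g) z) :
    Cen K g z ∨ (∃ y, Inn K g z y) ∨ (∃ b, Trn K g z b) := by
  have hg2 : (g * g) * z = z * (g * g) := by rw [mul_assoc, hg, ← mul_assoc, hg, mul_assoc]
  have h1 : h.rho hz g hg * h.rho hz g hg = 1 := by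
    rw [← h.rho_mul hz hg hg hg2]
    exact (h.rho_eq_one hz hg2).2 hgg
  have h2 : ∀ x, h.rho hz g hg (h.rho hz g hg x) = x := fun x => congrArg (fun f : MulAut QEight.Q => f x) h1
  have hact : ∀ {y : G} (hy : y ∈ K z), (∀ x, h.rho hz g hg x = h.e hz ⟨y, hy⟩ * x * (h.e hz ⟨y, hy⟩)⁻¹) →
      ∀ k ∈ K z, g * k * g⁻¹ = y * k * y⁻¹ := by
    intro y hy h3 k hk
    have h4 := h3 (h.e hz ⟨k, hk⟩)
    rw [h.rho_e hz hg hk, ← h.e_mul hz hy hk, ← h.e_inv hz hy, ← h.e_mul hz (mul_mem hy hk) (inv_mem hy)] at h4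
    exact h.e_inj hz _ _ h4
  have hsq : ∀ {y : G} (hy : y ∈ K z), h.e hz ⟨y, hy⟩ * h.e hz ⟨y, hy⟩ = QuaternionGroup.a 2 ↔ y * y = z := by
    intro y hy
    rw [← h.e_mul hz hy hy, ← h.e_z hz]
    exact ⟨fun h3 => h.e_inj hz _ _ h3, fun h3 => congrArg (h.e hz) (Subtype.ext h3)⟩
  rcases QEight.invol _ h2 with h3 | ⟨p, hp, h3⟩ | ⟨p, hp, h3, h4⟩
  · left
    rw [← h.rho_eq_one hz hg]
    exact MulEquiv.ext h3
  · right; left
    obtain ⟨y, hy, rfl⟩ := h.exists_e hz p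
    exact ⟨y, hy, (hsq hy).1 hp, hact hy h3⟩
  · right; right
    obtain ⟨y, hy, rfl⟩ := h.exists_e hz p
    refine ⟨y, hy, (hsq hy).1 hp, ?_, ?_⟩
    · rw [h.rho_e hz hg hy, ← h.e_inv hz hy] at h3
      exact h.e_inj hz _ _ h3
    · intro b hb hbb hby hby'
      obtain ⟨h5, h6⟩ := h4 (h.e hz ⟨b, hb⟩) ((hsq hb).2 hbb) (fun h7 => hby (h.e_inj hz _ _ h7))
        (fun h7 => hby' (by rw [← h.e_inv hz hy] at h7; exact h.e_inj hz _ _ h7))
      rw [h.rho_e hz hg hb] at h5 h6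
      refine ⟨fun h7 => h5 (congrArg (h.e hz) (Subtype.ext h7)), fun h7 => h6 ?_⟩
      rw [← h.e_inv hz hb]
      exact congrArg (h.e hz) (Subtype.ext h7)

/-- `i`, `j ∈ C(z)` generating a quaternion group: `w = i²` centralises `K z` -/
theorem quat_act (hz : z ∈ Z) {i j w : G} (hi : i * z = z * i) (hj : j * z = z * j) (hii : i * i = w)
    (hjj : j * j = w) (hji : j * i = w * (i * j)) : Cen K w z := by
  have hw : w * z = z * w := by rw [← hii, mul_assoc, hi, ← mul_assoc, hi, mul_assoc]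
  have hij : (i * j) * z = z * (i * j) := by rw [mul_assoc, hj, ← mul_assoc, hi, mul_assoc]
  have hji' : (j * i) * z = z * (j * i) := by rw [mul_assoc, hi, ← mul_assoc, hj, mul_assoc]
  have hcast : ∀ {a b : G} (ha : a * z = z * a) (hb : b * z = z * b), a = b → h.rho hz a ha = h.rho hz b hb := by
    intro a b ha hb hab
    subst hab
    rfl
  have hw' : (i * i) * z = z * (i * i) := by rw [hii]; exact hw
  have h1 : h.rho hz i hi * h.rho hz i hi = h.rho hz w hw := by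
    rw [← h.rho_mul hz hi hi hw']
    exact hcast _ _ hii
  have h2 : h.rho hz j hj * h.rho hz j hj = h.rho hz w hw := by
    rw [← h.rho_mul hz hj hj (by rw [hjj]; exact hw)]
    exact hcast _ _ hjj
  have h3 : h.rho hz j hj * h.rho hz i hi = h.rho hz i hi * h.rho hz i hi * h.rho hz i hi * h.rho hz j hj := by
    rw [← h.rho_mul hz hj hi hji', h1, mul_assoc, ← h.rho_mul hz hi hj hij, ← h.rho_mul hz hw hij (by
      rw [← hji]; exact hji')]
    exact hcast _ _ hji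
  have h4 := QEight.quat _ _ (h1.trans h2.symm) h3
  rw [h1] at h4
  exact (h.rho_eq_one hz hw).1 h4

/-- `u` centralises `K z`, then `[K z, K u] = 1` -/
theorem csymm (hz : z ∈ Z) (hu : u ∈ Z) (hne : z ≠ u) (hc : Cen K u z) : CP K z u := by
  refine ⟨hne, fun a ha b hb => ?_⟩
  obtain ⟨i, hi, j, hj, hii, hjj, hji, -⟩ := h.exists_ij hz
  have h1 : Cen K z u := h.quat_act hu (hc i hi).symm (hc j hj).symm hii hjj hji
  have h2 : a * b * a⁻¹ ∈ K u := h.norm_mem hu (hc a ha).symm hb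
  have h3 : b * a⁻¹ * b⁻¹ ∈ K z := h.norm_mem hz (h1 b hb).symm (inv_mem ha)
  set x := a * b * a⁻¹ * b⁻¹ with hx
  have hxu : x ∈ K u := mul_mem h2 (inv_mem hb)
  have hxz : x ∈ K z := by
    have : x = a * (b * a⁻¹ * b⁻¹) := by rw [hx]; group
    rw [this]
    exact mul_mem ha h3
  have hx1 : x = 1 := by
    by_contra hne1
    by_cases hxz' : x = z
    · rcases h.uniq hu hxu (by rw [hxz', h.sq z hz]) with h4 | h4
      · exact hne1 h4
      · exact hne (hxz'.symm.trans h4)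
    · have h4 := h.sq_eq hz hxz hne1 hxz'
      by_cases hxu' : x = u
      · rw [hxu', h.sq u hu] at h4
        exact h.ne z hz h4.symm
      · exact hne (h4.symm.trans (h.sq_eq hu hxu hne1 hxu'))
  rw [hx, mul_inv_eq_one, mul_inv_eq_iff_eq_mul] at hx1
  exact hx1

theorem cen_symm (hz : z ∈ Z) (hu : u ∈ Z) (hc : Cen K u z) : Cen K z u := by
  by_cases hne : z = u
  · rw [hne]
    exact fun k hk => (h.cent hu hk).symm
  · exact fun b hb => (h.csymm hz hu hne hc).2 z (h.mem z hz) b hb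

theorem cen_iff (hz : z ∈ Z) (hu : u ∈ Z) : Cen K u z ↔ z = u ∨ CP K z u := by
  constructor
  · intro hc
    by_cases hne : z = u
    · exact Or.inl hne
    · exact Or.inr (h.csymm hz hu hne hc)
  · rintro (rfl | hc)
    · exact fun k hk => (h.cent hz hk).symm
    · exact fun k hk => (hc.2 k hk u (h.mem u hu)).symm

theorem cen_of_cp (hu : u ∈ Z) (hc : CP K z u) : Cen K u z := fun k hk => (hc.2 k hk u (h.mem u hu)).symm

theorem comm_of_cp (hz : z ∈ Z) (hu : u ∈ Z) (hc : CP K z u) : z * u = u * z := hc.comm h hz hu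

/-- two elements of order 4 of `K z` on different axes -/
theorem inv_of_ne (hz : z ∈ Z) (hy : y ∈ K z) (hyy : y * y = z) (hb : b ∈ K z) (hbb : b * b = z) (h1 : b ≠ y)
    (h2 : b ≠ y⁻¹) : y * b * y⁻¹ = b⁻¹ := by
  have h3 : ∀ p q : QEight.Q, p * p = QuaternionGroup.a 2 → q * q = QuaternionGroup.a 2 → q ≠ p → q ≠ p⁻¹ →
      p * q * p⁻¹ = q⁻¹ := by decide
  have hsq : ∀ {y : G} (hy : y ∈ K z), y * y = z → h.e hz ⟨y, hy⟩ * h.e hz ⟨y, hy⟩ = QuaternionGroup.a 2 := by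
    intro y hy h4
    rw [← h.e_mul hz hy hy, ← h.e_z hz]
    exact congrArg (h.e hz) (Subtype.ext h4)
  have h4 := h3 _ _ (hsq hy hyy) (hsq hb hbb) (fun h5 => h1 (h.e_inj hz _ _ h5))
    (fun h5 => h2 (by rw [← h.e_inv hz hy] at h5; exact h.e_inj hz _ _ h5))
  rw [← h.e_mul hz hy hb, ← h.e_inv hz hy, ← h.e_mul hz (mul_mem hy hb) (inv_mem hy), ← h.e_inv hz hb] at h4
  exact h.e_inj hz _ _ h4

/-- an element of order 4 is inverted by another one -/
theorem exists_inv (hz : z ∈ Z) (hy : y ∈ K z) (hyy : y * y = z) :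
    ∃ c ∈ K z, c * c = z ∧ c ≠ y ∧ c ≠ y⁻¹ ∧ y * c * y⁻¹ = c⁻¹ ∧ c * y * c⁻¹ = y⁻¹ := by
  obtain ⟨i, hi, j, hj, hii, hjj, hji, -⟩ := h.exists_ij hz
  have hne : i ≠ j := by
    rintro rfl
    rw [hii, h.sq z hz] at hji
    exact h.ne z hz hji
  have hne' : i ≠ j⁻¹ := by
    rintro rfl
    have h2 := h.cent hz hj
    rw [mul_inv_cancel, inv_mul_cancel, mul_one] at hji
    exact h.ne z hz hji.symm
  have key : ∀ c ∈ K z, c * c = z → c ≠ y → c ≠ y⁻¹ → c * y * c⁻¹ = y⁻¹ := fun c hc hcc h1 h2 =>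
    h.inv_of_ne hz hc hcc hy hyy (Ne.symm h1) (fun h3 => h2 (by rw [h3, inv_inv]))
  by_cases h1 : i ≠ y ∧ i ≠ y⁻¹
  · exact ⟨i, hi, hii, h1.1, h1.2, h.inv_of_ne hz hy hyy hi hii h1.1 h1.2, key i hi hii h1.1 h1.2⟩
  · have h2 : j ≠ y ∧ j ≠ y⁻¹ := by
      rw [not_and_or, not_not, not_not] at h1
      rcases h1 with h1 | h1
      · exact ⟨fun h3 => hne (h1.trans h3.symm), fun h3 => hne' (by rw [h3, inv_inv]; exact h1)⟩
      · exact ⟨fun h3 => hne' (by rw [h3]; exact h1), fun h3 => hne (h1.trans h3.symm)⟩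
    exact ⟨j, hj, hjj, h2.1, h2.2, h.inv_of_ne hz hy hyy hj hjj h2.1 h2.2, key j hj hjj h2.1 h2.2⟩

theorem comm_of_inn (hi : Inn K g z y) : g * y = y * g := by
  have h1 := hi.act y hi.mem
  rw [mul_inv_cancel_right, mul_inv_eq_iff_eq_mul] at h1
  exact h1

/-- a square does not act as a transposition -/
theorem not_trn_sq (hz : z ∈ Z) (hg : g * z = z * g) (ht : Trn K (g * g) z b) : False := by
  have hsq : ∀ {y : G} (hy : y ∈ K z), h.e hz ⟨y, hy⟩ * h.e hz ⟨y, hy⟩ = QuaternionGroup.a 2 ↔ y * y = z := by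
    intro y hy
    rw [← h.e_mul hz hy hy, ← h.e_z hz]
    exact ⟨fun h3 => h.e_inj hz _ _ h3, fun h3 => congrArg (h.e hz) (Subtype.ext h3)⟩
  have hgg : ∀ {x : G} (hx : x ∈ K z), h.rho hz g hg (h.rho hz g hg (h.e hz ⟨x, hx⟩)) =
      h.e hz ⟨(g * g) * x * (g * g)⁻¹, by
        have := h.norm_mem hz hg (h.norm_mem hz hg hx)
        have h1 : (g * g) * x * (g * g)⁻¹ = g * (g * x * g⁻¹) * g⁻¹ := by group
        rw [h1]; exact this⟩ := by
    intro x hx
    rw [h.rho_e hz hg hx, h.rho_e hz hg]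
    exact congrArg (h.e hz) (Subtype.ext (by change g * (g * x * g⁻¹) * g⁻¹ = _; group))
  refine QEight.sq_trn (h.rho hz g hg) (h.e hz ⟨b, ht.mem⟩) ⟨(hsq ht.mem).2 ht.sq, ?_, ?_⟩
  · change h.rho hz g hg (h.rho hz g hg _) = _
    rw [hgg ht.mem, ← h.e_inv hz ht.mem]
    exact congrArg (h.e hz) (Subtype.ext ht.inv)
  · intro q hq h1 h2
    obtain ⟨c, hc, rfl⟩ := h.exists_e hz q
    change h.rho hz g hg (h.rho hz g hg _) ≠ _ ∧ h.rho hz g hg (h.rho hz g hg _) ≠ _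
    rw [hgg hc]
    obtain ⟨h3, h4⟩ := ht.ne c hc ((hsq hc).1 hq) (fun h5 => h1 (congrArg (h.e hz) (Subtype.ext h5)))
      (fun h5 => h2 (by rw [← h.e_inv hz ht.mem]; exact congrArg (h.e hz) (Subtype.ext h5)))
    exact ⟨fun h5 => h3 (h.e_inj hz _ _ h5), fun h5 => h4 (by
      rw [← h.e_inv hz hc] at h5
      exact h.e_inj hz _ _ h5)⟩

/-- **the trichotomy** for commuting elements -/
theorem tri (hz : z ∈ Z) (hu : u ∈ Z) (hne : z ≠ u) (hc : z * u = u * z) : CP K z u ∨ TI K z u ∨ TS K z u := by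
  have hone : ∀ {a b : G}, a ∈ Z → Cen K (a * a) b := fun ha k _ => by rw [h.sq _ ha, one_mul, mul_one]
  rcases h.inv_cases hz hc.symm (hone hu) with h1 | ⟨y, h1⟩ | ⟨y, h1⟩
  · exact Or.inl (h.csymm hz hu hne h1)
  · rcases h.inv_cases hu hc (hone hz) with h2 | ⟨y', h2⟩ | ⟨y', h2⟩
    · exact Or.inl (h.csymm hu hz hne.symm h2).symm
    · exact Or.inr (Or.inl ⟨y, y', h1, h2⟩)
    · exfalso
      rw [← h1.sq] at h2
      exact h.not_trn_sq hu (h.comm_of_inn h1).symm h2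
  · rcases h.inv_cases hu hc (hone hz) with h2 | ⟨y', h2⟩ | ⟨y', h2⟩
    · exact Or.inl (h.csymm hu hz hne.symm h2).symm
    · exfalso
      rw [← h2.sq] at h1
      exact h.not_trn_sq hz (h.comm_of_inn h2).symm h1
    · exact Or.inr (Or.inr ⟨y, y', h1, h2⟩)

/-- an element acting as a non-trivial inner automorphism does not centralise -/
theorem not_cen_of_inn (hz : z ∈ Z) (hi : Inn K g z y) : ¬ Cen K g z := by
  intro hc
  obtain ⟨c, hcK, hcc, -, -, hyc, -⟩ := h.exists_inv hz hi.mem hi.sq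
  have h1 := hi.act c hcK
  rw [hc c hcK, mul_inv_cancel_right, hyc] at h1
  have h2 : c * c = 1 := by
    nth_rewrite 1 [h1]
    exact inv_mul_cancel c
  rw [hcc] at h2
  exact h.ne z hz h2

theorem not_cen_of_trn (hz : z ∈ Z) (hi : Trn K g z b) : ¬ Cen K g z := by
  intro hc
  have h1 := hi.inv
  rw [hc b hi.mem, mul_inv_cancel_right] at h1
  have h2 : b * b = 1 := by
    nth_rewrite 1 [h1]
    exact inv_mul_cancel b
  rw [hi.sq] at h2
  exact h.ne z hz h2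

theorem not_inn_trn (hz : z ∈ Z) (hi : Inn K g z y) (ht : Trn K g z b) : False := by
  have h1 := ht.inv
  rw [hi.act b ht.mem] at h1
  -- `y b y⁻¹ = b⁻¹`, so `y ≠ b^±1`; `y` is fixed by `g`
  have hyb : y ≠ b := by
    rintro rfl
    rw [mul_inv_cancel_right] at h1
    have h2 : y * y = 1 := by
      nth_rewrite 1 [h1]
      exact inv_mul_cancel y
    rw [hi.sq] at h2
    exact h.ne z hz h2
  have hyb' : y ≠ b⁻¹ := by
    rintro rfl
    rw [inv_mul_cancel, one_mul, inv_inv] at h1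
    have h2 : b * b = 1 := by
      nth_rewrite 1 [h1]
      exact inv_mul_cancel b
    rw [ht.sq] at h2
    exact h.ne z hz h2
  have h2 := (ht.ne y hi.mem hi.sq hyb hyb').1
  rw [hi.act y hi.mem, mul_inv_cancel_right] at h2
  exact h2 rfl

theorem ti_not_cp (hz : z ∈ Z) (hu : u ∈ Z) (hi : TI K z u) : ¬ CP K z u := by
  obtain ⟨y, y', h1, -⟩ := hi
  exact fun hc => h.not_cen_of_inn hz h1 (h.cen_of_cp hu hc)

theorem ts_not_cp (hz : z ∈ Z) (hu : u ∈ Z) (hi : TS K z u) : ¬ CP K z u := by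
  obtain ⟨y, y', h1, -⟩ := hi
  exact fun hc => h.not_cen_of_trn hz h1 (h.cen_of_cp hu hc)

theorem ti_not_ts (hz : z ∈ Z) (hi : TI K z u) : ¬ TS K z u := by
  obtain ⟨y, y', h1, -⟩ := hi
  rintro ⟨b, b', h2, -⟩
  exact h.not_inn_trn hz h1 h2

/-- an N-pair has type I or TS -/
theorem np_cases (hz : z ∈ Z) (hu : u ∈ Z) (hn : NP K z u) : TI K z u ∨ TS K z u :=
  (h.tri hz hu hn.1 hn.2.1).resolve_left hn.2.2

/-- `u` inverts an element of order 4 of `K z`; it moves `u` to `z u` -/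
theorem flip (hz : z ∈ Z) (hu : u ∈ Z) (hn : NP K z u) :
    ∃ c ∈ K z, c * c = z ∧ u * c * u⁻¹ = c⁻¹ ∧ c * u * c⁻¹ = z * u ∧ c⁻¹ * u * c = z * u := by
  have key : ∃ c ∈ K z, c * c = z ∧ u * c * u⁻¹ = c⁻¹ := by
    rcases h.np_cases hz hu hn with ⟨y, y', h1, -⟩ | ⟨b, b', h1, -⟩
    · obtain ⟨c, hc, hcc, -, -, hyc, -⟩ := h.exists_inv hz h1.mem h1.sq
      exact ⟨c, hc, hcc, by rw [h1.act c hc, hyc]⟩
    · exact ⟨b, h1.mem, h1.sq, h1.inv⟩
  obtain ⟨c, hc, hcc, h1⟩ := key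
  have h2 : u * c⁻¹ * u⁻¹ = c := by
    have : u * c⁻¹ * u⁻¹ = (u * c * u⁻¹)⁻¹ := by group
    rw [this, h1, inv_inv]
  refine ⟨c, hc, hcc, h1, ?_, ?_⟩
  · calc c * u * c⁻¹ = c * (u * c⁻¹ * u⁻¹) * u := by group
      _ = z * u := by rw [h2, hcc]
  · have h3 : c⁻¹ * c⁻¹ = z := by rw [← mul_inv_rev, hcc, h.inv hz]
    calc c⁻¹ * u * c = c⁻¹ * (u * c * u⁻¹) * u := by group
      _ = z * u := by rw [h1, h3]

theorem mul_mem_of_np (hz : z ∈ Z) (hu : u ∈ Z) (hn : NP K z u) : z * u ∈ Z := by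
  obtain ⟨c, -, -, -, h1, -⟩ := h.flip hz hu hn
  rw [← h1]
  exact h.conjZ u hu c

/-- **(1.1)** -/
theorem ti_act (hz : z ∈ Z) {c : G} (hi : Inn K u z y) (hcc : c * c = u) (hcz : c * z = z * c) :
    c * y * c⁻¹ = y ∧ ∀ b ∈ K z, b * b = z → b ≠ y → b ≠ y⁻¹ → c * b * c⁻¹ ≠ b ∧ c * b * c⁻¹ ≠ b⁻¹ := by
  have h2 : ∀ b ∈ K z, b * b = z → b ≠ y → b ≠ y⁻¹ → c * b * c⁻¹ ≠ b ∧ c * b * c⁻¹ ≠ b⁻¹ := by
    intro b hb hbb hby hby'
    have h3 : c * (c * b * c⁻¹) * c⁻¹ = b⁻¹ := by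
      rw [← h.inv_of_ne hz hi.mem hi.sq hb hbb hby hby', ← hi.act b hb, ← hcc]; group
    have h4 : b⁻¹ ≠ b := by
      intro h5
      have h6 : b * b = 1 := by
        nth_rewrite 1 [← h5]
        exact inv_mul_cancel b
      rw [hbb] at h6
      exact h.ne z hz h6
    constructor
    · intro h5
      rw [h5, h5] at h3
      exact h4 h3.symm
    · intro h5
      have h6 : c * b⁻¹ * c⁻¹ = b := by
        have : c * b⁻¹ * c⁻¹ = (c * b * c⁻¹)⁻¹ := by group
        rw [this, h5, inv_inv]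
      rw [h5, h6] at h3
      exact h4 h3.symm
  refine ⟨?_, h2⟩
  -- `c y c⁻¹` is one of the elements inverted neither.. : use the model
  have hc2 : (c * c) * z = z * (c * c) := by rw [mul_assoc, hcz, ← mul_assoc, hcz, mul_assoc]
  have hsq : h.e hz ⟨y, hi.mem⟩ * h.e hz ⟨y, hi.mem⟩ = QuaternionGroup.a 2 := by
    rw [← h.e_mul hz hi.mem hi.mem, ← h.e_z hz]
    exact congrArg (h.e hz) (Subtype.ext hi.sq)
  have h3 := QEight.sq_inn (h.rho hz c hcz) (h.e hz ⟨y, hi.mem⟩) hsq (by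
    intro p
    obtain ⟨x, hx, rfl⟩ := h.exists_e hz p
    rw [h.rho_e hz hcz hx, h.rho_e hz hcz, ← h.e_mul hz hi.mem hx, ← h.e_inv hz hi.mem,
      ← h.e_mul hz (mul_mem hi.mem hx) (inv_mem hi.mem)]
    refine congrArg (h.e hz) (Subtype.ext ?_)
    change c * (c * x * c⁻¹) * c⁻¹ = y * x * y⁻¹
    rw [← hi.act x hx, ← hcc]; group)
  rw [h.rho_e hz hcz hi.mem] at h3
  exact h.e_inj hz _ _ h3

/-- **(1.1)** : an element of order 4 of `K u` centralises `z` -/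
theorem ti_four (hi : TI K z u) : ∃ c ∈ K u, c * c = u ∧ c * z = z * c := by
  obtain ⟨y, y', -, h2⟩ := hi
  exact ⟨y', h2.mem, h2.sq, (h.comm_of_inn h2).symm⟩

end act

/-! ### Conjugation -/

section conj

include h

theorem mem_K_conj (hz : z ∈ Z) (g : G) : x ∈ K (g * z * g⁻¹) ↔ g⁻¹ * x * g ∈ K z := by
  rw [h.conjK z hz g, mem_cj]

theorem conj_mem_K (hz : z ∈ Z) (g : G) (hx : x ∈ K z) : g * x * g⁻¹ ∈ K (g * z * g⁻¹) := by
  rw [h.conjK z hz g]
  exact conj_mem_cj hx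

theorem cen_conj (hz : z ∈ Z) (g : G) (hc : Cen K x z) : Cen K (g * x * g⁻¹) (g * z * g⁻¹) := by
  intro k hk
  have h1 := hc _ ((h.mem_K_conj hz g).1 hk)
  calc g * x * g⁻¹ * k = g * (x * (g⁻¹ * k * g)) * g⁻¹ := by group
    _ = g * ((g⁻¹ * k * g) * x) * g⁻¹ := by rw [h1]
    _ = k * (g * x * g⁻¹) := by group

theorem np_conj (hz : z ∈ Z) (hu : u ∈ Z) (g : G) (hn : NP K z u) : NP K (g * z * g⁻¹) (g * u * g⁻¹) := by
  refine ⟨fun h1 => hn.1 ?_, ?_, fun h1 => hn.2.2 ((h.cp_conj_iff hz hu g).1 h1)⟩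
  · have h2 : g * z = g * u := mul_right_cancel h1
    exact mul_left_cancel h2
  · calc g * z * g⁻¹ * (g * u * g⁻¹) = g * (z * u) * g⁻¹ := by group
      _ = g * (u * z) * g⁻¹ := by rw [hn.2.1]
      _ = g * u * g⁻¹ * (g * z * g⁻¹) := by group

theorem inn_conj (hz : z ∈ Z) (g : G) (hi : Inn K x z y) : Inn K (g * x * g⁻¹) (g * z * g⁻¹) (g * y * g⁻¹) := by
  refine ⟨h.conj_mem_K hz g hi.mem, ?_, ?_⟩
  · rw [← hi.sq]; group
  · intro k hk
    have h1 := hi.act _ ((h.mem_K_conj hz g).1 hk)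
    calc g * x * g⁻¹ * k * (g * x * g⁻¹)⁻¹ = g * (x * (g⁻¹ * k * g) * x⁻¹) * g⁻¹ := by group
      _ = g * (y * (g⁻¹ * k * g) * y⁻¹) * g⁻¹ := by rw [h1]
      _ = _ := by group

theorem trn_conj (hz : z ∈ Z) (g : G) (hi : Trn K x z b) : Trn K (g * x * g⁻¹) (g * z * g⁻¹) (g * b * g⁻¹) := by
  refine ⟨h.conj_mem_K hz g hi.mem, ?_, ?_, ?_⟩
  · rw [← hi.sq]; group
  · calc g * x * g⁻¹ * (g * b * g⁻¹) * (g * x * g⁻¹)⁻¹ = g * (x * b * x⁻¹) * g⁻¹ := by group
      _ = (g * b * g⁻¹)⁻¹ := by rw [hi.inv]; group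
  · intro c hc hcc h1 h2
    obtain ⟨h3, h4⟩ := hi.ne _ ((h.mem_K_conj hz g).1 hc) (by
      have : g⁻¹ * c * g * (g⁻¹ * c * g) = g⁻¹ * (c * c) * g := by group
      rw [this, hcc]; group) (fun h5 => h1 (by rw [← h5]; group)) (fun h5 => h2 (by
        have : c = g * (g⁻¹ * c * g) * g⁻¹ := by group
        rw [this, h5]; group))
    refine ⟨fun h5 => h3 ?_, fun h5 => h4 ?_⟩
    · calc x * (g⁻¹ * c * g) * x⁻¹ = g⁻¹ * (g * x * g⁻¹ * c * (g * x * g⁻¹)⁻¹) * g := by group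
        _ = g⁻¹ * c * g := by rw [h5]
    · calc x * (g⁻¹ * c * g) * x⁻¹ = g⁻¹ * (g * x * g⁻¹ * c * (g * x * g⁻¹)⁻¹) * g := by group
        _ = (g⁻¹ * c * g)⁻¹ := by rw [h5]; group

theorem ti_conj (hz : z ∈ Z) (hu : u ∈ Z) (g : G) (hi : TI K z u) : TI K (g * z * g⁻¹) (g * u * g⁻¹) := by
  obtain ⟨y, y', h1, h2⟩ := hi
  exact ⟨_, _, h.inn_conj hz g h1, h.inn_conj hu g h2⟩

theorem ts_conj (hz : z ∈ Z) (hu : u ∈ Z) (g : G) (hi : TS K z u) : TS K (g * z * g⁻¹) (g * u * g⁻¹) := by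
  obtain ⟨y, y', h1, h2⟩ := hi
  exact ⟨_, _, h.trn_conj hz g h1, h.trn_conj hu g h2⟩

/-- **(1.2)** -/
theorem np_mul (hz : z ∈ Z) (hu : u ∈ Z) (hn : NP K z u) : NP K z (z * u) := by
  obtain ⟨c, hc, -, -, h1, -⟩ := h.flip hz hu hn
  have h2 := h.np_conj hz hu c hn
  rwa [h1, h.cent hz hc, mul_inv_cancel_right] at h2

theorem ti_mul (hz : z ∈ Z) (hu : u ∈ Z) (hi : TI K z u) (hn : NP K z u) : TI K z (z * u) := by
  obtain ⟨c, hc, -, -, h1, -⟩ := h.flip hz hu hn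
  have h2 := h.ti_conj hz hu c hi
  rwa [h1, h.cent hz hc, mul_inv_cancel_right] at h2

theorem ts_mul (hz : z ∈ Z) (hu : u ∈ Z) (hi : TS K z u) (hn : NP K z u) : TS K z (z * u) := by
  obtain ⟨c, hc, -, -, h1, -⟩ := h.flip hz hu hn
  have h2 := h.ts_conj hz hu c hi
  rwa [h1, h.cent hz hc, mul_inv_cancel_right] at h2

/-- the product of two elements of a C-pair commutes with both.. and is not `1` -/
theorem cp_mul_ne (hu : u ∈ Z) (hc : CP K z u) : z * u ≠ 1 := fun h1 =>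
  hc.1 (by rw [mul_eq_one_iff_eq_inv] at h1; rw [h1, h.inv hu])

end conj

/-! ### Cliques and `T_S` -/

section clique

theorem mem_CS {S : Subgroup G} : z ∈ CS Z K S ↔ z ∈ Z ∧ K z ≤ S := Iff.rfl

include h

/-- a clique lies in a 2-group -/
theorem isPGroup_clique [Finite G] (A : Finset G) (hA : ∀ z ∈ A, z ∈ Z)
    (hc : ∀ z ∈ A, ∀ u ∈ A, z ≠ u → CP K z u) : IsPGroup 2 (⨆ z ∈ A, K z : Subgroup G) := by
  classical
  induction A using Finset.induction_on with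
  | empty =>
    have h1 : (⨆ z ∈ (∅ : Finset G), K z : Subgroup G) = ⊥ := by simp
    rw [h1]
    exact IsPGroup.of_bot
  | insert a A ha ih =>
    rw [Finset.iSup_insert]
    have h1 := ih (fun z hz => hA z (Finset.mem_insert_of_mem hz)) fun z hz u hu =>
      hc z (Finset.mem_insert_of_mem hz) u (Finset.mem_insert_of_mem hu)
    refine IsPGroup.to_sup_of_normal_right' (h.two (hA a (Finset.mem_insert_self a A))) h1 ?_
    -- `K a` centralises the other members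
    have h2 : (⨆ z ∈ A, K z : Subgroup G) ≤ centralizer (K a : Set G) := by
      refine iSup₂_le fun z hz b hb => mem_centralizer_iff.2 fun c hcK => ?_
      exact (hc a (Finset.mem_insert_self a A) z (Finset.mem_insert_of_mem hz) (by
        rintro rfl; exact ha hz)).2 c hcK b hb
    intro c hcK
    rw [mem_normalizer_iff]
    intro x
    have h3 : ∀ x ∈ (⨆ z ∈ A, K z : Subgroup G), c * x * c⁻¹ = x := fun x hx => by
      rw [mem_centralizer_iff.1 (h2 hx) c hcK, mul_inv_cancel_right]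
    constructor
    · intro hx
      rw [h3 x hx]; exact hx
    · intro hx
      have h4 : x = c⁻¹ * (c * x * c⁻¹) * c := by group
      have h5 : c⁻¹ * (c * x * c⁻¹) * c = c * x * c⁻¹ := by
        have h6 := mem_centralizer_iff.1 (h2 hx) c⁻¹ (inv_mem hcK)
        rw [h6, inv_mul_cancel_right]
      rw [h4, h5]; exact hx

theorem cj_CS (g : G) (S : Subgroup G) (hz : z ∈ Z) : g * z * g⁻¹ ∈ CS Z K (cj g S) ↔ z ∈ CS Z K S := by
  rw [mem_CS, mem_CS, h.conjK z hz g, cj_le_cj]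
  exact ⟨fun h1 => ⟨hz, h1.2⟩, fun h1 => ⟨h.conjZ z hz g, h1.2⟩⟩

theorem ncard_CS_cj [Finite G] (g : G) (S : Subgroup G) : (CS Z K (cj g S)).ncard = (CS Z K S).ncard := by
  have h1 : CS Z K (cj g S) = (fun x => g * x * g⁻¹) '' CS Z K S := by
    ext x
    constructor
    · intro hx
      have hx' : x = g * (g⁻¹ * x * g) * g⁻¹ := by group
      have hxZ : g⁻¹ * x * g ∈ Z := by
        have := h.conjZ x hx.1 g⁻¹
        rwa [inv_inv] at this
      refine ⟨g⁻¹ * x * g, ?_, hx'.symm⟩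
      rw [hx'] at hx
      exact (h.cj_CS g S hxZ).1 hx
    · rintro ⟨y, hy, rfl⟩
      exact (h.cj_CS g S hy.1).2 hy
  rw [h1]
  refine Set.ncard_image_of_injective _ fun a b hab => ?_
  exact mul_left_cancel (mul_right_cancel hab)

/-- `C_S` is a maximal clique -/
theorem mem_CS_of_clique [Finite G] (S : Sylow 2 G) (hu : u ∈ Z) (hc : ∀ z ∈ CS Z K S, z = u ∨ CP K z u) :
    u ∈ CS Z K S := by
  classical
  haveI : Fact (Nat.Prime 2) := ⟨Nat.prime_two⟩
  by_contra hn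
  have hfin : (CS Z K (S : Subgroup G)).Finite := Set.toFinite _
  set A : Finset G := insert u hfin.toFinset with hA
  have hAZ : ∀ z ∈ A, z ∈ Z := by
    intro z hz
    rw [hA, Finset.mem_insert, Set.Finite.mem_toFinset] at hz
    rcases hz with rfl | hz
    · exact hu
    · exact hz.1
  have hcS : ∀ z ∈ CS Z K (S : Subgroup G), CP K z u := fun z hz => (hc z hz).resolve_left (by
    rintro rfl; exact hn hz)
  have hAc : ∀ z ∈ A, ∀ v ∈ A, z ≠ v → CP K z v := by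
    intro z hz v hv hne
    rw [hA, Finset.mem_insert, Set.Finite.mem_toFinset] at hz hv
    rcases hz with rfl | hz <;> rcases hv with rfl | hv
    · exact absurd rfl hne
    · exact (hcS v hv).symm
    · exact hcS z hz
    · exact h.com hz.1 hv.1 S.isPGroup' hz.2 hv.2 hne
  obtain ⟨S', hS'⟩ := (h.isPGroup_clique A hAZ hAc).exists_le_sylow
  obtain ⟨g, hg⟩ := MulAction.exists_smul_eq G S S'
  have hgS : (S' : Subgroup G) = cj g S := by
    rw [← hg]
    rfl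
  have h1 : (CS Z K (S' : Subgroup G)).ncard = (CS Z K (S : Subgroup G)).ncard := by
    rw [hgS]
    exact h.ncard_CS_cj g S
  have h2 : (A : Set G) ⊆ CS Z K (S' : Subgroup G) := fun z hz =>
    ⟨hAZ z hz, (le_iSup₂ (f := fun z (_ : z ∈ A) => K z) z hz).trans hS'⟩
  have h3 := Set.ncard_le_ncard h2 (Set.toFinite _)
  rw [Set.ncard_coe_finset, hA, Finset.card_insert_of_notMem (by rw [Set.Finite.mem_toFinset]; exact hn), h1,
    Set.ncard_eq_toFinset_card _ hfin] at h3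
  omega

theorem TT_cen {S : Subgroup G} [Finite G] (hS : IsPGroup 2 S) (hz : z ∈ CS Z K S) (hx : x ∈ TT Z K S) :
    Cen K x z := by
  have h1 : TT Z K S ≤ centralizer (K z : Set G) := by
    refine (closure_le _).2 fun u hu => mem_centralizer_iff.2 fun k hk => ?_
    by_cases hne : z = u
    · subst hne
      exact h.cent hz.1 hk
    · exact (h.com hz.1 hu.1 hS hz.2 hu.2 hne).2 k hk u (h.mem u hu.1)
  exact fun k hk => (mem_centralizer_iff.1 (h1 hx) k hk).symm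

theorem TT_comm {S : Subgroup G} [Finite G] (hS : IsPGroup 2 S) (hx : x ∈ TT Z K S) (hy : y ∈ TT Z K S) :
    x * y = y * x := by
  have h1 : TT Z K S ≤ centralizer ({x} : Set G) := by
    refine (closure_le _).2 fun u hu => mem_centralizer_singleton_iff.2 ?_
    exact (h.TT_cen hS hu hx u (h.mem u hu.1)).symm
  exact (mem_centralizer_singleton_iff.1 (h1 hy)).symm

theorem TT_sq {S : Subgroup G} [Finite G] (hS : IsPGroup 2 S) (hx : x ∈ TT Z K S) : x * x = 1 := by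
  refine closure_induction (p := fun x _ => x * x = 1) ?_ ?_ ?_ ?_ hx
  · exact fun u hu => h.sq u hu.1
  · rw [one_mul]
  · intro a b ha hb h1 h2
    calc a * b * (a * b) = a * (b * a) * b := by group
      _ = (a * a) * (b * b) := by rw [h.TT_comm hS hb ha]; group
      _ = 1 := by rw [h1, h2, one_mul]
  · intro a _ h1
    rw [← mul_inv_rev, h1, inv_one]

/-- `T_S ⊓ Z = C_S` -/
theorem mem_CS_of_mem_TT [Finite G] (S : Sylow 2 G) (hu : u ∈ Z) (hT : u ∈ TT Z K S) : u ∈ CS Z K S :=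
  h.mem_CS_of_clique S hu fun _ hz => (h.cen_iff hz.1 hu).1 (h.TT_cen S.isPGroup' hz hT)

theorem TT_le {S : Subgroup G} : TT Z K S ≤ S := (closure_le _).2 fun u hu => hu.2 (h.mem u hu.1)

/-- a C-pair lies in a Sylow subgroup -/
theorem exists_sylow_of_cp [Finite G] (hz : z ∈ Z) (hu : u ∈ Z) (hc : CP K z u) :
    ∃ S : Sylow 2 G, z ∈ CS Z K S ∧ u ∈ CS Z K S := by
  classical
  obtain ⟨S, hS⟩ := (h.isPGroup_clique {z, u} (by
    intro x hx
    rw [Finset.mem_insert, Finset.mem_singleton] at hx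
    rcases hx with rfl | rfl
    · exact hz
    · exact hu) (by
    intro x hx y hy hne
    rw [Finset.mem_insert, Finset.mem_singleton] at hx hy
    rcases hx with rfl | rfl <;> rcases hy with rfl | rfl
    · exact absurd rfl hne
    · exact hc
    · exact hc.symm
    · exact absurd rfl hne)).exists_le_sylow
  exact ⟨S, ⟨hz, (le_iSup₂ (f := fun x (_ : x ∈ ({z, u} : Finset G)) => K x) z (by simp)).trans hS⟩,
    ⟨hu, (le_iSup₂ (f := fun x (_ : x ∈ ({z, u} : Finset G)) => K x) u (by simp)).trans hS⟩⟩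

/-- `z` lies in some `C_S` -/
theorem exists_sylow [Finite G] (hz : z ∈ Z) : ∃ S : Sylow 2 G, z ∈ CS Z K S := by
  obtain ⟨S, hS⟩ := (h.two hz).exists_le_sylow
  exact ⟨S, hz, hS⟩

end clique

end W

/-! ### Normal closures -/

section nc

variable {Z : Set G} {K : G → Subgroup G} {s y g : G}

theorem self_mem_NC : y ∈ NC s y := subset_closure ⟨1, by rw [one_mul, mul_one], by group⟩

theorem conj_mem_NC (hg : g * s = s * g) : g * y * g⁻¹ ∈ NC s y := subset_closure ⟨g, hg, rfl⟩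

theorem cj_NC (hg : g * s = s * g) : cj g (NC s y) = NC s y := by
  have key : ∀ {g : G}, g * s = s * g → cj g (NC s y) ≤ NC s y := by
    intro g hg
    rw [cj, map_le_iff_le_comap]
    refine (closure_le _).2 ?_
    rintro _ ⟨f, hf, rfl⟩
    change g * (f * y * f⁻¹) * g⁻¹ ∈ NC s y
    have h1 : g * (f * y * f⁻¹) * g⁻¹ = (g * f) * y * (g * f)⁻¹ := by group
    rw [h1]
    refine conj_mem_NC ?_
    rw [mul_assoc, hf, ← mul_assoc, hg, mul_assoc]
  refine le_antisymm (key hg) ?_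
  have h1 : g⁻¹ * s = s * g⁻¹ := by rw [inv_mul_eq_iff_eq_mul, ← mul_assoc, hg, mul_inv_cancel_right]
  have h2 := cj_mono g (key h1)
  rwa [cj_cj_inv] at h2

theorem mem_NC_conj (hg : g * s = s * g) {x : G} (hx : x ∈ NC s y) : g * x * g⁻¹ ∈ NC s y := by
  rw [← cj_NC (y := y) hg]
  exact conj_mem_cj hx

theorem NC_le (hy : y * s = s * y) : NC s y ≤ centralizer {s} := by
  refine (closure_le _).2 ?_
  rintro _ ⟨g, hg, rfl⟩
  rw [SetLike.mem_coe, mem_centralizer_singleton_iff]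
  have h1 : g⁻¹ * s = s * g⁻¹ := by rw [inv_mul_eq_iff_eq_mul, ← mul_assoc, hg, mul_inv_cancel_right]
  calc g * y * g⁻¹ * s = g * y * (g⁻¹ * s) := by group
    _ = g * (y * s) * g⁻¹ := by rw [h1]; group
    _ = g * s * y * g⁻¹ := by rw [hy]; group
    _ = s * (g * y * g⁻¹) := by rw [hg]; group

/-- `NC s y` is a 2-group -/
theorem NC_two (ha : AN Z K s) (hy : y ∈ ZC Z K s) : IsPGroup 2 (NC s y) := by
  obtain ⟨N, -, hN, h2, hyN⟩ := ha y hy.1 hy.2
  refine h2.to_le ((closure_le _).2 ?_)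
  rintro _ ⟨g, hg, rfl⟩
  exact (mem_normalizer_iff.1 (hN (mem_centralizer_singleton_iff.2 hg)) y).1 hyN

end nc

end Cfsg.Agent.Cit.Nil.ROne
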