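import Cfsg.Agent.Cit.CorTwo
import Cfsg.Agent.Lib.NormalAbelian
import Mathlib.Data.Nat.Multiplicity

/-!
# `r = 1`: the count of step (4) of `AN(s)` (helper472) and of step 9 (helper545)

`Mv Om S S' b` : all members of `Om` are 2-groups with different involutions; `b ∈ S` is an involution normalising no member
of `Om(S)`; the elements `k * b k b⁻¹`, `k ∈ K ∈ Om(S)`, are in `S'`; the nontrivial products of the elements
`z * b z b⁻¹`, `z = zz K`, normalise no member of `Om(S')`.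

**`Mv.false`** : this is impossible. The group `E` generated by the elements `k * b k b⁻¹` is faithful on `Om(S')`, and
`2 ^ m` divides `|E|`, `m = |Om(S)| = |Om(S')|`; but `2 ^ m` does not divide `m!`.
-/

set_option autoImplicit false
set_option linter.style.haveILetI false
set_option linter.unusedSectionVars false

namespace Cfsg.Agent.Cit.ROne

open Subgroup Cfsg Cfsg.Agent.Cit

variable {G : Type*} [Group G]

/-- the centre of a generalised quaternion group -/
theorem GQ_center {Q : Subgroup G} {c v z : G} {n : ℕ} (h : GQ Q c v z n) {x : G} (hx : x ∈ Q) (hc : x * c = c * x)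
    (hv : x * v = v * x) : x = 1 ∨ x = z := by
  by_cases h1 : x = 1
  · exact Or.inl h1
  right
  rcases h.cov x hx with ⟨i, rfl⟩ | ⟨i, rfl⟩
  · refine h.eq_z hx ?_ h1
    have h2 := h.conj_pow i
    rw [← hv] at h2
    exact (eq_inv_iff_mul_eq_one.1 (mul_right_cancel h2))
  · exfalso
    apply h.not_comm
    have h2 : v * c ^ i * c = v * c * c ^ i := by rw [mul_assoc, mul_assoc, ← pow_succ, ← pow_succ']
    rw [h2, ← mul_assoc] at hc
    exact mul_right_cancel hc

/-- a generalised quaternion group has at least 8 elements -/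
theorem GQ_card [Finite G] {Q : Subgroup G} {c v z : G} {n : ℕ} (h : GQ Q c v z n) : 8 ≤ Nat.card Q := by
  have h1 : zpowers c ≤ Q := zpowers_le.2 h.c_mem
  have h2 : Nat.card (zpowers c) = 2 ^ (n + 2) := by rw [Nat.card_zpowers, h.ord]
  obtain ⟨m, hm⟩ := card_dvd_of_le h1
  have h3 : m ≠ 0 := by
    rintro rfl
    rw [mul_zero] at hm
    exact Nat.card_pos.ne' hm
  have h4 : m ≠ 1 := by
    rintro rfl
    rw [mul_one] at hm
    have h5 : zpowers c = Q := Subgroup.eq_of_le_of_card_ge h1 hm.le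
    obtain ⟨i, hi⟩ : v ∈ zpowers c := by rw [h5]; exact h.v_mem
    apply h.not_comm
    have h6 : c ^ i = v := hi
    rw [← h6, ← zpow_add_one, ← zpow_one_add, add_comm]
  have h5 : 4 ≤ 2 ^ (n + 2) := by
    calc 4 = 2 ^ 2 := by norm_num
      _ ≤ 2 ^ (n + 2) := Nat.pow_le_pow_right (by norm_num) (by omega)
  rw [hm, h2]
  have h6 : 2 ≤ m := by omega
  calc 8 = 4 * 2 := by norm_num
    _ ≤ 2 ^ (n + 2) * m := Nat.mul_le_mul h5 h6

section

variable [Finite G] {Om : Set (Subgroup G)} {K L : Subgroup G}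

theorem le_of_OmS {S : Subgroup G} (h : IsPGroup 2 K) (hS : IsPGroup 2 S) (hK : K ∈ OmS Om S) : K ≤ S := by
  have h1 : K ⊓ S = K := Syl.eq_of_le (syl_inf hS hK) inf_le_left le_rfl h
  rw [← h1]
  exact inf_le_right

/-- the centre of a member which is a 2-group -/
theorem eq_of_center (h : Hyp Om) (hK : K ∈ Om) (h2 : IsPGroup 2 K) {x : G} (hx : x ∈ K)
    (hc : ∀ y ∈ K, x * y = y * x) : x = 1 ∨ x = zz K := by
  obtain ⟨c, v, n, hq⟩ := h.exists_gq hK ⟨le_rfl, h2, by rw [relIndex_self]; omega⟩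
  exact GQ_center hq hx (hc c hq.c_mem) (hc v hq.v_mem)

end

/-- see the head of the file -/
structure Mv [Finite G] (Om : Set (Subgroup G)) (S S' : Sylow 2 G) (b : G) : Prop where
  hyp : Hyp Om
  two : ∀ K ∈ Om, IsPGroup 2 K
  inj : ∀ K ∈ Om, ∀ L ∈ Om, zz K = zz L → K = L
  ne : (OmS Om (S : Subgroup G)).Nonempty
  mem : b ∈ (S : Subgroup G)
  sq : b * b = 1
  mv : ∀ K ∈ OmS Om (S : Subgroup G), cj b K ≠ K
  le : ∀ K ∈ OmS Om (S : Subgroup G), ∀ k ∈ K, k * (b * k * b⁻¹) ∈ (S' : Subgroup G)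
  fx : ∀ x ∈ Subgroup.closure {x | ∃ K ∈ OmS Om (S : Subgroup G), x = zz K * (b * zz K * b⁻¹)}, x ≠ 1 →
    ∀ L ∈ OmS Om (S' : Subgroup G), cj x L ≠ L

namespace Mv

variable [Finite G] {Om : Set (Subgroup G)} {S S' : Sylow 2 G} {b : G}

/-- `b` permutes `Om(S)` -/
theorem cj_mem (h : Mv Om S S' b) {K : Subgroup G} (hK : K ∈ OmS Om (S : Subgroup G)) :
    cj b K ∈ OmS Om (S : Subgroup G) := cj_mem_OmS' h.hyp.conj (le_normalizer h.mem) hK

theorem cj_cj (h : Mv Om S S' b) (K : Subgroup G) : cj b (cj b K) = K := by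
  rw [← cj_mul, h.sq, cj_one]

/-- different members of `Om(S)` commute -/
theorem comm (h : Mv Om S S' b) {K L : Subgroup G} (hK : K ∈ OmS Om (S : Subgroup G))
    (hL : L ∈ OmS Om (S : Subgroup G)) (hne : K ≠ L) {x y : G} (hx : x ∈ K) (hy : y ∈ L) : x * y = y * x :=
  h.hyp.comm S.isPGroup' hK hL hne ⟨hx, le_of_OmS (h.two K hK.1) S.isPGroup' hK hx⟩
    ⟨hy, le_of_OmS (h.two L hL.1) S.isPGroup' hL hy⟩

/-- the homomorphism `k ↦ k * b k b⁻¹` -/
def ph (h : Mv Om S S' b) (K : Subgroup G) (hK : K ∈ OmS Om (S : Subgroup G)) : ↥K →* G where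
  toFun k := k * (b * k * b⁻¹)
  map_one' := by simp
  map_mul' x y := by
    have h1 := h.comm (h.cj_mem hK) hK (h.mv K hK) (conj_mem_cj (g := b) x.2) y.2
    change (x : G) * y * (b * (x * y) * b⁻¹) = x * (b * x * b⁻¹) * (y * (b * y * b⁻¹))
    calc (x : G) * y * (b * (x * y) * b⁻¹) = x * (y * (b * x * b⁻¹)) * (b * y * b⁻¹) := by group
      _ = x * ((b * x * b⁻¹) * y) * (b * y * b⁻¹) := by rw [h1]
      _ = _ := by group

theorem ph_apply (h : Mv Om S S' b) {K : Subgroup G} (hK : K ∈ OmS Om (S : Subgroup G)) (k : K) :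
    h.ph K hK k = k * (b * k * b⁻¹) := rfl

theorem ph_comm (h : Mv Om S S' b) {K L : Subgroup G} (hK : K ∈ OmS Om (S : Subgroup G))
    (hL : L ∈ OmS Om (S : Subgroup G)) (h1 : K ≠ L) (h2 : cj b K ≠ L) (x : K) (y : L) :
    Commute (h.ph K hK x) (h.ph L hL y) := by
  have h3 : K ≠ cj b L := fun e => h2 (by rw [e, h.cj_cj])
  have h4 : cj b K ≠ cj b L := fun e => h1 (cj_inj.1 e)
  have c1 : Commute (x : G) y := h.comm hK hL h1 x.2 y.2
  have c2 : Commute (x : G) (b * y * b⁻¹) := h.comm hK (h.cj_mem hL) h3 x.2 (conj_mem_cj y.2)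
  have c3 : Commute (b * x * b⁻¹) (y : G) := h.comm (h.cj_mem hK) hL h2 (conj_mem_cj x.2) y.2
  have c4 : Commute (b * x * b⁻¹) (b * y * b⁻¹) :=
    h.comm (h.cj_mem hK) (h.cj_mem hL) h4 (conj_mem_cj x.2) (conj_mem_cj y.2)
  exact (c1.mul_right c2).mul_left (c3.mul_right c4)

theorem ph_injective (h : Mv Om S S' b) {K : Subgroup G} (hK : K ∈ OmS Om (S : Subgroup G)) :
    Function.Injective (h.ph K hK) := by
  rw [injective_iff_map_eq_one]
  intro k hk
  rw [h.ph_apply hK] at hk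
  have h1 : (k : G)⁻¹ ∈ cj b K := by
    rw [inv_eq_of_mul_eq_one_right hk]
    exact conj_mem_cj k.2
  have h3 : ∀ y ∈ K, (k : G)⁻¹ * y = y * (k : G)⁻¹ := fun y hy => h.comm (h.cj_mem hK) hK (h.mv K hK) h1 hy
  rcases eq_of_center h.hyp hK.1 (h.two K hK.1) (K.inv_mem k.2) h3 with h4 | h4
  · exact Subtype.ext (inv_eq_one.1 h4)
  · exfalso
    have h5 : (k : G) = zz K := by rw [← inv_inv (k : G), h4, h.hyp.zz_inv hK.1]
    rw [h5, mul_eq_one_iff_eq_inv', h.hyp.zz_inv hK.1, ← h.hyp.zz_cj hK.1] at hk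
    exact h.mv K hK (h.inj _ (h.hyp.conj K hK.1 b) K hK.1 hk)

/-- `φ_K` and the elements of `K` -/
theorem comm_of_ph (h : Mv Om S S' b) {K L : Subgroup G} (hK : K ∈ OmS Om (S : Subgroup G))
    (hL : L ∈ OmS Om (S : Subgroup G)) (h1 : K ≠ L) (h2 : cj b K ≠ L) (x : K) {y : G} (hy : y ∈ L) :
    Commute (h.ph K hK x) y := by
  have c1 : Commute (x : G) y := h.comm hK hL h1 x.2 hy
  have c3 : Commute (b * x * b⁻¹) y := h.comm (h.cj_mem hK) hL h2 (conj_mem_cj x.2) hy
  exact c1.mul_left c3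

/-! ### The representatives -/

variable (Om S) in
/-- the members of `Om(S)` -/
abbrev Al : Type _ := ↥(OmS Om (S : Subgroup G))

/-- the action of `b` -/
def sg (h : Mv Om S S' b) (K : Al Om S) : Al Om S := ⟨cj b K.1, h.cj_mem K.2⟩

theorem sg_sg (h : Mv Om S S' b) (K : Al Om S) : h.sg (h.sg K) = K := Subtype.ext (h.cj_cj K.1)

theorem sg_ne (h : Mv Om S S' b) (K : Al Om S) : h.sg K ≠ K := fun e => h.mv K.1 K.2 (congrArg Subtype.val e)

/-- representatives of the orbits of `b` -/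
def Rp (h : Mv Om S S' b) : Type _ := {K : Al Om S // Finite.equivFin _ K < Finite.equivFin _ (h.sg K)}

instance (h : Mv Om S S' b) : Finite h.Rp :=
  inferInstanceAs (Finite {K : Al Om S // Finite.equivFin _ K < Finite.equivFin _ (h.sg K)})

theorem card_le (h : Mv Om S S' b) : Nat.card (Al Om S) ≤ 2 * Nat.card h.Rp := by
  have h1 : Function.Surjective (fun x : h.Rp × Bool => if x.2 then x.1.1 else h.sg x.1.1) := by
    intro K
    rcases lt_trichotomy (Finite.equivFin _ K) (Finite.equivFin _ (h.sg K)) with h2 | h2 | h2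
    · exact ⟨(⟨K, h2⟩, true), rfl⟩
    · exact absurd ((Finite.equivFin _).injective h2).symm (h.sg_ne K)
    · refine ⟨(⟨h.sg K, by rw [h.sg_sg]; exact h2⟩, false), ?_⟩
      change h.sg (h.sg K) = K
      exact h.sg_sg K
  have h2 := Nat.card_le_card_of_surjective _ h1
  rw [Nat.card_prod, Nat.card_eq_fintype_card (α := Bool), Fintype.card_bool] at h2
  omega

theorem Rp.ne (h : Mv Om S S' b) {i j : h.Rp} (hij : i ≠ j) : i.1.1 ≠ j.1.1 := fun e =>
  hij (Subtype.ext (Subtype.ext e))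

theorem Rp.ne' (h : Mv Om S S' b) (i j : h.Rp) : cj b i.1.1 ≠ j.1.1 := by
  intro e
  have h1 : h.sg i.1 = j.1 := Subtype.ext e
  have h2 := i.2
  have h3 := j.2
  rw [← h1, h.sg_sg] at h3
  exact lt_asymm h2 h3

theorem pairwise (h : Mv Om S S' b) : Pairwise fun i j : h.Rp => ∀ (x : i.1.1) (y : j.1.1),
    Commute (h.ph i.1.1 i.1.2 x) (h.ph j.1.1 j.1.2 y) := fun i j hij x y =>
  h.ph_comm i.1.2 j.1.2 (Rp.ne h hij) (Rp.ne' h i j) x y

noncomputable instance (h : Mv Om S S' b) : Fintype h.Rp := Fintype.ofFinite _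

/-- the homomorphism `(k_i) ↦ ∏ k_i * b k_i b⁻¹` -/
noncomputable def Ph (h : Mv Om S S' b) : ((i : h.Rp) → i.1.1) →* G :=
  MonoidHom.noncommPiCoprod (fun i => h.ph i.1.1 i.1.2) h.pairwise

theorem Ph_mem (h : Mv Om S S' b) (H : Subgroup G) (f : (i : h.Rp) → i.1.1)
    (hf : ∀ i, h.ph i.1.1 i.1.2 (f i) ∈ H) : h.Ph f ∈ H := by
  rw [Ph, MonoidHom.noncommPiCoprod_apply]
  exact Subgroup.noncommProd_mem H _ fun i _ => hf i

open Classical in
theorem Ph_eq (h : Mv Om S S' b) (f : (i : h.Rp) → i.1.1) (j : h.Rp) :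
    h.Ph f = h.ph j.1.1 j.1.2 (f j) * h.Ph (Function.update f j 1) := by
  have h1 : f = Pi.mulSingle j (f j) * Function.update f j 1 := by
    ext i
    by_cases hij : i = j
    · subst hij
      simp
    · simp [hij]
  conv_lhs => rw [h1, map_mul]
  congr 1
  exact MonoidHom.noncommPiCoprod_mulSingle (ϕ := fun i : h.Rp => h.ph i.1.1 i.1.2) (hcomm := h.pairwise) j (f j)

/-- an element of `Π K_i` whose image commutes with the image of `K_j` -/
theorem eq_of_comm (h : Mv Om S S' b) {f : (i : h.Rp) → i.1.1} (j : h.Rp)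
    (hf : ∀ l : j.1.1, Commute (h.Ph f) (h.ph j.1.1 j.1.2 l)) : (f j : G) = 1 ∨ (f j : G) = zz j.1.1 := by
  classical
  have h1 : ∀ l : j.1.1, Commute (h.Ph (Function.update f j 1)) (h.ph j.1.1 j.1.2 l) := by
    intro l
    have h2 : h.Ph (Function.update f j 1) ∈ centralizer {h.ph j.1.1 j.1.2 l} := by
      refine h.Ph_mem _ _ fun i => ?_
      rw [mem_centralizer_singleton_iff]
      by_cases hij : i = j
      · subst hij
        simp
      · rw [Function.update_of_ne hij]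
        exact ((h.ph_comm i.1.2 j.1.2 (Rp.ne h hij) (Rp.ne' h i j) _ _).symm).symm
    rw [mem_centralizer_singleton_iff] at h2
    exact h2
  have h3 : ∀ l : j.1.1, Commute (h.ph j.1.1 j.1.2 (f j)) (h.ph j.1.1 j.1.2 l) := by
    intro l
    have h4 : h.ph j.1.1 j.1.2 (f j) = h.Ph f * (h.Ph (Function.update f j 1))⁻¹ := by
      rw [h.Ph_eq f j, mul_inv_cancel_right]
    rw [h4]
    exact (hf l).mul_left (h1 l).inv_left
  refine eq_of_center h.hyp j.1.2.1 (h.two _ j.1.2.1) (f j).2 fun y hy => ?_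
  have h5 := h3 ⟨y, hy⟩
  have h6 : f j * ⟨y, hy⟩ = ⟨y, hy⟩ * f j := by
    apply h.ph_injective j.1.2
    rw [map_mul, map_mul]
    exact h5
  exact congrArg Subtype.val h6

/-- the order of the kernel -/
theorem card_ker_le (h : Mv Om S S' b) : Nat.card h.Ph.ker ≤ 2 ^ Nat.card h.Rp := by
  classical
  have h1 : Function.Injective (fun (f : h.Ph.ker) (i : h.Rp) => decide (f.1 i = 1)) := by
    intro f g hfg
    refine Subtype.ext (funext fun i => ?_)
    have hf := h.eq_of_comm (f := f.1) i fun l => by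
      rw [(MonoidHom.mem_ker).1 f.2]
      exact Commute.one_left _
    have hg := h.eq_of_comm (f := g.1) i fun l => by
      rw [(MonoidHom.mem_ker).1 g.2]
      exact Commute.one_left _
    have h2 := congrFun hfg i
    simp only [decide_eq_decide] at h2
    rcases hf with hf | hf
    · have h3 : f.1 i = 1 := Subtype.ext hf
      rw [h3, h2.1 h3]
    · rcases hg with hg | hg
      · have h3 : g.1 i = 1 := Subtype.ext hg
        rw [h3, h2.2 h3]
      · exact Subtype.ext (hf.trans hg.symm)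
  refine (Nat.card_le_card_of_injective _ h1).trans ?_
  rw [Nat.card_fun, Nat.card_eq_fintype_card (α := Bool), Fintype.card_bool]

theorem eight_le (h : Mv Om S S' b) (i : h.Rp) : 8 ≤ Nat.card i.1.1 := by
  obtain ⟨c, v, n, hq⟩ := h.hyp.exists_gq i.1.2.1 ⟨le_rfl, h.two _ i.1.2.1, by rw [relIndex_self]; omega⟩
  exact GQ_card hq

theorem isPGroup_range (h : Mv Om S S' b) : IsPGroup 2 h.Ph.range :=
  S'.isPGroup'.to_le (by
    rintro _ ⟨f, rfl⟩
    exact h.Ph_mem _ _ fun i => h.le _ i.1.2 _ (f i).2)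

/-- `2 ^ m` divides the order of the image -/
theorem two_pow_dvd (h : Mv Om S S' b) : 2 ^ Nat.card (Al Om S) ∣ Nat.card h.Ph.range := by
  classical
  have h1 : Nat.card ((i : h.Rp) → i.1.1) = Nat.card h.Ph.ker * Nat.card h.Ph.range := by
    rw [← Subgroup.card_mul_index h.Ph.ker, Subgroup.index_ker]
  have h2 : 8 ^ Nat.card h.Rp ≤ Nat.card ((i : h.Rp) → i.1.1) := by
    rw [Nat.card_pi, Nat.card_eq_fintype_card]
    exact Finset.pow_card_le_prod _ _ _ fun i _ => h.eight_le i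
  have h3 := h.card_ker_le
  obtain ⟨e, he⟩ := IsPGroup.iff_card.1 h.isPGroup_range
  rw [he]
  refine pow_dvd_pow 2 ?_
  by_contra hlt
  rw [not_le] at hlt
  have h4 := h.card_le
  have h5 : 2 ^ e < 4 ^ Nat.card h.Rp := by
    have h6 : (4 : ℕ) ^ Nat.card h.Rp = 2 ^ (2 * Nat.card h.Rp) := by rw [pow_mul]; norm_num
    rw [h6]
    exact Nat.pow_lt_pow_right (by norm_num) (by omega)
  rw [h1, he] at h2
  have h7 : (8 : ℕ) ^ Nat.card h.Rp = 2 ^ Nat.card h.Rp * 4 ^ Nat.card h.Rp := by rw [← mul_pow]; norm_num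
  rw [h7] at h2
  have h8 : 0 < 2 ^ Nat.card h.Rp := by positivity
  have h9 : Nat.card h.Ph.ker * 2 ^ e < 2 ^ Nat.card h.Rp * 4 ^ Nat.card h.Rp := by
    calc Nat.card h.Ph.ker * 2 ^ e ≤ 2 ^ Nat.card h.Rp * 2 ^ e := Nat.mul_le_mul_right _ h3
      _ < 2 ^ Nat.card h.Rp * 4 ^ Nat.card h.Rp := Nat.mul_lt_mul_of_pos_left h5 h8
  exact absurd h2 (not_le.2 h9)

/-- the action of `S'` on `Om(S')` -/
noncomputable def act (h : Mv Om S S' b) : ↥(S' : Subgroup G) →* Equiv.Perm (Al Om S') where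
  toFun s :=
    { toFun := fun K => ⟨cj (s : G) K.1, cj_mem_OmS' h.hyp.conj (le_normalizer s.2) K.2⟩
      invFun := fun K => ⟨cj (s : G)⁻¹ K.1, cj_mem_OmS' h.hyp.conj (le_normalizer (inv_mem s.2)) K.2⟩
      left_inv := fun K => Subtype.ext (by
        change cj (s : G)⁻¹ (cj (s : G) K.1) = K.1
        rw [← cj_mul, inv_mul_cancel, cj_one])
      right_inv := fun K => Subtype.ext (by
        change cj (s : G) (cj (s : G)⁻¹ K.1) = K.1
        rw [← cj_mul, mul_inv_cancel, cj_one]) }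
  map_one' := Equiv.ext fun K => Subtype.ext (cj_one K.1)
  map_mul' s t := Equiv.ext fun K => Subtype.ext (cj_mul (s : G) (t : G) K.1)

theorem act_apply (h : Mv Om S S' b) (s : ↥(S' : Subgroup G)) (K : Al Om S') :
    (h.act s K).1 = cj (s : G) K.1 := rfl

theorem range_le (h : Mv Om S S' b) : h.Ph.range ≤ (S' : Subgroup G) := by
  rintro _ ⟨f, rfl⟩
  exact h.Ph_mem _ _ fun i => h.le _ i.1.2 _ (f i).2

/-- `|Om(S)| = |Om(S')|` -/
theorem card_eq (h : Mv Om S S' b) : Nat.card (Al Om S') = Nat.card (Al Om S) := by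
  obtain ⟨g, hg⟩ := MulAction.exists_smul_eq G S S'
  have h1 : (S' : Subgroup G) = cj g (S : Subgroup G) := by
    rw [← hg]
    rfl
  have h2 : OmS Om (S' : Subgroup G) = cj g '' OmS Om (S : Subgroup G) := by
    rw [h1, OmS_cj h.hyp.conj]
  change Nat.card ↥(OmS Om (S' : Subgroup G)) = Nat.card ↥(OmS Om (S : Subgroup G))
  rw [h2]
  exact Nat.card_image_of_injective (fun K L e => cj_inj.1 e) _

/-- **the count** -/
protected theorem false (h : Mv Om S S' b) : False := by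
  classical
  haveI : Nonempty (Al Om S) := h.ne.to_subtype
  have hm : Nat.card (Al Om S) ≠ 0 := Nat.card_pos.ne'
  haveI : Nonempty (Al Om S') := by
    have h1 : Nat.card (Al Om S') ≠ 0 := by rw [h.card_eq]; exact hm
    exact (Nat.card_pos_iff.1 (Nat.pos_of_ne_zero h1)).1
  obtain ⟨L⟩ := this
  -- the action of the image
  let ρ : h.Ph.range →* Equiv.Perm (Al Om S') := h.act.comp (inclusion h.range_le)
  have hinj : ρ.ker = ⊥ := by
    by_contra hne
    haveI := h.isPGroup_range.isNilpotent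
    obtain ⟨x, hx, hx1⟩ := (Subgroup.bot_or_exists_ne_one _).resolve_left
      (Lib.NormalAbelian.normal_inf_center_ne_bot ρ.ker hne)
    obtain ⟨f, hf⟩ := x.2
    have hcen : ∀ y : h.Ph.range, y * x = x * y := mem_center_iff.1 hx.2
    have h3 : ∀ j : h.Rp, (f j : G) = 1 ∨ (f j : G) = zz j.1.1 := by
      intro j
      refine h.eq_of_comm j fun l => ?_
      have h4 : h.ph j.1.1 j.1.2 l ∈ h.Ph.range :=
        ⟨Pi.mulSingle j l, MonoidHom.noncommPiCoprod_mulSingle (ϕ := fun i : h.Rp => h.ph i.1.1 i.1.2)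
          (hcomm := h.pairwise) j l⟩
      rw [hf]
      exact (congrArg Subtype.val (hcen ⟨_, h4⟩)).symm
    have h5 : (x : G) ∈ Subgroup.closure {x | ∃ K ∈ OmS Om (S : Subgroup G), x = zz K * (b * zz K * b⁻¹)} := by
      rw [← hf]
      refine h.Ph_mem _ _ fun i => ?_
      rw [h.ph_apply]
      rcases h3 i with h6 | h6
      · rw [h6]
        simp
      · rw [h6]
        exact subset_closure ⟨_, i.1.2, rfl⟩
    have h7 : (x : G) ≠ 1 := fun e => hx1 (Subtype.ext e)
    refine h.fx x h5 h7 L.1 L.2 ?_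
    have h8 : ρ x = 1 := hx.1
    have h9 := congrArg (fun σ : Equiv.Perm (Al Om S') => (σ L).1) h8
    exact h9
  have h1 : Nat.card h.Ph.range ∣ Nat.card (Equiv.Perm (Al Om S')) :=
    Subgroup.card_dvd_of_injective ρ ((MonoidHom.ker_eq_bot_iff ρ).1 hinj)
  rw [Nat.card_perm, h.card_eq] at h1
  have h2 := h.two_pow_dvd.trans h1
  have h3 := Nat.emultiplicity_two_factorial_lt hm
  exact absurd (le_emultiplicity_of_pow_dvd h2) (not_le.2 h3)

end Mv

end Cfsg.Agent.Cit.ROne
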