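import Cfsg.Agent.Cit.Nil.ROne.QLoc
import Cfsg.Agent.Cit.NilComp

/-!
# S1309, `r = 1`: the T-triple lemma

`exists_qt`, `local_one`, `local_two` : the members as quaternion groups of order eight.
`exists_mul`  : commuting `z ≠ u` in `Z`, `u` not centralising `K_z`: `z u ∈ Z`.
`triple`      : `(x, u)` a C-pair, `z` commuting and non-C with both: `x u ∈ C(K_z)`.
-/

set_option autoImplicit false
set_option linter.unusedSectionVars false

namespace Cfsg.Agent.Cit.ROne

open Subgroup Cfsg Cit SLThree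

variable {G : Type*} [Group G] [Finite G] {Om : Set (Subgroup G)} {K L M : Subgroup G} {x u : G}

theorem two_of_card (h8 : Nat.card K = 8) : IsPGroup 2 K := by
  have : Fact (Nat.Prime 2) := ⟨Nat.prime_two⟩
  exact IsPGroup.iff_card.2 ⟨3, by rw [h8]; norm_num⟩

/-- coordinates for a member of order eight -/
theorem exists_qt (h : Hyp Om) (hK : K ∈ Om) (h8 : Nat.card K = 8) :
    ∃ i j, Qt (zz K) i j ∧ closure ({i, j} : Set G) = K := by
  obtain ⟨c, v, n, hgq⟩ := h.exists_gq hK (syl_self (two_of_card h8))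
  obtain ⟨i, hi, j, hj, hi4, hj4, -, hji⟩ := hgq.exists_pair
  have sq : ∀ a ∈ K, orderOf a = 4 → a * a = zz K := by
    intro a ha ha4
    refine h.eq_zz hK (mul_mem ha ha) ?_ ?_
    · have := pow_orderOf_eq_one a
      rw [ha4] at this
      rw [← this]; simp only [pow_succ, pow_zero, one_mul, mul_assoc]
    · intro h1
      have := orderOf_dvd_of_pow_eq_one (by rw [pow_two]; exact h1 : a ^ 2 = 1)
      rw [ha4] at this
      omega
  have hz : ∀ a ∈ K, a * zz K = zz K * a := fun a ha => h.comm_zz hK (le_normalizer ha)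
  have hq : Qt (zz K) i j :=
    ⟨h.zz_mul hK, h.zz_ne hK, sq i hi hi4, sq j hj hj4, by rw [hji, hz _ (mul_mem hi hj)]⟩
  refine ⟨i, j, hq, ?_⟩
  apply eq_of_le_of_card_ge
  · rw [closure_le]
    rintro y (rfl | rfl)
    · exact hi
    · exact hj
  · rw [h8, hq.card]

/-- `r = 1`: the centraliser of `zz K` normalises `K` -/
theorem centralizer_le (h : Hyp Om) (h1 : ∀ K ∈ Om, ∀ L ∈ Om, zz K = zz L → K = L) (hK : K ∈ Om) :
    centralizer {zz K} ≤ normalizer (K : Set G) := by
  intro g hg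
  rw [mem_normalizer_iff_cj]
  refine h1 _ (h.conj K hK g) _ hK ?_
  rw [h.zz_cj hK, mem_centralizer_singleton_iff.1 hg, mul_inv_cancel_right]

theorem cj_eq (h : Hyp Om) (h1 : ∀ K ∈ Om, ∀ L ∈ Om, zz K = zz L → K = L) (hK : K ∈ Om) {g : G}
    (hg : g * zz K = zz K * g) : cj g K = K :=
  mem_normalizer_iff_cj.1 (centralizer_le h h1 hK (mem_centralizer_singleton_iff.2 hg))

/-- two commuting involutions of `C(z)` on `K_z` -/
theorem local_two (h : Hyp Om) (h1 : ∀ K ∈ Om, ∀ L ∈ Om, zz K = zz L → K = L) (hK : K ∈ Om)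
    (h8 : Nat.card K = 8) (hx : x * zz K = zz K * x) (hu : u * zz K = zz K * u) (hx2 : x * x = 1)
    (hu2 : u * u = 1) (hxu : x * u = u * x) :
    (∀ k ∈ K, (x * u) * k = k * (x * u)) ∨
      ∃ a ∈ K, a * a = zz K ∧
        ((a * x * a⁻¹ = x ∧ a * u * a⁻¹ = zz K * u) ∨ (a * x * a⁻¹ = zz K * x ∧ a * u * a⁻¹ = u) ∨
          (a * x * a⁻¹ = zz K * x ∧ a * u * a⁻¹ = zz K * u)) := by
  obtain ⟨i, j, hq, hcl⟩ := exists_qt h hK h8
  have hn : ∀ {y : G}, y * zz K = zz K * y → ∀ a ∈ closure ({i, j} : Set G), y * a * y⁻¹ ∈ closure ({i, j} : Set G) := by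
    intro y hy a ha
    rw [hcl] at ha ⊢
    have h3 := centralizer_le h h1 hK (mem_centralizer_singleton_iff.2 hy)
    exact (mem_normalizer_iff.1 h3 a).1 ha
  have hzy : ∀ {y : G}, y * zz K = zz K * y → y * zz K * y⁻¹ = zz K := by
    intro y hy
    rw [hy, mul_inv_cancel_right]
  have e0 : ∀ {y a : G}, y * a * y⁻¹ = a → a * y * a⁻¹ = y := by
    intro y a hy
    rw [mul_inv_eq_iff_eq_mul] at hy ⊢
    exact hy.symm
  have e1 : ∀ {y a : G}, y * zz K = zz K * y → y * a * y⁻¹ = zz K * a → a * y * a⁻¹ = zz K * y := by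
    intro y a hy hh
    rw [mul_inv_eq_iff_eq_mul] at hh ⊢
    -- `y a = z a y`
    calc a * y = zz K * (zz K * a * y) := by rw [mul_assoc (zz K) a y, ← mul_assoc (zz K) (zz K), h.zz_mul hK, one_mul]
      _ = zz K * (y * a) := by rw [hh]
      _ = zz K * y * a := by group
  rcases hq.local_two (hn hx) (hn hu) (hzy hx) (hzy hu) hx2 hu2 hxu with h3 | ⟨a, ha, ha2, h3⟩
  · left
    rw [hcl] at h3
    exact h3
  · right
    refine ⟨a, hcl ▸ ha, ha2, ?_⟩
    rcases h3 with h3 | h3 | h3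
    · exact Or.inl ⟨e0 h3.1, e1 hu h3.2⟩
    · exact Or.inr (Or.inl ⟨e1 hx h3.1, e0 h3.2⟩)
    · exact Or.inr (Or.inr ⟨e1 hx h3.1, e1 hu h3.2⟩)

/-- an involution of `C(z)` not centralising `K_z` is moved to `z u` by an element of order four of `K_z` -/
theorem local_one (h : Hyp Om) (h1 : ∀ K ∈ Om, ∀ L ∈ Om, zz K = zz L → K = L) (hK : K ∈ Om)
    (h8 : Nat.card K = 8) (hu : u * zz K = zz K * u) (hu2 : u * u = 1) :
    (∀ k ∈ K, u * k = k * u) ∨ ∃ a ∈ K, a * a = zz K ∧ a * u * a⁻¹ = zz K * u := by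
  rcases local_two h h1 hK h8 (x := 1) (by rw [one_mul, mul_one]) hu (one_mul 1) hu2 (by rw [one_mul, mul_one]) with
    h3 | ⟨a, ha, ha2, h3⟩
  · left
    simpa using h3
  · right
    refine ⟨a, ha, ha2, ?_⟩
    rcases h3 with h3 | h3 | h3
    · exact h3.2
    · exfalso
      have := h3.1
      rw [mul_one, mul_inv_cancel, mul_one] at this
      exact h.zz_ne hK this.symm
    · exact h3.2

/-- non-C commuting `z`, `u` : `z u ∈ Z` -/
theorem exists_mul (h : Hyp Om) (h1 : ∀ K ∈ Om, ∀ L ∈ Om, zz K = zz L → K = L) (h8 : ∀ K ∈ Om, Nat.card K = 8)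
    (hK : K ∈ Om) (hL : L ∈ Om) (hc : zz K * zz L = zz L * zz K) (hn : ¬ ∀ k ∈ K, zz L * k = k * zz L) :
    ∃ M ∈ Om, zz M = zz K * zz L := by
  rcases local_one h h1 hK (h8 K hK) hc.symm (h.zz_mul hL) with h3 | ⟨a, -, -, ha⟩
  · exact absurd h3 hn
  · exact ⟨cj a L, h.conj L hL a, by rw [h.zz_cj hL, ha]⟩

/-- `[z, K_u] = 1` iff `[u, K_z] = 1` -/
theorem cp_symm (h : Hyp Om) (h8 : ∀ K ∈ Om, Nat.card K = 8) (hK : K ∈ Om) (hL : L ∈ Om) (hne : K ≠ L)
    (hc : ∀ k ∈ K, zz L * k = k * zz L) : ∀ k ∈ L, zz K * k = k * zz K := by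
  intro k hk
  exact h.comm_of_zz_comm hK hL (two_of_card (h8 K hK)) (two_of_card (h8 L hL)) (fun a ha => (hc a ha).symm) hne
    (zz K) (h.zz_mem hK) k hk

/-- **T-TRIPLE** : `(x, u)` a C-pair, `z` commutes with both and is non-C with both: `x u ∈ C(K_z)` -/
theorem triple_aux (h : Hyp Om) (h1 : ∀ K ∈ Om, ∀ L ∈ Om, zz K = zz L → K = L) (h8 : ∀ K ∈ Om, Nat.card K = 8)
    (hK : K ∈ Om) (hL : L ∈ Om) (hM : M ∈ Om) (hLM : L ≠ M) (hC : ∀ k ∈ L, zz M * k = k * zz M)
    (hKL : zz K * zz L = zz L * zz K) (hKM : zz K * zz M = zz M * zz K)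
    (hnL : ¬ ∀ k ∈ K, zz L * k = k * zz L) (hnM : ¬ ∀ k ∈ K, zz M * k = k * zz M) :
    ∀ k ∈ K, (zz L * zz M) * k = k * (zz L * zz M) := by
  have hKneL : K ≠ L := by
    rintro rfl
    exact hnL fun k hk => (h.comm_zz hK (le_normalizer hk)).symm
  have hKneM : K ≠ M := by
    rintro rfl
    exact hnM fun k hk => (h.comm_zz hK (le_normalizer hk)).symm
  have hLMc : zz L * zz M = zz M * zz L := (hC _ (h.zz_mem hL)).symm
  have hC' := cp_symm h h8 hL hM hLM hC
  -- a conjugation of the C-pair `(A, B)` by `a` fixing `zz A` and moving `zz B` to `z zz B`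
  have conj_step : ∀ {A B : Subgroup G} {a : G}, A ∈ Om → B ∈ Om → A ≠ K → (∀ k ∈ A, zz B * k = k * zz B) →
      (¬ ∀ k ∈ K, zz A * k = k * zz A) → a * zz A * a⁻¹ = zz A → a * zz B * a⁻¹ = zz K * zz B → False := by
    intro A B a hA hB hAK hAB hn ha1 ha2
    apply hn
    apply cp_symm h h8 hA hK hAK
    intro k hk
    have hcj : cj a A = A := cj_eq h h1 hA (by rw [mul_inv_eq_iff_eq_mul] at ha1; exact ha1)
    have h5 : k ∈ cj a A := by rw [hcj]; exact hk
    rw [mem_cj] at h5
    have h6 : (zz K * zz B) * k = k * (zz K * zz B) := by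
      rw [← ha2]
      have h7 := hAB _ h5
      calc a * zz B * a⁻¹ * k = a * (zz B * (a⁻¹ * k * a)) * a⁻¹ := by group
        _ = a * (a⁻¹ * k * a * zz B) * a⁻¹ := by rw [h7]
        _ = k * (a * zz B * a⁻¹) := by group
    have h8' := hAB k hk
    apply mul_right_cancel (b := zz B)
    calc zz K * k * zz B = zz K * (k * zz B) := by group
      _ = zz K * (zz B * k) := by rw [h8']
      _ = k * (zz K * zz B) := by rw [← h6]; group
      _ = k * zz K * zz B := by group
  rcases local_two h h1 hK (h8 K hK) hKL.symm hKM.symm (h.zz_mul hL) (h.zz_mul hM) hLMc with h3 | ⟨a, ha, ha2, h3⟩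
  · exact h3
  · rcases h3 with h3 | h3 | h3
    · exact (conj_step hL hM hKneL.symm hC hnL h3.1 h3.2).elim
    · exact (conj_step hM hL hKneM.symm hC' hnM h3.2 h3.1).elim
    · by_contra hcon
      -- `zx ∈ Z`
      obtain ⟨A, hA, hAz⟩ := exists_mul h h1 h8 hK hL hKL hnL
      -- `zx` acts on `K_u` as `z`
      have hzxu : zz M * zz A = zz A * zz M := by
        rw [hAz, ← mul_assoc, ← hKM, mul_assoc, ← hLMc, mul_assoc]
      have hnMK : ¬ ∀ k ∈ M, zz K * k = k * zz K := by
        intro hh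
        exact hnM (cp_symm h h8 hM hK hKneM.symm hh)
      have hnA : ¬ ∀ k ∈ M, zz A * k = k * zz A := by
        intro hh
        apply hnMK
        intro k hk
        have h5 := hh k hk
        rw [hAz] at h5
        have h6 := hC' k hk
        apply mul_right_cancel (b := zz L)
        calc zz K * k * zz L = zz K * (k * zz L) := by group
          _ = zz K * (zz L * k) := by rw [h6]
          _ = k * (zz K * zz L) := by rw [← h5]; group
          _ = k * zz K * zz L := by group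
      obtain ⟨B, hB, hBz⟩ := exists_mul h h1 h8 hM hA hzxu hnA
      -- `zz B = u z x`
      have hBz' : zz B = zz K * (zz L * zz M) := by
        rw [hBz, hAz, ← mul_assoc, ← hKM, mul_assoc, ← hLMc]
      -- `(z, z w)` : if non-C then `w ∈ Z`
      have hKB : zz K * zz B = zz B * zz K := by
        rw [hBz']
        have e1 : (zz L * zz M) * zz K = zz K * (zz L * zz M) := by
          rw [mul_assoc, ← hKM, ← mul_assoc, ← hKL, mul_assoc]
        rw [mul_assoc (zz K) (zz L * zz M), e1]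
      have hnB : ¬ ∀ k ∈ K, zz B * k = k * zz B := by
        intro hh
        apply hcon
        intro k hk
        have h5 := hh k hk
        have h6 : zz K * k = k * zz K := (h.comm_zz hK (le_normalizer hk)).symm
        rw [hBz'] at h5
        apply mul_left_cancel (a := zz K)
        calc zz K * (zz L * zz M * k) = zz K * (zz L * zz M) * k := by group
          _ = k * zz K * (zz L * zz M) := by rw [h5]; group
          _ = zz K * (k * (zz L * zz M)) := by rw [← h6]; group
      obtain ⟨W, hW, hWz⟩ := exists_mul h h1 h8 hK hB hKB hnB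
      have hWz' : zz W = zz L * zz M := by
        rw [hWz, hBz', ← mul_assoc, h.zz_mul hK, one_mul]
      -- `(w, x)` is C
      have hWL : W ≠ L := by
        rintro rfl
        rw [eq_comm, mul_eq_left] at hWz'
        exact h.zz_ne hM hWz'
      have hLW : ∀ k ∈ L, zz W * k = k * zz W := by
        intro k hk
        have h6 : zz L * k = k * zz L := (h.comm_zz hL (le_normalizer hk)).symm
        rw [hWz', mul_assoc, hC k hk, ← mul_assoc, h6, mul_assoc]
      have hWLc := cp_symm h h8 hL hW hWL.symm hLW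
      have hnW : ¬ ∀ k ∈ K, zz W * k = k * zz W := by
        rw [hWz']; exact hcon
      have hWK : W ≠ K := by
        rintro rfl
        exact hnW fun k hk => (h.comm_zz hW (le_normalizer hk)).symm
      refine conj_step hW hL hWK hWLc hnW ?_ h3.1
      -- `a` fixes `w`
      rw [hWz']
      calc a * (zz L * zz M) * a⁻¹ = (a * zz L * a⁻¹) * (a * zz M * a⁻¹) := by group
        _ = (zz K * zz L) * (zz K * zz M) := by rw [h3.1, h3.2]
        _ = zz K * zz K * (zz L * zz M) := by
            rw [mul_assoc (zz K) (zz L), ← mul_assoc (zz L) (zz K), ← hKL]; group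
        _ = zz L * zz M := by rw [h.zz_mul hK, one_mul]

end Cfsg.Agent.Cit.ROne
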