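import Cfsg.Agent.Cit.NilComp

/-!
# `r = 1`, STEP 2: the subgroup generated by an orbit of involutions `zz K` lying in a normal 2-subgroup

`Orb Om H N Y` : `HYP(G, Om)`, all members 2-groups, `Y` a set of members of `Om` which is one orbit under `H`,
`K ≤ H` for `K ∈ Y`, `N = ⟨zz K : K ∈ Y⟩` a 2-group. Then

* `Orb.dich` : an `H`-invariant 2-subgroup contains `N` or commutes with all members of `Y`;
* `Orb.sq_of_comm` : if `N` is commutative, its elements have square `1`;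
* if `N` is not commutative: `Orb.centre` : elements of `N` which commute with `N` commute with all members of
  `Y`; `Orb.class_two` : commutators of elements of `N` commute with `N`; `Orb.sq_comm` : squares of elements of
  `N` commute with `N`; `Orb.zz_mul` : `K ∈ Y`, `n ∈ N` with `n zz K ≠ zz K n`: `K` and `K^n` commute,
  `w = zz K * zz (K^n)` commutes with `N`; `Orb.unique` : `w` does not depend on `n`.
* `Orb.mem_inf` : `K ⊓ N = {1, zz K}`.
-/

set_option autoImplicit false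
set_option linter.style.haveILetI false
set_option linter.unusedSectionVars false

namespace Cfsg.Agent.Cit.ROne

open Subgroup Cfsg Cfsg.Agent.Cit

variable {G : Type*} [Group G]

/-! ### Group theory -/

/-- the normaliser of `N` normalises the characteristic subgroups of `N` -/
theorem normalizer_le_char {N : Subgroup G} {X : Subgroup N} (hX : X.Characteristic) :
    normalizer (N : Set G) ≤ normalizer ((X.map N.subtype : Subgroup G) : Set G) := by
  have key : ∀ g ∈ normalizer (N : Set G), ∀ x ∈ X.map N.subtype, g * x * g⁻¹ ∈ X.map N.subtype := by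
    rintro g hg _ ⟨x, hx, rfl⟩
    have h0 : cj g N = N := mem_normalizer_iff_cj.1 hg
    set φ : N ≃* N := (cjEquiv g N).trans (MulEquiv.subgroupCongr h0) with hφ
    have h1 := characteristic_iff_map_le.1 hX φ
    exact ⟨φ x, h1 ⟨x, hx, rfl⟩, rfl⟩
  intro g hg
  rw [mem_normalizer_iff]
  intro x
  refine ⟨key g hg x, fun hx => ?_⟩
  have := key g⁻¹ (inv_mem hg) _ hx
  simpa [mul_assoc] using this

/-- **a nilpotent group whose characteristic commutative subgroups are central has class at most 2** -/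
theorem commutator_le_center {P : Type*} [Group P] [Group.IsNilpotent P]
    (hch : ∀ X : Subgroup P, X.Characteristic → (∀ x ∈ X, ∀ y ∈ X, x * y = y * x) → X ≤ center P) :
    ⁅(⊤ : Subgroup P), (⊤ : Subgroup P)⁆ ≤ center P := by
  have key : ∀ n, Subgroup.upperCentralSeries P n ⊓ ⁅(⊤ : Subgroup P), (⊤ : Subgroup P)⁆ ≤ center P := by
    intro n
    induction n with
    | zero => rw [Subgroup.upperCentralSeries_zero, bot_inf_eq]; exact bot_le
    | succ n ih =>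
      set X := Subgroup.upperCentralSeries P (n + 1) ⊓ ⁅(⊤ : Subgroup P), (⊤ : Subgroup P)⁆ with hX
      have hXc : X.Characteristic := by
        rw [hX]
        infer_instance
      -- `[X, P] ≤ Z(P)`
      have h1 : ⁅X, (⊤ : Subgroup P)⁆ ≤ center P := by
        rw [commutator_le]
        intro x hx y _
        refine ih ⟨?_, ?_⟩
        · exact (Subgroup.mem_upperCentralSeries_succ_iff.1 hx.1) y
        · exact commutator_mem_commutator (mem_top x) (mem_top y)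
      have h2 : ⁅⁅X, (⊤ : Subgroup P)⁆, (⊤ : Subgroup P)⁆ = ⊥ := by
        rw [commutator_eq_bot_iff_le_centralizer]
        refine h1.trans ?_
        rw [coe_top, centralizer_univ]
      have h3 : ⁅⁅(⊤ : Subgroup P), (⊤ : Subgroup P)⁆, X⁆ = ⊥ := by
        refine commutator_commutator_eq_bot_of_rotate ?_ h2
        rw [commutator_comm (⊤ : Subgroup P) X]
        exact h2
      have h4 : X ≤ centralizer ((⁅(⊤ : Subgroup P), (⊤ : Subgroup P)⁆ : Subgroup P) : Set P) := by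
        rw [commutator_comm, commutator_eq_bot_iff_le_centralizer] at h3
        exact h3
      refine hch X hXc fun x hx y hy => ?_
      exact (mem_centralizer_iff.1 (h4 hx) y hy.2).symm
  obtain ⟨n, hn⟩ := Group.IsNilpotent.nilpotent P
  have := key n
  rwa [hn, top_inf_eq] at this

/-! ### The situation -/

/-- `Y` is one `H`-orbit of members (2-groups) of `Om`, `K ≤ H` for `K ∈ Y`, and `N = ⟨zz K : K ∈ Y⟩` is a
2-group -/
structure Orb (Om : Set (Subgroup G)) (H N : Subgroup G) (Y : Set (Subgroup G)) : Prop where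
  hyp : Hyp Om
  two : ∀ L ∈ Om, IsPGroup 2 L
  sub : Y ⊆ Om
  le : ∀ K ∈ Y, K ≤ H
  inv : ∀ K ∈ Y, ∀ g ∈ H, cj g K ∈ Y
  tr : ∀ K ∈ Y, ∀ L ∈ Y, ∃ g ∈ H, cj g K = L
  gen : N = closure (zz '' Y)
  pN : IsPGroup 2 N

/-- the orbit of one member -/
theorem Orb.of_orbit {Om : Set (Subgroup G)} {H : Subgroup G} (hyp : Hyp Om) (two : ∀ L ∈ Om, IsPGroup 2 L)
    {K : Subgroup G} (hK : K ∈ Om) (hKH : K ≤ H)
    (pN : IsPGroup 2 (closure (zz '' {L | ∃ g ∈ H, cj g K = L}) : Subgroup G)) :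
    Orb Om H (closure (zz '' {L | ∃ g ∈ H, cj g K = L})) {L | ∃ g ∈ H, cj g K = L} where
  hyp := hyp
  two := two
  sub := by rintro _ ⟨g, -, rfl⟩; exact hyp.conj K hK g
  le := by
    rintro _ ⟨g, hg, rfl⟩ x hx
    have h1 := H.mul_mem (H.mul_mem hg (hKH (mem_cj.1 hx))) (H.inv_mem hg)
    simpa [mul_assoc] using h1
  inv := by
    rintro _ ⟨g, hg, rfl⟩ x hx
    exact ⟨x * g, H.mul_mem hx hg, cj_mul x g K⟩
  tr := by
    rintro _ ⟨g, hg, rfl⟩ _ ⟨g', hg', rfl⟩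
    exact ⟨g' * g⁻¹, H.mul_mem hg' (H.inv_mem hg), by rw [cj_mul, cj_inv_cj]⟩
  gen := rfl
  pN := pN

namespace Orb

variable [Finite G] {Om : Set (Subgroup G)} {H N V K L : Subgroup G} {Y : Set (Subgroup G)}

theorem mem_om (o : Orb Om H N Y) (hK : K ∈ Y) : K ∈ Om := o.sub hK

theorem zz_mem (o : Orb Om H N Y) (hK : K ∈ Y) : zz K ∈ N := by
  rw [o.gen]; exact subset_closure ⟨K, hK, rfl⟩

theorem zz_sq (o : Orb Om H N Y) (hK : K ∈ Y) : zz K * zz K = 1 := o.hyp.zz_mul (o.sub hK)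

/-- `H` normalises `N` -/
theorem norm (o : Orb Om H N Y) : H ≤ normalizer (N : Set G) := by
  have key : ∀ g ∈ H, ∀ x ∈ N, g * x * g⁻¹ ∈ N := by
    intro g hg x hx
    rw [o.gen] at hx
    refine closure_induction (p := fun x _ => g * x * g⁻¹ ∈ N) ?_ ?_ ?_ ?_ hx
    · rintro _ ⟨K, hK, rfl⟩
      rw [← o.hyp.zz_cj (o.sub hK)]
      exact o.zz_mem (o.inv K hK g hg)
    · simp [N.one_mem]
    · intro a b _ _ ha hb
      have : g * (a * b) * g⁻¹ = (g * a * g⁻¹) * (g * b * g⁻¹) := by group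
      rw [this]; exact N.mul_mem ha hb
    · intro a _ ha
      have : g * a⁻¹ * g⁻¹ = (g * a * g⁻¹)⁻¹ := by group
      rw [this]; exact N.inv_mem ha
  intro g hg
  rw [mem_normalizer_iff]
  intro x
  refine ⟨key g hg x, fun hx => ?_⟩
  have := key g⁻¹ (inv_mem hg) _ hx
  simpa [mul_assoc] using this

theorem normK (o : Orb Om H N Y) (hK : K ∈ Y) : K ≤ normalizer (N : Set G) := (o.le K hK).trans o.norm

/-- an `H`-invariant 2-subgroup contains `N` or commutes with the members of `Y` -/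
theorem dich (o : Orb Om H N Y) (hV : H ≤ normalizer (V : Set G)) (pV : IsPGroup 2 V) :
    N ≤ V ∨ ∀ K ∈ Y, ∀ k ∈ K, ∀ v ∈ V, k * v = v * k := by
  by_cases h : ∃ K ∈ Y, zz K ∈ V
  · left
    obtain ⟨K, hK, hzK⟩ := h
    rw [o.gen, closure_le]
    rintro _ ⟨L, hL, rfl⟩
    obtain ⟨g, hg, rfl⟩ := o.tr K hK L hL
    rw [o.hyp.zz_cj (o.sub hK)]
    exact (mem_normalizer_iff.1 (hV hg) _).1 hzK
  · right
    push Not at h
    intro K hK
    exact o.hyp.lemma_one (o.sub hK) (o.two K (o.sub hK)) pV ((o.le K hK).trans hV) (h K hK)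

/-- elements which commute with the involutions commute with `N` -/
theorem comm_of_zz (o : Orb Om H N Y) {x : G} (hx : ∀ K ∈ Y, x * zz K = zz K * x) : ∀ n ∈ N, x * n = n * x := by
  intro n hn
  rw [o.gen] at hn
  refine closure_induction (p := fun n _ => x * n = n * x) ?_ (by simp) ?_ ?_ hn
  · rintro _ ⟨K, hK, rfl⟩
    exact hx K hK
  · intro a b _ _ ha hb
    rw [← mul_assoc, ha, mul_assoc, hb, mul_assoc]
  · intro a _ ha
    rw [eq_inv_mul_iff_mul_eq, ← mul_assoc, ← ha, mul_inv_cancel_right]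

theorem sq_of_comm (o : Orb Om H N Y) (hc : ∀ x ∈ N, ∀ y ∈ N, x * y = y * x) : ∀ x ∈ N, x * x = 1 := by
  intro x hx
  have hx' := hx
  rw [o.gen] at hx'
  refine (closure_induction (p := fun x _ => x ∈ N ∧ x * x = 1) ?_ ⟨N.one_mem, by simp⟩ ?_ ?_ hx').2
  · rintro _ ⟨K, hK, rfl⟩
    exact ⟨o.zz_mem hK, o.zz_sq hK⟩
  · rintro a b _ _ ⟨ha, ha2⟩ ⟨hb, hb2⟩
    refine ⟨N.mul_mem ha hb, ?_⟩
    calc a * b * (a * b) = a * (b * a) * b := by group
      _ = a * (a * b) * b := by rw [hc b hb a ha]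
      _ = (a * a) * (b * b) := by group
      _ = 1 := by rw [ha2, hb2, one_mul]
  · rintro a _ ⟨ha, ha2⟩
    refine ⟨N.inv_mem ha, ?_⟩
    rw [← mul_inv_rev, ha2, inv_one]

/-- a commutative `H`-invariant subgroup of `N` commutes with the members of `Y` if `N` is not commutative -/
theorem char_comm (o : Orb Om H N Y) (hnc : ¬ ∀ x ∈ N, ∀ y ∈ N, x * y = y * x) (hV : H ≤ normalizer (V : Set G))
    (hVN : V ≤ N) (hc : ∀ x ∈ V, ∀ y ∈ V, x * y = y * x) : ∀ K ∈ Y, ∀ k ∈ K, ∀ v ∈ V, k * v = v * k := by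
  rcases o.dich hV (o.pN.to_le hVN) with h | h
  · exact absurd (fun x hx y hy => hc x (h hx) y (h hy)) hnc
  · exact h

/-- the centre of `N` commutes with the members of `Y` -/
theorem centre (o : Orb Om H N Y) (hnc : ¬ ∀ x ∈ N, ∀ y ∈ N, x * y = y * x) (hK : K ∈ Y) {k v : G} (hk : k ∈ K)
    (hv : v ∈ N) (hc : ∀ x ∈ N, v * x = x * v) : k * v = v * k := by
  have h1 : normalizer (N : Set G) ≤ normalizer ((N ⊓ centralizer (N : Set G) : Subgroup G) : Set G) := by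
    have key : ∀ g ∈ normalizer (N : Set G), ∀ x ∈ N ⊓ centralizer (N : Set G),
        g * x * g⁻¹ ∈ N ⊓ centralizer (N : Set G) := by
      intro g hg x hx
      refine Subgroup.mem_inf.2 ⟨(mem_normalizer_iff.1 hg _).1 hx.1, ?_⟩
      rw [mem_centralizer_iff]
      intro n hn
      have h2 : g⁻¹ * n * g ∈ N := by
        have := (mem_normalizer_iff.1 (inv_mem hg) n).1 hn
        simpa using this
      have h3 := mem_centralizer_iff.1 hx.2 _ h2
      calc n * (g * x * g⁻¹) = g * ((g⁻¹ * n * g) * x) * g⁻¹ := by group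
        _ = g * (x * (g⁻¹ * n * g)) * g⁻¹ := by rw [h3]
        _ = _ := by group
    intro g hg
    rw [mem_normalizer_iff]
    intro x
    refine ⟨key g hg x, fun hx => ?_⟩
    have := key g⁻¹ (inv_mem hg) _ hx
    simpa [mul_assoc] using this
  refine o.char_comm hnc (o.norm.trans h1) inf_le_left ?_ K hK k hk v (Subgroup.mem_inf.2 ⟨hv, ?_⟩)
  · intro x hx y hy
    exact (mem_centralizer_iff.1 hx.2 y hy.1).symm
  · rw [mem_centralizer_iff]
    exact fun x hx => (hc x hx).symm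

/-- `zz K` is not central in `N` -/
theorem zz_not_central (o : Orb Om H N Y) (hnc : ¬ ∀ x ∈ N, ∀ y ∈ N, x * y = y * x) (hK : K ∈ Y) :
    ¬ ∀ x ∈ N, zz K * x = x * zz K := by
  intro h1
  obtain ⟨v, hv, c, hc, hvc⟩ := o.hyp.exists_comm_eq (o.sub hK) (o.two K (o.sub hK))
  apply hnc
  intro x hx y hy
  refine o.comm_of_zz (fun L hL => ?_) y hy
  obtain ⟨g, hg, rfl⟩ := o.tr K hK L hL
  rw [o.hyp.zz_cj (o.sub hK)]
  have h2 : g⁻¹ * x * g ∈ N := by
    have := (mem_normalizer_iff.1 (o.norm (inv_mem hg)) x).1 hx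
    simpa using this
  have h3 := h1 _ h2
  calc x * (g * zz K * g⁻¹) = g * ((g⁻¹ * x * g) * zz K) * g⁻¹ := by group
    _ = g * (zz K * (g⁻¹ * x * g)) * g⁻¹ := by rw [h3]
    _ = _ := by group

/-- **class two** -/
theorem class_two (o : Orb Om H N Y) (hnc : ¬ ∀ x ∈ N, ∀ y ∈ N, x * y = y * x) {a b x : G} (ha : a ∈ N)
    (hb : b ∈ N) (hx : x ∈ N) : (a * b * a⁻¹ * b⁻¹) * x = x * (a * b * a⁻¹ * b⁻¹) := by
  haveI : Fact (Nat.Prime 2) := ⟨Nat.prime_two⟩
  haveI : Group.IsNilpotent N := o.pN.isNilpotent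
  have h1 : ⁅(⊤ : Subgroup N), (⊤ : Subgroup N)⁆ ≤ center N := by
    refine commutator_le_center fun X hX hXc => ?_
    have h2 : ∀ K ∈ Y, ∀ k ∈ K, ∀ v ∈ X.map N.subtype, k * v = v * k := by
      refine o.char_comm hnc (o.norm.trans (normalizer_le_char hX)) (map_subtype_le X) ?_
      rintro _ ⟨x, hx, rfl⟩ _ ⟨y, hy, rfl⟩
      exact congrArg Subtype.val (hXc x hx y hy)
    intro v hv
    rw [mem_center_iff]
    intro n
    refine Subtype.ext ?_
    exact (o.comm_of_zz (fun L hL => (h2 L hL _ (o.hyp.zz_mem (o.sub hL)) _ ⟨v, hv, rfl⟩).symm) _ n.2).symm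
  have h2 : (⟨a, ha⟩ : N) * ⟨b, hb⟩ * (⟨a, ha⟩ : N)⁻¹ * (⟨b, hb⟩ : N)⁻¹ ∈ center N :=
    h1 (commutator_mem_commutator (mem_top _) (mem_top _))
  exact (congrArg Subtype.val (mem_center_iff.1 h2 ⟨x, hx⟩)).symm

/-- squares are central -/
theorem sq_comm (o : Orb Om H N Y) (hnc : ¬ ∀ x ∈ N, ∀ y ∈ N, x * y = y * x) {a x : G} (ha : a ∈ N)
    (hx : x ∈ N) : (a * a) * x = x * (a * a) := by
  have ha' := ha
  rw [o.gen] at ha'
  refine (closure_induction (p := fun a _ => a ∈ N ∧ ∀ x ∈ N, (a * a) * x = x * (a * a)) ?_ ?_ ?_ ?_ ha').2 x hx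
  · rintro _ ⟨K, hK, rfl⟩
    refine ⟨o.zz_mem hK, fun x _ => ?_⟩
    rw [o.zz_sq hK, one_mul, mul_one]
  · exact ⟨N.one_mem, fun x _ => by simp⟩
  · rintro a b _ _ ⟨ha, ha2⟩ ⟨hb, hb2⟩
    refine ⟨N.mul_mem ha hb, fun x hx => ?_⟩
    have h1 : a * b * (a * b) = (a * a) * ((a⁻¹ * b * a⁻¹⁻¹ * b⁻¹) * (b * b)) := by group
    rw [h1]
    have h2 := o.class_two hnc (N.inv_mem ha) hb hx
    have h3 := ha2 x hx
    have h4 := hb2 x hx
    set c := a⁻¹ * b * a⁻¹⁻¹ * b⁻¹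
    calc a * a * (c * (b * b)) * x = a * a * (c * (b * b * x)) := by group
      _ = a * a * (c * x * (b * b)) := by rw [h4]; group
      _ = (a * a * x) * (c * (b * b)) := by rw [h2]; group
      _ = _ := by rw [h3]; group
  · rintro a _ ⟨ha, ha2⟩
    refine ⟨N.inv_mem ha, fun x hx => ?_⟩
    have h1 : a⁻¹ * a⁻¹ = (a * a)⁻¹ := by group
    rw [h1, inv_mul_eq_iff_eq_mul, ← mul_assoc, ha2 x hx, mul_assoc, mul_inv_cancel, mul_one]

/-- `K ⊓ N = ⟨zz K⟩` -/
theorem mem_inf (o : Orb Om H N Y) (hK : K ∈ Y) {x : G} (hx : x ∈ K) (hxN : x ∈ N) : x = 1 ∨ x = zz K := by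
  have key : x * x = 1 := by
    by_cases hc : ∀ x ∈ N, ∀ y ∈ N, x * y = y * x
    · exact o.sq_of_comm hc x hxN
    · refine o.hyp.eq_one_of_mem (N := N ⊓ centralizer (N : Set G)) (o.sub hK) (o.two K (o.sub hK)) ?_
        (K.mul_mem hx hx) (Subgroup.mem_inf.2 ⟨N.mul_mem hxN hxN, ?_⟩)
      · intro h
        exact o.zz_not_central hc hK fun x hx => (mem_centralizer_iff.1 h.2 x hx).symm
      · rw [mem_centralizer_iff]
        exact fun y hy => (o.sq_comm hc hxN hy).symm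
  by_cases h1 : x = 1
  · exact Or.inl h1
  · exact Or.inr (o.hyp.eq_zz (o.sub hK) hx key h1)

/-- `w = zz K * zz (K^n)` is a commutator -/
theorem w_eq (o : Orb Om H N Y) (hK : K ∈ Y) (n : G) : zz K * zz (cj n K) = zz K * n * (zz K)⁻¹ * n⁻¹ := by
  rw [o.hyp.zz_cj (o.sub hK), o.hyp.zz_inv (o.sub hK)]; group

/-- `w = zz K * zz (K^n)` commutes with `N` (`n ∈ N`) -/
theorem w_comm (o : Orb Om H N Y) (hnc : ¬ ∀ x ∈ N, ∀ y ∈ N, x * y = y * x) (hK : K ∈ Y) {n x : G} (hn : n ∈ N)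
    (hx : x ∈ N) : (zz K * zz (cj n K)) * x = x * (zz K * zz (cj n K)) := by
  rw [o.w_eq hK n]
  exact o.class_two hnc (o.zz_mem hK) hn hx

theorem w_mem (o : Orb Om H N Y) (hK : K ∈ Y) {n : G} (hn : n ∈ N) : zz K * zz (cj n K) ∈ N := by
  rw [o.w_eq hK n]
  exact N.mul_mem (N.mul_mem (N.mul_mem (o.zz_mem hK) hn) (N.inv_mem (o.zz_mem hK))) (N.inv_mem hn)

/-- `w = zz K * zz (K^n)` commutes with the members of `Y` -/
theorem w_centre (o : Orb Om H N Y) (hnc : ¬ ∀ x ∈ N, ∀ y ∈ N, x * y = y * x) (hK : K ∈ Y) (hL : L ∈ Y) {n k : G}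
    (hn : n ∈ N) (hk : k ∈ L) : k * (zz K * zz (cj n K)) = (zz K * zz (cj n K)) * k :=
  o.centre hnc hL hk (o.w_mem hK hn) fun _ hx => o.w_comm hnc hK hn hx

/-- `K` and `K^n` commute (`n ∈ N`) if they are different -/
theorem comm_cj (o : Orb Om H N Y) (hnc : ¬ ∀ x ∈ N, ∀ y ∈ N, x * y = y * x) (hK : K ∈ Y) {n : G} (hn : n ∈ N)
    (hne : K ≠ cj n K) : ∀ a ∈ K, ∀ b ∈ cj n K, a * b = b * a := by
  have hKn := o.hyp.conj K (o.sub hK) n
  refine o.hyp.comm_of_zz_comm (o.sub hK) hKn (o.two K (o.sub hK)) (o.two _ hKn) ?_ hne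
  intro a ha
  have h1 := o.w_centre hnc hK hK hn ha
  have h2 := o.hyp.comm_zz (o.sub hK) (le_normalizer ha)
  have h3 : zz (cj n K) = zz K * (zz K * zz (cj n K)) := by rw [← mul_assoc, o.zz_sq hK, one_mul]
  rw [h3, ← mul_assoc, h2, mul_assoc, h1, ← mul_assoc]

/-- `K^m` and `K^n` commute (`m, n ∈ N`) if they are different -/
theorem comm_cj_cj (o : Orb Om H N Y) (hnc : ¬ ∀ x ∈ N, ∀ y ∈ N, x * y = y * x) (hK : K ∈ Y) {m n : G}
    (hm : m ∈ N) (hn : n ∈ N) (hne : cj m K ≠ cj n K) : ∀ a ∈ cj m K, ∀ b ∈ cj n K, a * b = b * a := by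
  have h1 : K ≠ cj (m⁻¹ * n) K := by
    intro h2
    apply hne
    rw [← cj_inj (g := m⁻¹), cj_inv_cj, ← cj_mul]
    exact h2
  intro a ha b hb
  have h2 := o.comm_cj hnc hK (N.mul_mem (N.inv_mem hm) hn) h1 (m⁻¹ * a * m) (mem_cj.1 ha) (m⁻¹ * b * m) (by
    rw [cj_mul]
    have := conj_mem_cj (g := m⁻¹) hb
    simpa using this)
  calc a * b = m * ((m⁻¹ * a * m) * (m⁻¹ * b * m)) * m⁻¹ := by group
    _ = m * ((m⁻¹ * b * m) * (m⁻¹ * a * m)) * m⁻¹ := by rw [h2]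
    _ = _ := by group

/-- `a⁻¹ k` -/
theorem diag_mem (o : Orb Om H N Y) (hK : K ∈ Y) {k n : G} (hk : k ∈ K) (hn : n ∈ N) :
    k * (n * k * n⁻¹)⁻¹ ∈ N := by
  have h1 : k * (n * k * n⁻¹)⁻¹ = (k * n * k⁻¹) * n⁻¹ := by group
  rw [h1]
  exact N.mul_mem ((mem_normalizer_iff.1 (o.normK hK hk) _).1 hn) (N.inv_mem hn)

/-- **the commutator `[zz K, n]`, `n ∈ N`, is unique**: the conjugates of `K` under `N` are `K` and one more member -/
theorem unique (o : Orb Om H N Y) (hnc : ¬ ∀ x ∈ N, ∀ y ∈ N, x * y = y * x) (hK : K ∈ Y) {m n : G}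
    (hm : m ∈ N) (hn : n ∈ N) (h1 : K ≠ cj m K) (h2 : K ≠ cj n K) : cj m K = cj n K := by
  by_contra hne
  have c1 := o.comm_cj hnc hK hm h1
  have c2 := o.comm_cj hnc hK hn h2
  have c3 := o.comm_cj_cj hnc hK hm hn hne
  obtain ⟨v, hv, c, hc, hvc⟩ := o.hyp.exists_comm_eq (o.sub hK) (o.two K (o.sub hK))
  refine o.zz_not_central hnc hK fun x hx => ?_
  have hv' := conj_mem_cj (g := m) hv
  have hc' := conj_mem_cj (g := n) hc
  have h3 := o.class_two hnc (o.diag_mem hK hv hm) (o.diag_mem hK hc hn) hx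
  have h4 : v * (m * v * m⁻¹)⁻¹ * (c * (n * c * n⁻¹)⁻¹) * (v * (m * v * m⁻¹)⁻¹)⁻¹ *
      (c * (n * c * n⁻¹)⁻¹)⁻¹ = zz K := by
    set v' := m * v * m⁻¹
    set c' := n * c * n⁻¹
    have e1 : v'⁻¹ * c = c * v'⁻¹ := (c1 c hc _ (inv_mem hv')).symm
    have e2 : v'⁻¹ * c'⁻¹ = c'⁻¹ * v'⁻¹ := c3 _ (inv_mem hv') _ (inv_mem hc')
    have e3 : c'⁻¹ * v⁻¹ = v⁻¹ * c'⁻¹ := (c2 _ (inv_mem hv) _ (inv_mem hc')).symm
    rw [← hvc]
    calc v * v'⁻¹ * (c * c'⁻¹) * (v * v'⁻¹)⁻¹ * (c * c'⁻¹)⁻¹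
        = v * (v'⁻¹ * c) * c'⁻¹ * v' * v⁻¹ * c' * c⁻¹ := by group
      _ = v * c * (v'⁻¹ * c'⁻¹) * v' * v⁻¹ * c' * c⁻¹ := by rw [e1]; group
      _ = v * c * (c'⁻¹ * v⁻¹) * c' * c⁻¹ := by rw [e2]; group
      _ = v * c * v⁻¹ * c⁻¹ := by rw [e3]; group
  rwa [h4] at h3

end Orb

end Cfsg.Agent.Cit.ROne
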