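import Cfsg.Agent.Cit.Nil.ROne.Base
import Cfsg.Agent.Cit.Nil.ROne.ClTwo

/-!
# (6b), `r = 1`, section 2 of helper545's text: the normal closures `N = ⟨y^{C(s)}⟩`

`NC s y = ⟨y^{C(s)}⟩`, for `s` with `AN(s)` and `y ∈ Z(s)` : context `c : S2 Z K s y` (`w : W Z K`, `an : AN Z K s`,
`mem : y ∈ ZC Z K s`).

* `NC_norm`, `NC_le_of_norm`, `NC_le_NC`, `NC_conj`, `ZC_conj`;
* `c.pN` : `N = NC s y` is a 2-group; `c.conj`, `c.other` : the context for `g y g⁻¹`, `x ∈ Z(s)`;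
* `c.comm_of_not_mem` (2.1); `c.mem_or`, `c.mem_of_ne` (2.4);
* `c.sq_of_comm`, `c.centre`, `c.class_two`, `c.sq_comm`, `c.not_central`, `c.K_inf` (2.2);
* `c.inner`, `c.not_trn`, `c.inn_or`, `c.cp_or_ti` (2.3);
* `c.exists_w` (2.5), (2.6); `c.csw`, `c.wt_eq`, `c.wt_spec`, `c.wt_unique` : the same in terms of `CSw` and `wt`;
  `c.comm_of_orbit`, `c.comm_of_no_csw`.
* the same as `W.nc_*` with hypotheses `h : W Z K`, `ha : AN Z K s`, `hy : y ∈ ZC Z K s`.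
-/

set_option autoImplicit false
set_option linter.style.haveILetI false
set_option linter.unusedSectionVars false

namespace Cfsg.Agent.Cit.Nil.ROne

open Subgroup Cfsg Cit

variable {G : Type*} [Group G]

theorem comm_inv {s g : G} (hg : g * s = s * g) : g⁻¹ * s = s * g⁻¹ := by
  rw [inv_mul_eq_iff_eq_mul, ← mul_assoc, hg, mul_inv_cancel_right]

/-- `C(s)` normalises `NC s y` -/
theorem NC_norm (s y : G) : centralizer {s} ≤ normalizer (NC s y : Set G) := fun g hg => by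
  rw [mem_normalizer_iff_cj, cj_NC (mem_centralizer_singleton_iff.1 hg)]

/-- the least `C(s)`-invariant subgroup -/
theorem NC_le_of_norm {s y : G} {N : Subgroup G} (hN : centralizer {s} ≤ normalizer (N : Set G)) (hy : y ∈ N) :
    NC s y ≤ N := by
  rw [NC, closure_le]
  rintro _ ⟨g, hg, rfl⟩
  exact (mem_normalizer_iff.1 (hN (mem_centralizer_singleton_iff.2 hg)) _).1 hy

theorem NC_le_NC {s x y : G} (hx : x ∈ NC s y) : NC s x ≤ NC s y := NC_le_of_norm (NC_norm s y) hx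

theorem NC_conj {s y g : G} (hg : g * s = s * g) : NC s (g * y * g⁻¹) = NC s y := by
  refine le_antisymm (NC_le_NC (conj_mem_NC hg)) (NC_le_NC ?_)
  have h1 := conj_mem_NC (y := g * y * g⁻¹) (comm_inv hg)
  simpa [mul_assoc] using h1

theorem comm_of_gens {s x y : G} (hx : ∀ g, g * s = s * g → x * (g * y * g⁻¹) = (g * y * g⁻¹) * x) :
    ∀ n ∈ NC s y, x * n = n * x := by
  intro n hn
  refine closure_induction (p := fun n _ => x * n = n * x) ?_ (by simp) ?_ ?_ hn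
  · rintro _ ⟨g, hg, rfl⟩
    exact hx g hg
  · intro a b _ _ ha hb
    rw [← mul_assoc, ha, mul_assoc, hb, mul_assoc]
  · intro a _ ha
    rw [eq_inv_mul_iff_mul_eq, ← mul_assoc, ← ha, mul_inv_cancel_right]

section

variable {Z : Set G} {K : G → Subgroup G} {s x y n k a b g : G}

/-- `Z(s)` is invariant under `C(s)` -/
theorem ZC_conj (h : W Z K) (hy : y ∈ ZC Z K s) (hg : g * s = s * g) : g * y * g⁻¹ ∈ ZC Z K s := by
  refine ⟨h.conjZ y hy.1 g, ?_⟩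
  have h1 := h.cen_conj hy.1 g hy.2
  rwa [hg, mul_inv_cancel_right] at h1

/-- `K x ≤ C(s)` -/
theorem K_le_cent (hc : x ∈ ZC Z K s) : K x ≤ centralizer {s} := fun k hk =>
  mem_centralizer_singleton_iff.2 (hc.2 k hk).symm

theorem ZC_comm (h : W Z K) (hc : x ∈ ZC Z K s) : x * s = s * x := (hc.2 x (h.mem x hc.1)).symm

/-- the members over `Z(s)` normalise `N` -/
theorem K_norm (hc : x ∈ ZC Z K s) (y : G) : K x ≤ normalizer (NC s y : Set G) := (K_le_cent hc).trans (NC_norm s y)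

/-- the orbit of `K y` under `C(s)` -/
def orbK (K : G → Subgroup G) (s y : G) : Set (Subgroup G) := {L | ∃ g ∈ centralizer {s}, cj g (K y) = L}

theorem NC_eq (h : W Z K) [Finite G] (hy : y ∈ Z) : NC s y = closure (zz '' orbK K s y) := by
  rw [NC]
  congr 1
  ext x
  constructor
  · rintro ⟨g, hg, rfl⟩
    refine ⟨cj g (K y), ⟨g, mem_centralizer_singleton_iff.2 hg, rfl⟩, ?_⟩
    rw [h.hyp.zz_cj ⟨y, hy, rfl⟩, h.zz_K hy]
  · rintro ⟨_, ⟨g, hg, rfl⟩, rfl⟩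
    refine ⟨g, mem_centralizer_singleton_iff.1 hg, ?_⟩
    rw [h.hyp.zz_cj ⟨y, hy, rfl⟩, h.zz_K hy]

end

/-- the context of section 2: `W`, `AN(s)`, `y ∈ Z(s)` -/
structure S2 (Z : Set G) (K : G → Subgroup G) (s y : G) : Prop where
  w : W Z K
  an : AN Z K s
  mem : y ∈ ZC Z K s

namespace S2

variable [Finite G] {Z : Set G} {K : G → Subgroup G} {s x y n k a b g : G}

theorem conj (c : S2 Z K s y) (hg : g * s = s * g) : S2 Z K s (g * y * g⁻¹) := ⟨c.w, c.an, ZC_conj c.w c.mem hg⟩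

/-- another element of `Z(s)` -/
theorem other (c : S2 Z K s y) (hx : x ∈ ZC Z K s) : S2 Z K s x := ⟨c.w, c.an, hx⟩

theorem pN (c : S2 Z K s y) : IsPGroup 2 (NC s y) := NC_two c.an c.mem

theorem orb (c : S2 Z K s y) :
    Cfsg.Agent.Cit.ROne.Orb (K '' Z) (centralizer {s}) (NC s y) (orbK K s y) := by
  have h1 := Cfsg.Agent.Cit.ROne.Orb.of_orbit (H := centralizer {s}) c.w.hyp
    (by rintro _ ⟨x, hx, rfl⟩; exact c.w.two hx) (K := K y) ⟨y, c.mem.1, rfl⟩ (K_le_cent c.mem) (by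
      have := c.pN
      rw [NC_eq c.w c.mem.1] at this
      exact this)
  rw [NC_eq c.w c.mem.1]
  exact h1

theorem orb_mem (c : S2 Z K s y) (hg : g * s = s * g) : K (g * y * g⁻¹) ∈ orbK K s y :=
  ⟨g, mem_centralizer_singleton_iff.2 hg, (c.w.conjK y c.mem.1 g).symm⟩

theorem orb_self (c : S2 Z K s y) : K y ∈ orbK K s y := by
  simpa using c.orb_mem (g := 1) (by simp)

/-- **(2.4)** : `x ∈ Z(s)` lies in `N`, or `K x` commutes with `N` -/
theorem mem_or (c : S2 Z K s y) (hx : x ∈ ZC Z K s) : x ∈ NC s y ∨ ∀ k ∈ K x, ∀ n ∈ NC s y, k * n = n * k := by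
  by_cases h1 : x ∈ NC s y
  · exact Or.inl h1
  right
  refine c.w.hyp.lemma_one ⟨x, hx.1, rfl⟩ (c.w.two hx.1) c.pN (K_norm hx y) ?_
  rwa [c.w.zz_K hx.1]

theorem mem_of_ne (c : S2 Z K s y) (hx : x ∈ ZC Z K s) (hn : n ∈ NC s y) (hne : x * n ≠ n * x) : x ∈ NC s y := by
  rcases c.mem_or hx with h | h
  · exact h
  · exact absurd (h x (c.w.mem x hx.1) n hn) hne

/-- **(2.1)** : a `C(s)`-invariant subgroup of `N` without `y` commutes with `K y` -/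
theorem comm_of_not_mem (c : S2 Z K s y) {V : Subgroup G} (hV : centralizer {s} ≤ normalizer (V : Set G))
    (hVN : V ≤ NC s y) (hy : y ∉ V) : ∀ k ∈ K y, ∀ n ∈ V, k * n = n * k := by
  refine c.w.hyp.lemma_one ⟨y, c.mem.1, rfl⟩ (c.w.two c.mem.1) (c.pN.to_le hVN) ((K_le_cent c.mem).trans hV) ?_
  rwa [c.w.zz_K c.mem.1]

/-- `N` is commutative: then of exponent 2 -/
theorem sq_of_comm (c : S2 Z K s y) (hc : ∀ a ∈ NC s y, ∀ b ∈ NC s y, a * b = b * a) : ∀ a ∈ NC s y, a * a = 1 :=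
  c.orb.sq_of_comm hc

section noncomm

variable (hnc : ¬ ∀ a ∈ NC s y, ∀ b ∈ NC s y, a * b = b * a)

include hnc

/-- the centre of `N` commutes with `K y` -/
theorem centre (c : S2 Z K s y) (hn : n ∈ NC s y) (hc : ∀ a ∈ NC s y, n * a = a * n) (hk : k ∈ K y) :
    k * n = n * k := c.orb.centre hnc c.orb_self hk hn hc

theorem class_two (c : S2 Z K s y) (ha : a ∈ NC s y) (hb : b ∈ NC s y) (hn : n ∈ NC s y) :
    (a * b * a⁻¹ * b⁻¹) * n = n * (a * b * a⁻¹ * b⁻¹) := c.orb.class_two hnc ha hb hn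

theorem sq_comm (c : S2 Z K s y) (ha : a ∈ NC s y) (hn : n ∈ NC s y) : (a * a) * n = n * (a * a) :=
  c.orb.sq_comm hnc ha hn

theorem not_central (c : S2 Z K s y) : ¬ ∀ n ∈ NC s y, y * n = n * y := by
  have h1 := c.orb.zz_not_central hnc c.orb_self
  rwa [c.w.zz_K c.mem.1] at h1

end noncomm

/-- **`K x ⊓ N ≤ ⟨x⟩`** for `x ∈ Z` -/
theorem K_inf (c : S2 Z K s y) (hx : x ∈ Z) (ha : a ∈ K x) (haN : a ∈ NC s y) : a = 1 ∨ a = x := by
  by_cases hxN : x ∈ NC s y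
  · by_contra hcon
    push Not at hcon
    have hsq := c.w.sq_eq hx ha hcon.1 hcon.2
    by_cases hc : ∀ a ∈ NC s y, ∀ b ∈ NC s y, a * b = b * a
    · exact c.w.ne x hx (hsq ▸ c.sq_of_comm hc a haN)
    -- `x = a²` is central in `N`
    have hxc : ∀ n ∈ NC s y, x * n = n * x := fun n hn => by
      have := c.sq_comm hc haN hn
      rwa [hsq] at this
    -- `K y^g` commutes with `x`, so with `K x`
    have hKN : ∀ b ∈ K x, ∀ n ∈ NC s y, b * n = n * b := by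
      intro b hb
      refine comm_of_gens fun g hg => ?_
      have cg := c.conj hg
      have h1 : Cen K x (g * y * g⁻¹) := fun k hk => (c.orb.centre hc (c.orb_mem hg) hk hxN hxc).symm
      rcases (c.w.cen_iff cg.mem.1 hx).1 h1 with h2 | h2
      · exfalso
        refine cg.not_central (by rwa [NC_conj hg]) fun n hn => ?_
        rw [h2]
        rw [NC_conj hg] at hn
        exact hxc n hn
      · exact (h2.2 _ (c.w.mem _ cg.mem.1) b hb).symm
    -- `a` is central in `K x`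
    obtain ⟨b, hb, -, -, -, -, h1⟩ := c.w.exists_inv hx ha hsq
    rw [hKN b hb a haN, mul_inv_cancel_right, eq_inv_iff_mul_eq_one, hsq] at h1
    exact c.w.ne x hx h1
  · left
    refine c.w.hyp.eq_one_of_mem (N := NC s y) ⟨x, hx, rfl⟩ (c.w.two hx) ?_ ha haN
    rwa [c.w.zz_K hx]

/-- **(2.3)** : `n ∈ N` commuting with `x ∈ Z(s)` acts on `K x` as an inner automorphism -/
theorem inner (c : S2 Z K s y) (hx : x ∈ ZC Z K s) (hn : n ∈ NC s y) (hnx : n * x = x * n)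
    (hk : k ∈ K x) : n * k * n⁻¹ = k ∨ n * k * n⁻¹ = k * x := by
  have h1 : k⁻¹ * (n * k * n⁻¹) ∈ K x := (K x).mul_mem ((K x).inv_mem hk) (c.w.norm_mem hx.1 hnx hk)
  have h2 : k⁻¹ * (n * k * n⁻¹) ∈ NC s y := by
    have h3 := (mem_normalizer_iff.1 (K_norm hx y ((K x).inv_mem hk)) n).1 hn
    have h4 : k⁻¹ * (n * k * n⁻¹) = (k⁻¹ * n * k⁻¹⁻¹) * n⁻¹ := by group
    rw [h4]
    exact (NC s y).mul_mem h3 ((NC s y).inv_mem hn)
  rcases c.K_inf hx.1 h1 h2 with h3 | h3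
  · left; rwa [inv_mul_eq_one, eq_comm] at h3
  · right; rwa [inv_mul_eq_iff_eq_mul] at h3

/-- `n` does not act as a transposition -/
theorem not_trn (c : S2 Z K s y) (hx : x ∈ ZC Z K s) (hn : n ∈ NC s y) (hnx : n * x = x * n) : ¬ Trn K n x a := by
  intro ht
  obtain ⟨b, hb, hbb, h1, h2, -, -⟩ := c.w.exists_inv hx.1 ht.mem ht.sq
  obtain ⟨h3, h4⟩ := ht.ne b hb hbb h1 h2
  rcases c.inner hx hn hnx hb with h5 | h5
  · exact h3 h5
  · apply h4
    rw [h5, eq_inv_iff_mul_eq_one, mul_assoc, ← c.w.cent hx.1 hb, ← mul_assoc, hbb, c.w.sq x hx.1]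

/-- (2.3): `n ∈ N` commuting with `x ∈ Z(s)` acts on `K x` as `1` or as an element of order 4 -/
theorem inn_or (c : S2 Z K s y) (hx : x ∈ ZC Z K s) (hn : n ∈ NC s y) (hnx : n * x = x * n) :
    Cen K n x ∨ ∃ i, Inn K n x i := by
  have h1 : Cen K (n * n) x := by
    intro k hk
    have key : n * n * k * (n * n)⁻¹ = k := by
      have e : n * n * k * (n * n)⁻¹ = n * (n * k * n⁻¹) * n⁻¹ := by group
      rw [e]
      rcases c.inner hx hn hnx hk with h2 | h2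
      · rw [h2, h2]
      · rw [h2]
        have e2 : n * (k * x) * n⁻¹ = (n * k * n⁻¹) * (n * x * n⁻¹) := by group
        rw [e2, h2, hnx, mul_inv_cancel_right, mul_assoc, c.w.sq x hx.1, mul_one]
    rwa [mul_inv_eq_iff_eq_mul] at key
  rcases c.w.inv_cases hx.1 hnx h1 with h2 | h2 | ⟨b, h2⟩
  · exact Or.inl h2
  · exact Or.inr h2
  · exact absurd h2 (c.not_trn hx hn hnx)

/-- (2.3) for elements of `Z` -/
theorem cp_or_ti (c : S2 Z K s y) (hx : x ∈ ZC Z K s) (hn : n ∈ NC s y) (hnZ : n ∈ Z) (hne : n ≠ x)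
    (hnx : n * x = x * n) : CP K n x ∨ TI K n x := by
  rcases c.w.tri hnZ hx.1 hne hnx with h1 | h1 | ⟨b, b', h1, h2⟩
  · exact Or.inl h1
  · exact Or.inr h1
  · exact absurd h2 (c.not_trn hx hn hnx)

/-- **(2.5), (2.6)** : `N` not commutative: `w` -/
theorem exists_w (c : S2 Z K s y) (hnc : ¬ ∀ a ∈ NC s y, ∀ b ∈ NC s y, a * b = b * a) :
    ∃ w, w ≠ 1 ∧ w * w = 1 ∧ w ∈ NC s y ∧ (∀ n ∈ NC s y, w * n = n * w) ∧ (∀ k ∈ K y, k * w = w * k) ∧
      CP K y (y * w) ∧ y * w ∈ Z ∧ (∀ n ∈ NC s y, n * y * n⁻¹ = y ∨ n * y * n⁻¹ = y * w) ∧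
      ∃ g, g * s = s * g ∧ (g * y * g⁻¹) * y * (g * y * g⁻¹)⁻¹ = y * w := by
  have hyZ := c.mem.1
  have hzK := c.w.zz_K hyZ
  have hyp := c.w.hyp
  -- a conjugate of `y` which does not commute with `y`
  obtain ⟨g, hg, hgy⟩ : ∃ g, g * s = s * g ∧ (g * y * g⁻¹) * y ≠ y * (g * y * g⁻¹) := by
    by_contra hcon
    push Not at hcon
    exact c.not_central hnc (comm_of_gens fun g hg => (hcon g hg).symm)
  set m := g * y * g⁻¹ with hm
  have hmN : m ∈ NC s y := conj_mem_NC hg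
  have hKne : ∀ n, n * y * n⁻¹ ≠ y → K y ≠ cj n (K y) := by
    intro n h1 h2
    have h3 := congrArg zz h2
    rw [hyp.zz_cj ⟨y, hyZ, rfl⟩, hzK] at h3
    exact h1 h3.symm
  have hmy : m * y * m⁻¹ ≠ y := by rwa [Ne, mul_inv_eq_iff_eq_mul]
  have hw1 : ∀ n ∈ NC s y, _ := fun n hn => c.orb.w_comm hnc c.orb_self hmN hn
  have hw2 := c.orb.w_mem c.orb_self hmN
  have hw3 := c.orb.comm_cj hnc c.orb_self hmN (hKne m hmy)
  rw [hyp.zz_cj ⟨y, hyZ, rfl⟩, hzK] at hw1 hw2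
  have hyy := c.w.sq y hyZ
  have hyw : y * (y * (m * y * m⁻¹)) = m * y * m⁻¹ := by rw [← mul_assoc, hyy, one_mul]
  have hw4 : ∀ k ∈ K y, k * (y * (m * y * m⁻¹)) = (y * (m * y * m⁻¹)) * k := fun k hk =>
    c.centre hnc hw2 hw1 hk
  refine ⟨y * (m * y * m⁻¹), ?_, ?_, hw2, hw1, hw4, ?_, ?_, ?_, g, hg, ?_⟩
  · intro h1
    apply hmy
    calc m * y * m⁻¹ = y * (y * (m * y * m⁻¹)) := hyw.symm
      _ = y := by rw [h1, mul_one]
  · have h1 := hw4 y (c.w.mem y hyZ)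
    rw [hyw] at h1
    have h2 : (m * y * m⁻¹) * (m * y * m⁻¹) = 1 := by
      have : (m * y * m⁻¹) * (m * y * m⁻¹) = m * (y * y) * m⁻¹ := by group
      rw [this, hyy]; group
    calc y * (m * y * m⁻¹) * (y * (m * y * m⁻¹)) = (y * (m * y * m⁻¹) * y) * (m * y * m⁻¹) := by group
      _ = (m * y * m⁻¹) * (m * y * m⁻¹) := by rw [← h1]
      _ = 1 := h2
  · rw [hyw]
    refine ⟨hmy.symm, ?_⟩
    rw [c.w.conjK y hyZ]
    exact hw3
  · rw [hyw]; exact c.w.conjZ y hyZ m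
  · intro n hn
    rw [hyw]
    by_cases h1 : n * y * n⁻¹ = y
    · exact Or.inl h1
    right
    have h2 := c.orb.unique hnc c.orb_self hn hmN (hKne n h1) (hKne m hmy)
    have h3 := congrArg zz h2
    rwa [hyp.zz_cj ⟨y, hyZ, rfl⟩, hyp.zz_cj ⟨y, hyZ, rfl⟩, hzK] at h3
  · rw [hyw]

/-- an element of `N` moving `y` -/
theorem ncomm_of_ne (hn : n ∈ NC s y) (hne : n * y * n⁻¹ ≠ y) :
    ¬ ∀ a ∈ NC s y, ∀ b ∈ NC s y, a * b = b * a := fun hc => hne (by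
  rw [hc n hn y self_mem_NC, mul_inv_cancel_right])

/-- an element of `N` moving `y` moves it to a C-partner -/
theorem csw (c : S2 Z K s y) (hn : n ∈ NC s y) (hne : n * y * n⁻¹ ≠ y) : CSw K y n := by
  obtain ⟨w, -, -, -, -, -, hcp, -, hw, -⟩ := c.exists_w (ncomm_of_ne hn hne)
  rw [CSw, (hw n hn).resolve_left hne]
  exact hcp

/-- `w(y, n)` does not depend on `n ∈ N` moving `y` -/
theorem wt_eq (c : S2 Z K s y) {m : G} (hn : n ∈ NC s y) (hne : n * y * n⁻¹ ≠ y) (hm : m ∈ NC s y)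
    (hme : m * y * m⁻¹ ≠ y) : wt y n = wt y m := by
  obtain ⟨w, -, -, -, -, -, -, -, hw, -⟩ := c.exists_w (ncomm_of_ne hn hne)
  rw [wt, wt, (hw n hn).resolve_left hne, (hw m hm).resolve_left hme]

/-- `w(y, n)` is central in `N`, commutes with `K y`, is an involution -/
theorem wt_spec (c : S2 Z K s y) (hn : n ∈ NC s y) (hne : n * y * n⁻¹ ≠ y) :
    wt y n ≠ 1 ∧ wt y n * wt y n = 1 ∧ wt y n ∈ NC s y ∧ (∀ m ∈ NC s y, wt y n * m = m * wt y n) ∧
      (∀ k ∈ K y, k * wt y n = wt y n * k) ∧ y * wt y n ∈ Z ∧ n * y * n⁻¹ = y * wt y n := by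
  obtain ⟨w, h1, h2, h3, h4, h5, -, h7, hw, -⟩ := c.exists_w (ncomm_of_ne hn hne)
  have h8 := (hw n hn).resolve_left hne
  have h9 : wt y n = w := by rw [wt, h8, ← mul_assoc, c.w.sq y c.mem.1, one_mul]
  rw [h9]
  exact ⟨h1, h2, h3, h4, h5, h7, h8⟩

/-- `N` is commutative if no conjugate of `y` under `C(s)` moves `y` -/
theorem comm_of_orbit (c : S2 Z K s y)
    (hc : ∀ g, g * s = s * g → (g * y * g⁻¹) * y = y * (g * y * g⁻¹)) : ∀ a ∈ NC s y, ∀ b ∈ NC s y, a * b = b * a := by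
  by_contra hnc
  exact c.not_central hnc (comm_of_gens fun g hg => (hc g hg).symm)

/-- `N = ⟨y^{C(s)}⟩` is commutative if `y` is in no C-swap -/
theorem comm_of_no_csw (c : S2 Z K s y) (hc : ∀ v ∈ Z, ¬ CSw K y v) : ∀ a ∈ NC s y, ∀ b ∈ NC s y, a * b = b * a := by
  refine c.comm_of_orbit fun g hg => ?_
  by_contra h1
  refine hc (g * y * g⁻¹) (c.w.conjZ y c.mem.1 g) (c.csw (conj_mem_NC hg) ?_)
  rwa [Ne, mul_inv_eq_iff_eq_mul]

/-- (3.3) -/
theorem wt_unique {u v v1 : G} (c : S2 Z K s u) (hv : v ∈ ZC Z K s) (hv1 : v1 ∈ ZC Z K s)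
    (hne : v * u ≠ u * v) (hne1 : v1 * u ≠ u * v1) : wt u v = wt u v1 :=
  c.wt_eq (c.mem_of_ne hv self_mem_NC hne) (by rwa [Ne, mul_inv_eq_iff_eq_mul])
    (c.mem_of_ne hv1 self_mem_NC hne1) (by rwa [Ne, mul_inv_eq_iff_eq_mul])

end S2

/-- `⟨y^{C(s)}⟩` is commutative -/
def NCab (s y : G) : Prop := ∀ a ∈ NC s y, ∀ b ∈ NC s y, a * b = b * a

namespace W

variable [Finite G] {Z : Set G} {K : G → Subgroup G} {s x y n k a b g : G}

section

variable (h : W Z K) (ha : AN Z K s) (hy : y ∈ ZC Z K s)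

include h ha hy

/-- (2.4) -/
theorem nc_in_or (hx : x ∈ ZC Z K s) : x ∈ NC s y ∨ ∀ n ∈ NC s y, Cen K n x := by
  rcases (S2.mk h ha hy).mem_or hx with h1 | h1
  · exact Or.inl h1
  · exact Or.inr fun n hn k hk => (h1 k hk n hn).symm

/-- (2.3) -/
theorem nc_inn (hn : n ∈ NC s y) (hc : n * y = y * n) : ∀ k ∈ K y, n * k * n⁻¹ = k ∨ n * k * n⁻¹ = k * y :=
  fun _ hk => (S2.mk h ha hy).inner hy hn hc hk

/-- (2.3) for another element of `Z(s)` -/
theorem nc_inn' (hx : x ∈ ZC Z K s) (hn : n ∈ NC s y) (hc : n * x = x * n) :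
    ∀ k ∈ K x, n * k * n⁻¹ = k ∨ n * k * n⁻¹ = k * x := fun _ hk => (S2.mk h ha hy).inner hx hn hc hk

theorem nc_inf (hx : x ∈ K y) (hxN : x ∈ NC s y) : x = 1 ∨ x = y := (S2.mk h ha hy).K_inf hy.1 hx hxN

theorem nc_sq (hc : NCab s y) (hx : x ∈ NC s y) : x * x = 1 := (S2.mk h ha hy).sq_of_comm hc x hx

theorem nc_centre (hc : ¬ NCab s y) {c : G} (hcN : c ∈ NC s y) (hcc : ∀ n ∈ NC s y, c * n = n * c)
    (hg : g * s = s * g) : Cen K c (g * y * g⁻¹) := fun _ hk =>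
  ((S2.mk h ha hy).orb.centre hc ((S2.mk h ha hy).orb_mem hg) hk hcN hcc).symm

theorem nc_centre' (hc : ¬ NCab s y) {c : G} (hcN : c ∈ NC s y) (hcc : ∀ n ∈ NC s y, c * n = n * c) :
    Cen K c y := fun _ hk => ((S2.mk h ha hy).centre hc hcN hcc hk).symm

theorem nc_comm (hc : ¬ NCab s y) (haN : a ∈ NC s y) (hbN : b ∈ NC s y) :
    ∀ n ∈ NC s y, (a * b * a⁻¹ * b⁻¹) * n = n * (a * b * a⁻¹ * b⁻¹) :=
  fun _ hn => (S2.mk h ha hy).class_two hc haN hbN hn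

theorem nc_sq_comm (hc : ¬ NCab s y) (haN : a ∈ NC s y) : ∀ n ∈ NC s y, (a * a) * n = n * (a * a) :=
  fun _ hn => (S2.mk h ha hy).sq_comm hc haN hn

/-- (2.5) -/
theorem nc_uniq {n' : G} (hn : n ∈ NC s y) (hn' : n' ∈ NC s y) (hne : n * y * n⁻¹ ≠ y)
    (hne' : n' * y * n'⁻¹ ≠ y) : n * y * n⁻¹ = n' * y * n'⁻¹ := by
  have h1 := (S2.mk h ha hy).wt_eq hn hne hn' hne'
  exact mul_left_cancel h1

/-- (2.5) -/
theorem nc_csw (hn : n ∈ NC s y) (hne : n * y * n⁻¹ ≠ y) : CP K y (n * y * n⁻¹) := (S2.mk h ha hy).csw hn hne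

/-- (2.6) -/
theorem nc_exists (hc : ¬ NCab s y) : ∃ g, g * s = s * g ∧ (g * y * g⁻¹) * y ≠ y * (g * y * g⁻¹) := by
  by_contra hcon
  push Not at hcon
  exact hc ((S2.mk h ha hy).comm_of_orbit hcon)

end

theorem not_NCab (hn : n ∈ NC s y) (hne : n * y * n⁻¹ ≠ y) : ¬ NCab s y := S2.ncomm_of_ne hn hne

end W

end Cfsg.Agent.Cit.Nil.ROne
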