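import Cfsg.Agent.Cit.Nil.ROne.Swap
import Cfsg.Agent.Cit.Nil.ROne.ClTwoW

/-!
# (6b), `r = 1`, core-free: C-swaps (helper194)

(3.2), (3.3), (3.4) of `blueprints/R18-6b-r1-helper545.md`. `ANT Z K` : `AN(s)` for all `s ∈ T_S`, `s ≠ 1`.
For a C-swap `(u, v)`, `w = wt u v`, `N = NC w u = NC w v`:

* `swap_an`, `swap_mem`, `swap_NC`, `swap_ncab`, `swap_act`, `swap_act'`, `swap_cent`, `swap_inn` : (3.2);
* `swap_uniq` : (3.3);
* `dg_mem`, `dg_conj`, `dg_conj'` : (3.4).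
-/

set_option autoImplicit false
set_option linter.style.haveILetI false
set_option linter.unusedSectionVars false

namespace Cfsg.Agent.Cit.Nil.ROne

open Subgroup Cfsg Cit

variable {G : Type*} [Group G]

/-- `AN(s)` for all `1 ≠ s ∈ T_S` -/
def ANT [Finite G] (Z : Set G) (K : G → Subgroup G) : Prop := ∀ S : Sylow 2 G, ∀ s ∈ TT Z K S, s ≠ 1 → AN Z K s

namespace W

variable [Finite G] {Z : Set G} {K : G → Subgroup G} {z u v g x y k l n m s : G} (h : W Z K) (ha : ANT Z K)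

include h ha

theorem an_Z (hz : z ∈ Z) : AN Z K z := by
  obtain ⟨S, hS⟩ := h.exists_sylow hz
  exact ha S z (subset_closure hS) (h.ne z hz)

theorem an_cp (hz : z ∈ Z) (hu : u ∈ Z) (hc : CP K z u) : AN Z K (z * u) := by
  obtain ⟨S, h1, h2⟩ := h.exists_sylow_of_cp hz hu hc
  exact ha S _ (mul_mem (subset_closure h1) (subset_closure h2)) (h.cp_mul_ne hu hc)

section swap

variable (hu : u ∈ Z) (hv : v ∈ Z) (hs : CSw K u v)

include hu hv hs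

theorem swap_an : AN Z K (wt u v) := by
  obtain ⟨S, -, -, h1⟩ := h.wt_mem_TT hu hv hs
  exact ha S _ h1 (h.wt_ne hu hv hs)

/-- **(3.2)** : `v ∈ N` -/
theorem swap_mem : v ∈ NC (wt u v) u := by
  rcases h.nc_in_or (h.swap_an ha hu hv hs) (h.mem_ZC_u hu hv hs) (h.mem_ZC_v hu hv hs) with h1 | h1
  · exact h1
  · exact absurd (h1 u self_mem_NC v (h.mem v hv)) (h.csw_not_comm hu hv hs)

theorem swap_mem' : u ∈ NC (wt u v) v := by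
  have h1 := h.swap_mem ha hv hu (h.csw_symm hu hv hs)
  rwa [h.wt_symm hu hv hs] at h1

/-- **(3.2)** : `N = ⟨v ^ H⟩` -/
theorem swap_NC : NC (wt u v) u = NC (wt u v) v :=
  le_antisymm (NC_le_NC (h.swap_mem' ha hu hv hs)) (NC_le_NC (h.swap_mem ha hu hv hs))

theorem conj_u_ne : v * u * v⁻¹ ≠ u := fun h1 => hs.1 h1.symm

theorem swap_ncab : ¬ NCab (wt u v) u := fun hc =>
  h.csw_not_comm hu hv hs (hc u self_mem_NC v (h.swap_mem ha hu hv hs))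

/-- **(3.2)** : `[u, N] = ⟨w⟩` -/
theorem swap_act (hn : n ∈ NC (wt u v) u) : n * u * n⁻¹ = u ∨ n * u * n⁻¹ = u * wt u v := by
  by_cases h1 : n * u * n⁻¹ = u
  · exact Or.inl h1
  right
  rw [h.nc_uniq (h.swap_an ha hu hv hs) (h.mem_ZC_u hu hv hs) hn (h.swap_mem ha hu hv hs) h1
    (h.conj_u_ne ha hu hv hs), h.conj_u hu hv hs]

/-- **(3.2)** : `[v, N] = ⟨w⟩` -/
theorem swap_act' (hn : n ∈ NC (wt u v) u) : n * v * n⁻¹ = v ∨ n * v * n⁻¹ = v * wt u v := by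
  have h1 := h.swap_act ha hv hu (h.csw_symm hu hv hs) (n := n) (by
    rw [h.wt_symm hu hv hs, ← h.swap_NC ha hu hv hs]; exact hn)
  rwa [h.wt_symm hu hv hs] at h1

/-- **(3.2)** : `K u` centralises `Z(N)` -/
theorem swap_cent (hn : n ∈ NC (wt u v) u) (hc : ∀ m ∈ NC (wt u v) u, n * m = m * n) : Cen K n u :=
  h.nc_centre' (h.swap_an ha hu hv hs) (h.mem_ZC_u hu hv hs) (h.swap_ncab ha hu hv hs) hn hc

/-- **(3.2)** : `K v` centralises `Z(N)` -/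
theorem swap_cent' (hn : n ∈ NC (wt u v) u) (hc : ∀ m ∈ NC (wt u v) u, n * m = m * n) : Cen K n v := by
  have h1 := h.swap_NC ha hu hv hs
  refine h.swap_cent ha hv hu (h.csw_symm hu hv hs) (n := n) ?_ fun m hm => ?_
  · rw [h.wt_symm hu hv hs, ← h1]; exact hn
  · rw [h.wt_symm hu hv hs, ← h1] at hm
    exact hc m hm

theorem swap_inn (hn : n ∈ NC (wt u v) u) (hnu : n * u = u * n) : Cen K n u ∨ ∃ y, Inn K n u y :=
  (S2.mk h (h.swap_an ha hu hv hs) (h.mem_ZC_u hu hv hs)).inn_or (h.mem_ZC_u hu hv hs) hn hnu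

theorem swap_inn' (hn : n ∈ NC (wt u v) u) (hnv : n * v = v * n) : Cen K n v ∨ ∃ y, Inn K n v y :=
  (S2.mk h (h.swap_an ha hu hv hs) (h.mem_ZC_u hu hv hs)).inn_or (h.mem_ZC_v hu hv hs) hn hnv

/-- (2.3) for `u` -/
theorem swap_in (hn : n ∈ NC (wt u v) u) (hnu : n * u = u * n) (hk : k ∈ K u) :
    n * k * n⁻¹ = k ∨ n * k * n⁻¹ = k * u :=
  h.nc_inn (h.swap_an ha hu hv hs) (h.mem_ZC_u hu hv hs) hn hnu k hk

/-- (2.3) for `v` -/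
theorem swap_in' (hn : n ∈ NC (wt u v) u) (hnv : n * v = v * n) (hk : k ∈ K v) :
    n * k * n⁻¹ = k ∨ n * k * n⁻¹ = k * v :=
  h.nc_inn' (h.swap_an ha hu hv hs) (h.mem_ZC_u hu hv hs) (h.mem_ZC_v hu hv hs) hn hnv k hk

/-- an element of `Z(w)` lies in `N` or its member centralises `N` -/
theorem swap_or (hx : x ∈ Z) (hc : Cen K (wt u v) x) : x ∈ NC (wt u v) u ∨ ∀ n ∈ NC (wt u v) u, Cen K n x :=
  h.nc_in_or (h.swap_an ha hu hv hs) (h.mem_ZC_u hu hv hs) ⟨hx, hc⟩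

theorem wt_mem : wt u v ∈ NC (wt u v) u := by
  have h1 := h.conj_u hu hv hs
  have h2 : wt u v = u * (v * u * v⁻¹) := rfl
  have h3 : v * u * v⁻¹ ∈ NC (wt u v) u :=
    mul_mem (mul_mem (h.swap_mem ha hu hv hs) self_mem_NC) (inv_mem (h.swap_mem ha hu hv hs))
  have h4 := mul_mem (self_mem_NC (s := wt u v) (y := u)) h3
  exact h4

/-! ### (3.4) -/

theorem K_norm_u (hk : k ∈ K u) (hn : n ∈ NC (wt u v) u) : k * n * k⁻¹ ∈ NC (wt u v) u :=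
  mem_NC_conj (h.wt_cen_u hu hv hs k hk).symm hn

theorem K_norm_v (hk : k ∈ K v) (hn : n ∈ NC (wt u v) u) : k * n * k⁻¹ ∈ NC (wt u v) u :=
  mem_NC_conj (h.wt_cen_v hu hv hs k hk).symm hn

/-- `d_k ∈ N` for `k` of order 4 -/
theorem dg_mem (hk : k ∈ K u) (hkk : k * k = u) : dg v k ∈ NC (wt u v) u := by
  have h1 := h.conj_k_v hu hv hs hk hkk
  have h2 := h.K_norm_u ha hu hv hs hk (h.swap_mem ha hu hv hs)
  rw [h1] at h2
  have h3 : dg v k = v⁻¹ * (v * dg v k * u) * u⁻¹ := by group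
  rw [h3]
  exact mul_mem (mul_mem (inv_mem (h.swap_mem ha hu hv hs)) h2) (inv_mem self_mem_NC)

/-- `n ∈ C_N(u)` acts on `K u'` as on `K u` -/
theorem conj_vkv (hn : n ∈ NC (wt u v) u) (hk : k ∈ K u) :
    n * (v * k * v⁻¹) * n⁻¹ = v * (n * k * n⁻¹) * v⁻¹ := by
  have hN := h.swap_mem ha hu hv hs
  -- `c = n⁻¹ v⁻¹ n v` is central in `N`
  have h1 := h.nc_comm (h.swap_an ha hu hv hs) (h.mem_ZC_u hu hv hs) (h.swap_ncab ha hu hv hs)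
    (inv_mem hn) (inv_mem hN)
  have h2 : n⁻¹ * v⁻¹ * n⁻¹⁻¹ * v⁻¹⁻¹ ∈ NC (wt u v) u :=
    mul_mem (mul_mem (mul_mem (inv_mem hn) (inv_mem hN)) (inv_mem (inv_mem hn))) (inv_mem (inv_mem hN))
  have h3 := h.swap_cent ha hu hv hs h2 h1 k hk
  have h4 : v⁻¹ * n * v = n * (n⁻¹ * v⁻¹ * n⁻¹⁻¹ * v⁻¹⁻¹) := by group
  calc n * (v * k * v⁻¹) * n⁻¹ = v * ((v⁻¹ * n * v) * k * (v⁻¹ * n * v)⁻¹) * v⁻¹ := by group
    _ = v * (n * ((n⁻¹ * v⁻¹ * n⁻¹⁻¹ * v⁻¹⁻¹) * k) * (n * (n⁻¹ * v⁻¹ * n⁻¹⁻¹ * v⁻¹⁻¹))⁻¹) * v⁻¹ := by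
        rw [h4]; group
    _ = v * (n * (k * (n⁻¹ * v⁻¹ * n⁻¹⁻¹ * v⁻¹⁻¹)) * (n * (n⁻¹ * v⁻¹ * n⁻¹⁻¹ * v⁻¹⁻¹))⁻¹) * v⁻¹ := by rw [h3]
    _ = v * (n * k * n⁻¹) * v⁻¹ := by group

/-- **(3.4)** : `n ∈ N` centralising `k` centralises `d_k` -/
theorem dg_conj (hn : n ∈ NC (wt u v) u) (hk : k ∈ K u) (hc : n * k * n⁻¹ = k) : n * dg v k * n⁻¹ = dg v k := by
  have h1 := h.conj_vkv ha hu hv hs hn hk
  unfold dg
  calc n * (k * (v * k * v⁻¹)) * n⁻¹ = (n * k * n⁻¹) * (n * (v * k * v⁻¹) * n⁻¹) := by group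
    _ = k * (v * k * v⁻¹) := by rw [h1, hc]

/-- **(3.4)** : `k ^ n = k u` gives `d_k ^ n = d_k w` -/
theorem dg_conj' (hn : n ∈ NC (wt u v) u) (hk : k ∈ K u) (hc : n * k * n⁻¹ = k * u) :
    n * dg v k * n⁻¹ = dg v k * wt u v := by
  have h1 := h.conj_vkv ha hu hv hs hn hk
  have h2 := hs.2 u (h.mem u hu) (v * k * v⁻¹) (h.conj_mem_K hu v hk)
  unfold dg wt
  calc n * (k * (v * k * v⁻¹)) * n⁻¹ = (n * k * n⁻¹) * (n * (v * k * v⁻¹) * n⁻¹) := by group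
    _ = k * (u * (v * k * v⁻¹)) * (v * u * v⁻¹) := by rw [h1, hc]; group
    _ = k * (v * k * v⁻¹) * (u * (v * u * v⁻¹)) := by rw [h2]; group

end swap

omit ha in
/-- **(3.3)** -/
theorem swap_uniq (hAN : AN Z K s) {v' : G} (hu : u ∈ Z) (hv : v ∈ Z) (hv' : v' ∈ Z) (hs : CSw K u v)
    (hs' : CSw K u v') (h1 : Cen K s u) (h2 : Cen K s v) (h3 : Cen K s v') : wt u v = wt u v' :=
  (S2.mk h hAN ⟨hu, h1⟩).wt_unique ⟨hv, h2⟩ ⟨hv', h3⟩ (fun h4 => h.csw_not_comm hu hv hs h4.symm)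
    (fun h4 => h.csw_not_comm hu hv' hs' h4.symm)

omit ha in
/-- **(3.3)**, first entry -/
theorem swap_uniq' (hAN : AN Z K s) {u' : G} (hu : u ∈ Z) (hu' : u' ∈ Z) (hv : v ∈ Z) (hs : CSw K u v)
    (hs' : CSw K u' v) (h1 : Cen K s u) (h2 : Cen K s u') (h3 : Cen K s v) : wt u v = wt u' v := by
  have h4 := h.swap_uniq hAN hv hu hu' (h.csw_symm hu hv hs) (h.csw_symm hu' hv hs') h3 h1 h2
  rwa [h.wt_symm hu hv hs, h.wt_symm hu' hv hs'] at h4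

end W

end Cfsg.Agent.Cit.Nil.ROne
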