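import Cfsg.Agent.Cit.Nil.ROne.Base
import Cfsg.Agent.Cit.CorTwo

/-!
# `r = 1`, section 8 of helper545's text: the classes of components and the subgroup `M`

`Gr Z K P Cn` : `Cn x y` (`x`, `y` in the same connected component) with the properties proved in sections 2 and (8.1):

* `dich` : `P s` (`s` is a nontrivial product of elements of a clique), `x`, `y ∈ Z(s)`: they commute or form a C-swap;
* `swap` : C-swaps are in the same component;
* `perp` : (8.1).

Then `Rel x y := Cn x y ∨ CP K x y` is an equivalence relation on `Z` (8.2). `MM h z` : the stabiliser of the class of `z`;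
(8.3) `centralizer_le_MM`, `rel_of_comm`, `le_MM`, (8.4) `mem_MM`, `mem_of_MM`, (8.5) `centralizer_le_MM'`,
(8.6) `MM_ne_top` (more than one component), `const_false` (only one component and an invariant constant on the component).
-/

set_option autoImplicit false
set_option linter.style.haveILetI false
set_option linter.unusedSectionVars false

namespace Cfsg.Agent.Cit.Nil.ROne

open Subgroup Cfsg Cfsg.Agent.Cit

variable {G : Type*} [Group G]

/-- see the head of the file -/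
structure Gr (Z : Set G) (K : G → Subgroup G) (P : G → Prop) (Cn : G → G → Prop) : Prop where
  w : W Z K
  cls : OneCls Z
  cp : ∀ S : Subgroup G, IsPGroup 2 S → ∀ x ∈ Z, ∀ y ∈ Z, K x ≤ S → K y ≤ S → x ≠ y → CP K x y
  refl : ∀ x ∈ Z, Cn x x
  symm : ∀ x y, Cn x y → Cn y x
  trans : ∀ x y z, Cn x y → Cn y z → Cn x z
  conj : ∀ x y g, Cn x y → Cn (g * x * g⁻¹) (g * y * g⁻¹)
  pz : ∀ z ∈ Z, P z
  dich : ∀ s, P s → ∀ x ∈ Z, ∀ y ∈ Z, Cen K s x → Cen K s y → x * y = y * x ∨ CP K x (y * x * y⁻¹)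
  swap : ∀ x ∈ Z, ∀ y ∈ Z, CP K x (y * x * y⁻¹) → Cn x y
  perp : ∀ x ∈ Z, ∀ y ∈ Z, x * y = y * x → ¬ Cn x y → ∀ x' ∈ Z, ∀ y' ∈ Z, Cn x x' → Cn y y' → CP K x' y'

namespace Gr

theorem conj_inv_conj (g x : G) : g⁻¹ * (g * x * g⁻¹) * g⁻¹⁻¹ = x := by group

theorem conj_conj (g h x : G) : g * (h * x * h⁻¹) * g⁻¹ = (g * h) * x * (g * h)⁻¹ := by group

variable {Z : Set G} {K : G → Subgroup G} {P : G → Prop} {Cn : G → G → Prop}

/-- the relation of (8.2) -/
def Rel (_h : Gr Z K P Cn) (x y : G) : Prop := Cn x y ∨ CP K x y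

section

variable (h : Gr Z K P Cn) {x y z g : G}

theorem rel_refl (hx : x ∈ Z) : h.Rel x x := Or.inl (h.refl x hx)

theorem rel_symm (hxy : h.Rel x y) : h.Rel y x := by
  rcases hxy with h1 | h1
  · exact Or.inl (h.symm x y h1)
  · exact Or.inr h1.symm

theorem rel_conj (hx : x ∈ Z) (hy : y ∈ Z) (hxy : h.Rel x y) (g : G) : h.Rel (g * x * g⁻¹) (g * y * g⁻¹) := by
  rcases hxy with h1 | h1
  · exact Or.inl (h.conj x y g h1)
  · exact Or.inr (h.w.cp_conj hx hy h1 g)

theorem rel_conj_iff (hx : x ∈ Z) (hy : y ∈ Z) (g : G) :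
    h.Rel (g * x * g⁻¹) (g * y * g⁻¹) ↔ h.Rel x y := by
  refine ⟨fun h1 => ?_, fun h1 => h.rel_conj hx hy h1 g⟩
  have h2 := h.rel_conj (h.w.conjZ x hx g) (h.w.conjZ y hy g) h1 g⁻¹
  rwa [conj_inv_conj, conj_inv_conj] at h2

/-- commuting elements are related -/
theorem rel_of_comm (hx : x ∈ Z) (hy : y ∈ Z) (hxy : x * y = y * x) : h.Rel x y := by
  by_cases h1 : Cn x y
  · exact Or.inl h1
  · exact Or.inr (h.perp x hx y hy hxy h1 x hx y hy (h.refl x hx) (h.refl y hy))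

/-- an alternative: two elements in `Z(s)` are related -/
theorem rel_of_P {s : G} (hs : P s) (hx : x ∈ Z) (hy : y ∈ Z) (h1 : Cen K s x) (h2 : Cen K s y) : h.Rel x y := by
  rcases h.dich s hs x hx y hy h1 h2 with h3 | h3
  · exact h.rel_of_comm hx hy h3
  · exact Or.inl (h.swap x hx y hy h3)

theorem cp_of_rel (hx : x ∈ Z) (hy : y ∈ Z) (hxy : h.Rel x y) (h1 : ¬ Cn x y) {x' y' : G} (hx' : x' ∈ Z)
    (hy' : y' ∈ Z) (hxx : Cn x x') (hyy : Cn y y') : CP K x' y' := by
  rcases hxy with h2 | h2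
  · exact absurd h2 h1
  · exact h.perp x hx y hy (h.w.comm_of_cp hx hy h2) h1 x' hx' y' hy' hxx hyy

/-- **(8.2)** -/
theorem rel_trans (hx : x ∈ Z) (hy : y ∈ Z) (hz : z ∈ Z) (hxy : h.Rel x y) (hyz : h.Rel y z) : h.Rel x z := by
  by_cases h1 : Cn x y
  · by_cases h2 : Cn y z
    · exact Or.inl (h.trans x y z h1 h2)
    · exact Or.inr (h.cp_of_rel hy hz hyz h2 hx hz (h.symm _ _ h1) (h.refl z hz))
  · by_cases h2 : Cn y z
    · exact Or.inr (h.cp_of_rel hx hy hxy h1 hx hz (h.refl x hx) h2)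
    · have c1 : CP K y x := (h.cp_of_rel hx hy hxy h1 hx hy (h.refl x hx) (h.refl y hy)).symm
      have c2 : CP K y z := h.cp_of_rel hy hz hyz h2 hy hz (h.refl y hy) (h.refl z hz)
      exact h.rel_of_P (h.pz y hy) hx hz (h.w.cen_of_cp hy c1.symm) (h.w.cen_of_cp hy c2.symm)

/-- the stabiliser of the class of `z` -/
def MM (z : G) (hz : z ∈ Z) : Subgroup G where
  carrier := {g | h.Rel z (g * z * g⁻¹)}
  one_mem' := by
    change h.Rel z (1 * z * 1⁻¹)
    rw [one_mul, inv_one, mul_one]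
    exact h.rel_refl hz
  mul_mem' := by
    intro a b ha hb
    have h1 := h.rel_conj hz (h.w.conjZ z hz b) hb a
    rw [conj_conj] at h1
    exact h.rel_trans hz (h.w.conjZ z hz a) (h.w.conjZ z hz (a * b)) ha h1
  inv_mem' := by
    intro a ha
    have h1 := h.rel_conj hz (h.w.conjZ z hz a) ha a⁻¹
    rw [conj_inv_conj] at h1
    exact h.rel_symm h1

theorem mem_MM_iff (hz : z ∈ Z) : g ∈ h.MM z hz ↔ h.Rel z (g * z * g⁻¹) := Iff.rfl

/-- related elements have the same stabiliser -/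
theorem MM_eq (hx : x ∈ Z) (hy : y ∈ Z) (hxy : h.Rel x y) : h.MM x hx = h.MM y hy := by
  have key : ∀ {x y : G} (hx : x ∈ Z) (hy : y ∈ Z), h.Rel x y → h.MM x hx ≤ h.MM y hy := by
    intro x y hx hy hxy g hg
    have h1 := h.rel_conj hx hy hxy g
    exact h.rel_trans hy hx (h.w.conjZ y hy g) (h.rel_symm hxy)
      (h.rel_trans hx (h.w.conjZ x hx g) (h.w.conjZ y hy g) hg h1)
  exact le_antisymm (key hx hy hxy) (key hy hx (h.rel_symm hxy))

theorem mem_MM_of_rel (hz : z ∈ Z) (hx : x ∈ Z) (hzx : h.Rel z x) (hg : h.Rel x (g * x * g⁻¹)) :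
    g ∈ h.MM z hz := by
  rw [h.MM_eq hz hx hzx]
  exact hg

/-- **(8.3)** -/
theorem centralizer_le_MM (hz : z ∈ Z) (hx : x ∈ Z) (hzx : h.Rel z x) : centralizer {x} ≤ h.MM z hz := by
  intro g hg
  refine h.mem_MM_of_rel hz hx hzx ?_
  rw [mem_centralizer_singleton_iff.1 hg, mul_inv_cancel_right]
  exact h.rel_refl hx

/-- two elements whose members lie in a common 2-group are related -/
theorem rel_of_le {S : Subgroup G} (hS : IsPGroup 2 S) (hx : x ∈ Z) (hy : y ∈ Z) (h1 : K x ≤ S) (h2 : K y ≤ S) :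
    h.Rel x y := by
  by_cases h3 : x = y
  · rw [← h3]
    exact h.rel_refl hx
  · exact Or.inr (h.cp S hS x hx y hy h1 h2 h3)

/-- **(8.3)** -/
theorem le_MM {S : Subgroup G} (hS : IsPGroup 2 S) (hz : z ∈ Z) (h1 : K z ≤ S) : S ≤ h.MM z hz := by
  intro s hs
  refine h.rel_of_le hS hz (h.w.conjZ z hz s) h1 ?_
  rw [h.w.conjK z hz]
  intro x hx
  have h2 := mul_mem (mul_mem hs (h1 (mem_cj.1 hx))) (inv_mem hs)
  simpa [mul_assoc] using h2

/-- **(8.5)** -/
theorem centralizer_le_MM' {s : G} (hs : P s) (hz : z ∈ Z) (h1 : Cen K s z) : centralizer {s} ≤ h.MM z hz := by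
  intro g hg
  refine h.rel_of_P hs hz (h.w.conjZ z hz g) h1 ?_
  intro k hk
  rw [h.w.conjK z hz] at hk
  have h2 := h1 _ (mem_cj.1 hk)
  have h3 := mem_centralizer_singleton_iff.1 hg
  have h4 : g⁻¹ * s * g = s := by rw [mul_assoc, ← h3, inv_mul_cancel_left]
  calc s * k = (g * (g⁻¹ * s * g) * g⁻¹) * k := by group
    _ = g * (s * (g⁻¹ * k * g)) * g⁻¹ := by rw [h4]; group
    _ = g * ((g⁻¹ * k * g) * (g⁻¹ * s * g)) * g⁻¹ := by rw [h2, h4]
    _ = k * s := by group

end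

section

variable [Finite G] (h : Gr Z K P Cn) {x y z g : G}

/-- an element of `Z` in the class of `z` is in `M` -/
theorem mem_MM (hz : z ∈ Z) (hx : x ∈ Z) (hzx : h.Rel z x) : x ∈ h.MM z hz :=
  h.centralizer_le_MM hz hx hzx (mem_centralizer_singleton_iff.2 rfl)

/-- **(8.4)** -/
theorem rel_of_mem_MM (hz : z ∈ Z) (hx : x ∈ Z) (hxM : x ∈ h.MM z hz) : h.Rel z x := by
  haveI : Fact (Nat.Prime 2) := ⟨Nat.prime_two⟩
  obtain ⟨S, hS⟩ := (h.w.two hz).exists_le_sylow
  have hSM : (S : Subgroup G) ≤ h.MM z hz := h.le_MM S.isPGroup' hz hS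
  -- a conjugate of `x` lies in `S`
  let S' : Sylow 2 (h.MM z hz) := S.subtype hSM
  have h1 : IsPGroup 2 (zpowers (⟨x, hxM⟩ : h.MM z hz)) := by
    refine IsPGroup.of_card (n := 1) ?_
    rw [Nat.card_zpowers, pow_one, ← orderOf_injective (h.MM z hz).subtype (Subtype.coe_injective)]
    exact h.w.ord hx
  obtain ⟨m, hm⟩ := exists_le_cj S' h1
  have h2 : (m : G)⁻¹ * x * m ∈ (S : Subgroup G) := by
    have h3 := mem_cj.1 (hm (mem_zpowers _))
    exact h3
  set m' : G := (m : G)⁻¹ with hm'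
  have hm'M : m' ∈ h.MM z hz := inv_mem m.2
  have hx' : m' * x * m'⁻¹ ∈ Z := h.w.conjZ x hx m'
  have h3 : m' * x * m'⁻¹ ∈ (S : Subgroup G) := by
    rw [hm', inv_inv]
    exact h2
  have key : h.Rel z (m' * x * m'⁻¹) := by
    set x' := m' * x * m'⁻¹
    have h4 : K (x' * z * x'⁻¹) ≤ S := by
      rw [h.w.conjK z hz]
      intro k hk
      have h5 := mul_mem (mul_mem h3 (hS (mem_cj.1 hk))) (inv_mem h3)
      simpa [mul_assoc] using h5
    by_cases h5 : z = x' * z * x'⁻¹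
    · refine h.rel_of_comm hz hx' ?_
      exact eq_mul_inv_iff_mul_eq.1 h5
    · exact Or.inl (h.swap z hz x' hx' (h.cp S S.isPGroup' z hz _ (h.w.conjZ z hz x') hS h4 h5))
  have h6 := h.rel_conj hz hx' key m'⁻¹
  rw [conj_inv_conj] at h6
  exact h.rel_trans hz (h.w.conjZ z hz m'⁻¹) hx ((h.mem_MM_iff hz).1 (inv_mem hm'M)) h6

theorem mem_MM_iff' (hz : z ∈ Z) (hx : x ∈ Z) : x ∈ h.MM z hz ↔ h.Rel z x :=
  ⟨h.rel_of_mem_MM hz hx, h.mem_MM hz hx⟩

/-- an element of `Z` in `M ∩ M^g` : then `g ∈ M` -/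
theorem mem_of_mem (hz : z ∈ Z) (hx : x ∈ Z) (h1 : x ∈ h.MM z hz) (h2 : g⁻¹ * x * g ∈ h.MM z hz) :
    g ∈ h.MM z hz := by
  have h3 := h.rel_of_mem_MM hz hx h1
  have hx' : g⁻¹ * x * g⁻¹⁻¹ ∈ Z := h.w.conjZ x hx g⁻¹
  rw [inv_inv] at hx'
  have h4 := h.rel_of_mem_MM hz hx' h2
  have h5 := h.rel_conj hz hx' h4 g
  have h6 : g * (g⁻¹ * x * g) * g⁻¹ = x := by group
  rw [h6] at h5
  exact h.rel_trans hz hx (h.w.conjZ z hz g) h3 (h.rel_symm h5)

end

end Gr

/-! ### The simple normal subgroup -/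

/-- `G0` is a nonabelian simple normal subgroup with trivial centraliser -/
structure FSimp (G0 : Subgroup G) : Prop where
  nor : G0.Normal
  sim : IsSimpleGroup G0
  na : ¬ ∀ x ∈ G0, ∀ y ∈ G0, x * y = y * x
  cen : centralizer (G0 : Set G) = ⊥

namespace FSimp

variable {G0 : Subgroup G} (f : FSimp G0)

include f

/-- a nontrivial subgroup normalised by `G0` contains `G0` -/
theorem le {N : Subgroup G} (hN : ∀ g ∈ G0, ∀ n ∈ N, g * n * g⁻¹ ∈ N) (h1 : N ≠ ⊥) : G0 ≤ N := by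
  haveI := f.nor
  haveI := f.sim
  have h2 : (N.subgroupOf G0).Normal := by
    refine ⟨fun n hn g => ?_⟩
    exact hN g g.2 n hn
  rcases h2.eq_bot_or_eq_top with h3 | h3
  · exfalso
    apply h1
    rw [eq_bot_iff, ← f.cen]
    intro n hn
    rw [mem_centralizer_iff]
    intro g hg
    have h4 : g * n * g⁻¹ * n⁻¹ ∈ N := mul_mem (hN g hg n hn) (inv_mem hn)
    have h5 : g * n * g⁻¹ * n⁻¹ ∈ G0 := by
      have h6 : g * n * g⁻¹ * n⁻¹ = g * (n * g⁻¹ * n⁻¹) := by group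
      rw [h6]
      exact mul_mem hg (f.nor.conj_mem _ (inv_mem hg) n)
    have h6 : (⟨_, h5⟩ : G0) ∈ N.subgroupOf G0 := h4
    rw [h3, mem_bot] at h6
    have h7 : g * n * g⁻¹ * n⁻¹ = 1 := congrArg Subtype.val h6
    have h8 : g * n = n * g := by
      calc g * n = (g * n * g⁻¹ * n⁻¹) * (n * g) := by group
        _ = n * g := by rw [h7, one_mul]
    exact h8
  · exact subgroupOf_eq_top.1 h3

/-- there is no nontrivial commutative subgroup normalised by `G0` -/
theorem eq_bot {N : Subgroup G} (hN : ∀ g ∈ G0, ∀ n ∈ N, g * n * g⁻¹ ∈ N)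
    (h1 : ∀ x ∈ N, ∀ y ∈ N, x * y = y * x) : N = ⊥ := by
  by_contra h2
  exact f.na fun x hx y hy => h1 x (f.le hN h2 hx) y (f.le hN h2 hy)

end FSimp

namespace Gr

variable {Z : Set G} {K : G → Subgroup G} {P : G → Prop} {Cn : G → G → Prop}

variable (h : Gr Z K P Cn) {x y z g : G} {G0 : Subgroup G}

/-- the subgroup generated by the members of a component -/
def XX (_h : Gr Z K P Cn) (x : G) : Subgroup G := Subgroup.closure {k | ∃ y ∈ Z, Cn x y ∧ k ∈ K y}

theorem K_le_XX (hy : y ∈ Z) (hxy : Cn x y) : K y ≤ h.XX x := fun _ hk => subset_closure ⟨y, hy, hxy, hk⟩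

/-- the members in different components of a class commute -/
theorem XX_comm (hx : x ∈ Z) (hy : y ∈ Z) (hxy : h.Rel x y) (h1 : ¬ Cn x y) {a b : G} (ha : a ∈ h.XX x)
    (hb : b ∈ h.XX y) : a * b = b * a := by
  have h2 : h.XX x ≤ centralizer (h.XX y : Set G) := by
    rw [XX, closure_le]
    rintro k ⟨x', hx', hxx', hk⟩
    rw [SetLike.mem_coe, mem_centralizer_iff]
    intro b hb
    have h3 : h.XX y ≤ centralizer {k} := by
      rw [XX, closure_le]
      rintro l ⟨y', hy', hyy', hl⟩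
      rw [SetLike.mem_coe, mem_centralizer_singleton_iff]
      exact ((h.cp_of_rel hx hy hxy h1 hx' hy' hxx' hyy').2 k hk l hl).symm
    exact mem_centralizer_singleton_iff.1 (h3 hb)
  exact (mem_centralizer_iff.1 (h2 ha) b hb).symm

/-- **(8.6), more than one component** -/
theorem MM_ne_top (f : FSimp G0) (hz : z ∈ Z) (h2 : ∃ x ∈ Z, ∃ y ∈ Z, ¬ Cn x y) : h.MM z hz ≠ ⊤ := by
  intro htop
  obtain ⟨x, hx, y, hy, hxy⟩ := h2
  -- all elements of `Z` are related
  have hrel : ∀ x ∈ Z, ∀ y ∈ Z, h.Rel x y := by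
    have key : ∀ x ∈ Z, h.Rel z x := by
      intro x hx
      obtain ⟨g, rfl⟩ := h.cls z hz x hx
      rw [← h.mem_MM_iff hz, htop]
      exact mem_top g
    exact fun x hx y hy => h.rel_trans hx hz hy (h.rel_symm (key x hx)) (key y hy)
  -- the subgroup generated by all members
  set OO : Subgroup G := Subgroup.closure {k | ∃ y ∈ Z, k ∈ K y} with hOO
  have hG0 : G0 ≤ OO := by
    refine f.le ?_ ?_
    · intro g _ n hn
      have h3 : OO ≤ OO.comap (MulAut.conj g).toMonoidHom := by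
        rw [hOO, closure_le]
        rintro k ⟨y, hy, hk⟩
        refine subset_closure ⟨g * y * g⁻¹, h.w.conjZ y hy g, ?_⟩
        rw [h.w.conjK y hy]
        exact conj_mem_cj hk
      exact h3 hn
    · intro h3
      have h4 : z ∈ OO := subset_closure ⟨z, hz, h.w.mem z hz⟩
      rw [h3, mem_bot] at h4
      exact h.w.ne z hz h4
  have key : ∀ x ∈ Z, G0 ≤ h.XX x := by
    intro x hx
    refine f.le (fun g hg n hn => ?_) ?_
    · have h3 : OO ≤ normalizer (h.XX x : Set G) := by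
        rw [hOO, closure_le]
        rintro k ⟨y, hy, hk⟩
        by_cases h4 : Cn x y
        · exact le_normalizer (h.K_le_XX hy h4 hk)
        · rw [SetLike.mem_coe, mem_normalizer_iff]
          intro n
          have h5 : k ∈ h.XX y := h.K_le_XX hy (h.refl y hy) hk
          have h6 : ∀ n ∈ h.XX x, k * n * k⁻¹ = n := fun n hn => by
            rw [← h.XX_comm hx hy (hrel x hx y hy) h4 hn h5, mul_inv_cancel_right]
          refine ⟨fun hn => by rw [h6 n hn]; exact hn, fun hn => ?_⟩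
          have h7 : n = k⁻¹ * (k * n * k⁻¹) * k := by group
          have h8 := h.XX_comm hx hy (hrel x hx y hy) h4 hn h5
          rw [h7, mul_assoc, h8, inv_mul_cancel_left]
          exact hn
      exact (mem_normalizer_iff.1 (h3 (hG0 hg)) n).1 hn
    · intro h3
      have h4 : x ∈ h.XX x := h.K_le_XX hx (h.refl x hx) (h.w.mem x hx)
      rw [h3, mem_bot] at h4
      exact h.w.ne x hx h4
  exact f.na fun a ha b hb => h.XX_comm hx hy (hrel x hx y hy) hxy (key x hx ha) (key y hy hb)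

omit h in
/-- **(8.6), one component**: there is no equivariant map from `Z` to the nontrivial commutative subgroups which is
constant on `Z` -/
theorem const_false (f : FSimp G0) {F : G → Subgroup G} (hz : z ∈ Z)
    (hF : ∀ z ∈ Z, ∀ g, F (g * z * g⁻¹) = cj g (F z)) (h1 : F z ≠ ⊥) (hc : ∀ x ∈ F z, ∀ y ∈ F z, x * y = y * x)
    (hZ : ∀ z ∈ Z, ∀ g, g * z * g⁻¹ ∈ Z) (hcon : ∀ x ∈ Z, ∀ y ∈ Z, F x = F y) : False := by
  apply h1
  refine f.eq_bot (fun g _ n hn => ?_) hc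
  have h2 := hF z hz g
  rw [← hcon z hz _ (hZ z hz g)] at h2
  rw [h2]
  exact conj_mem_cj hn

end Gr

end Cfsg.Agent.Cit.Nil.ROne
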