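import Cfsg.Agent.Cit.CloOne

/-!
# `r = 1`: the end of step 9

A nontrivial commutative subgroup strongly closed in a Sylow 2-subgroup `S` with two different members in `Om(S)` is
impossible in a simple group (S1169, Bender's theorem).
-/

set_option autoImplicit false
set_option linter.style.haveILetI false
set_option linter.unusedSectionVars false

namespace Cfsg.Agent.Cit.ROne

open Subgroup Cfsg Cfsg.Agent.Cit

variable {G : Type*} [Group G]

/-- the form of S1169 which is used -/
def Gold (G : Type*) [Group G] [Finite G] : Prop := ∀ (S : Sylow 2 G) (A : Subgroup G), A ≠ ⊥ → IsMulCommutative A →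
  IsStronglyClosed A (S : Subgroup G) → IsMulCommutative (S : Subgroup G) ∨ ∃ H : Subgroup G, IsStronglyEmbedded H

/-- **a strongly closed commutative subgroup is impossible** -/
theorem false_of_closed [Finite G] {Om : Set (Subgroup G)} (h : Hyp Om) (S : Sylow 2 G) {K L : Subgroup G}
    (hK : K ∈ OmS Om (S : Subgroup G)) (hL : L ∈ OmS Om (S : Subgroup G)) (hKL : K ≠ L) (gold : Gold G)
    (hB : CloEnd.Bend G) {A : Subgroup G} (hA : A ≠ ⊥) (hc : ∀ x ∈ A, ∀ y ∈ A, x * y = y * x)
    (hsc : IsStronglyClosed A (S : Subgroup G)) : False := by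
  rcases gold S A hA ⟨⟨fun a b => Subtype.ext (hc a a.2 b b.2)⟩⟩ hsc with h1 | ⟨H, hH⟩
  · obtain ⟨c, v, n, hq⟩ := h.exists_gq hK.1 (syl_inf S.isPGroup' hK)
    apply hq.not_comm
    exact congrArg Subtype.val (h1.is_comm.comm ⟨v, hq.v_mem.2⟩ ⟨c, hq.c_mem.2⟩)
  · exact (CloOne.two_of_ne h S.isPGroup' hK hL hKL).not_stronglyEmbedded hB H hH

end Cfsg.Agent.Cit.ROne
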