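import Cfsg.Agent.Cit.Nil.ROne.GraphB
import Cfsg.Agent.Cit.Nil.ROne.Close
import Cfsg.Agent.Cit.Sub
import Cfsg.Agent.GH.QAZStar
import Cfsg.Agent.Lib.SylowNormalInf
import Cfsg.Agent.TwoFusion.StronglyEmbeddedBasic

/-!
# `r = 1`: the end (section 10 of helper545's text) for `F*(G) = G0` simple

`Tr Z K G0` : `K z ∩ G0 = ⟨z⟩` for `z ∈ Z`.

* `W.inf_cases` : by (C3) `K z ≤ G0` or `K z ∩ G0 = ⟨z⟩`;
* `Tr.cp` : **(T)** `h ∈ G0`, `z ≠ z^h`, `z z^h = z^h z`: then `(z, z^h)` is a C-pair;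
* `Tr.not_comm` : Sylow 2-subgroups of `G0` are not commutative;
* `Tr.not_emb` : the involutions of `G0` are not all conjugate in `G0` if there is a C-pair;
* `W.false_of_closed` : there is no strongly closed commutative subgroup.
-/

set_option autoImplicit false
set_option linter.style.haveILetI false
set_option linter.unusedSectionVars false

namespace Cfsg.Agent.Cit.Nil.ROne

open Subgroup Cfsg Cfsg.Agent.Cit

variable {G : Type*} [Group G] {Z : Set G} {K : G → Subgroup G} {G0 : Subgroup G} {z u x y b c d g : G}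

namespace W

variable (h : W Z K)

include h

/-- the elements of `K z` -/
theorem gen_of_ne (hz : z ∈ Z) (hy : y ∈ K z) (hyy : y * y = z) (hb : b ∈ K z) (hbb : b * b = z) (h1 : b ≠ y)
    (h2 : b ≠ y⁻¹) (hx : x ∈ K z) : x ∈ closure {y, b} := by
  have h3 : ∀ p q : QEight.Q, p * p = QuaternionGroup.a 2 → q * q = QuaternionGroup.a 2 → q ≠ p → q ≠ p⁻¹ →
      ∀ r : QEight.Q, r = 1 ∨ r = p * p ∨ r = p ∨ r = p⁻¹ ∨ r = q ∨ r = q⁻¹ ∨ r = p * q ∨ r = q * p := by decide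
  have hsq : ∀ {y : G} (hy : y ∈ K z), y * y = z → h.e hz ⟨y, hy⟩ * h.e hz ⟨y, hy⟩ = QuaternionGroup.a 2 := by
    intro y hy h4
    rw [← h.e_mul hz hy hy, ← h.e_z hz]
    exact congrArg (h.e hz) (Subtype.ext h4)
  have hyc : y ∈ closure {y, b} := subset_closure (by simp)
  have hbc : b ∈ closure {y, b} := subset_closure (by simp)
  have h4 := h3 _ _ (hsq hy hyy) (hsq hb hbb) (fun h5 => h1 (h.e_inj hz _ _ h5))
    (fun h5 => h2 (by rw [← h.e_inv hz hy] at h5; exact h.e_inj hz _ _ h5)) (h.e hz ⟨x, hx⟩)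
  have h1' : (1 : QEight.Q) = h.e hz ⟨1, one_mem _⟩ := (map_one (h.e hz)).symm
  rw [← h.e_mul hz hy hy, ← h.e_inv hz hy, ← h.e_inv hz hb, ← h.e_mul hz hy hb, ← h.e_mul hz hb hy, h1'] at h4
  rcases h4 with h5 | h5 | h5 | h5 | h5 | h5 | h5 | h5 <;> rw [h.e_inj hz _ _ h5]
  · exact one_mem _
  · exact mul_mem hyc hyc
  · exact hyc
  · exact inv_mem hyc
  · exact hbc
  · exact inv_mem hbc
  · exact mul_mem hyc hbc
  · exact mul_mem hbc hyc

theorem inf_cases (c3 : C3 Z K) (hn : G0.Normal) (hz : z ∈ Z) :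
    K z ≤ G0 ∨ ∀ y ∈ K z, y ∈ G0 → y = 1 ∨ y = z := by
  by_contra hcon
  push Not at hcon
  obtain ⟨h1, y, hy, hyG, hy1, hyz⟩ := hcon
  have hyy := h.sq_eq hz hy hy1 hyz
  obtain ⟨g, hgz, hg1, hg2⟩ := c3 z hz y hy hyy
  refine h1 fun x hx => ?_
  have h2 : closure {y, g * y * g⁻¹} ≤ G0 := by
    rw [closure_le]
    rintro a (rfl | rfl)
    · exact hyG
    · exact hn.conj_mem _ hyG g
  refine h2 (h.gen_of_ne hz hy hyy (h.norm_mem hz hgz hy) ?_ hg1 hg2 hx)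
  calc g * y * g⁻¹ * (g * y * g⁻¹) = g * (y * y) * g⁻¹ := by group
    _ = z := by rw [hyy, hgz, mul_inv_cancel_right]

/-- conjugation inside `K z` -/
theorem pm_K (hz : z ∈ Z) (hk : x ∈ K z) (hb : b ∈ K z) : x * b * x⁻¹ = b ∨ x * b * x⁻¹ = b⁻¹ := by
  have h3 : ∀ p q : QEight.Q, p * q * p⁻¹ = q ∨ p * q * p⁻¹ = q⁻¹ := by decide
  have h4 := h3 (h.e hz ⟨x, hk⟩) (h.e hz ⟨b, hb⟩)
  rw [← h.e_mul hz hk hb, ← h.e_inv hz hk, ← h.e_mul hz (mul_mem hk hb) (inv_mem hk), ← h.e_inv hz hb] at h4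
  rcases h4 with h4 | h4
  · exact Or.inl (h.e_inj hz _ _ h4)
  · exact Or.inr (h.e_inj hz _ _ h4)

end W

/-- `K z ∩ G0 = ⟨z⟩` -/
structure Tr (Z : Set G) (K : G → Subgroup G) (G0 : Subgroup G) : Prop where
  w : W Z K
  nor : G0.Normal
  sub : ∀ z ∈ Z, z ∈ G0
  inf : ∀ z ∈ Z, ∀ y ∈ K z, y ∈ G0 → y = 1 ∨ y = z

namespace Tr

variable (t : Tr Z K G0)

include t

/-- elements of `C_{G0}(z)` normalise the cyclic subgroups of `K z` -/
theorem pm (hz : z ∈ Z) (hd : d ∈ G0) (hdz : d * z = z * d) (hb : b ∈ K z) (hbb : b * b = z) :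
    d * b * d⁻¹ = b ∨ d * b * d⁻¹ = b⁻¹ := by
  have h1 : d * b * d⁻¹ * b⁻¹ ∈ K z := mul_mem (t.w.norm_mem hz hdz hb) (inv_mem hb)
  have h2 : d * b * d⁻¹ * b⁻¹ ∈ G0 := by
    have h3 : d * b * d⁻¹ * b⁻¹ = d * (b * d⁻¹ * b⁻¹) := by group
    rw [h3]
    exact mul_mem hd (t.nor.conj_mem _ (inv_mem hd) b)
  rcases t.inf z hz _ h1 h2 with h3 | h3
  · exact Or.inl (mul_inv_eq_one.1 h3)
  · right
    rw [mul_inv_eq_iff_eq_mul] at h3
    rw [h3, ← hbb, eq_inv_iff_mul_eq_one]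
    calc b * b * b * b = (b * b) * (b * b) := by group
      _ = 1 := by rw [hbb, t.w.sq z hz]

/-- **(T)** -/
theorem cp (hz : z ∈ Z) (hg : g ∈ G0) (hne : z ≠ g * z * g⁻¹) (hc : z * (g * z * g⁻¹) = g * z * g⁻¹ * z) :
    CP K z (g * z * g⁻¹) := by
  set u := g * z * g⁻¹ with hu
  have huZ : u ∈ Z := t.w.conjZ z hz g
  rcases t.w.tri hz huZ hne hc with h1 | ⟨y, y', h1, h2⟩ | ⟨b, b', h1, -⟩
  · exact h1
  · exfalso
    obtain ⟨c, hcK, hcc, hcz⟩ := t.w.ti_four ⟨y, y', h1, h2⟩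
    obtain ⟨-, h3⟩ := t.w.ti_act hz h1 hcc hcz
    -- `c = g k g⁻¹`
    have hk : g⁻¹ * c * g ∈ K z := (t.w.mem_K_conj hz g).1 hcK
    set k := g⁻¹ * c * g with hkdef
    have hd : c * k⁻¹ ∈ G0 := by
      have h4 : c * k⁻¹ = (c * g⁻¹ * c⁻¹) * g := by rw [hkdef]; group
      rw [h4]
      exact mul_mem (t.nor.conj_mem _ (inv_mem hg) c) hg
    have hkz : k * z = z * k := t.w.cent hz hk
    have hkz' : k⁻¹ * z = z * k⁻¹ := by rw [inv_mul_eq_iff_eq_mul, ← mul_assoc, hkz, mul_inv_cancel_right]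
    have hdz : c * k⁻¹ * z = z * (c * k⁻¹) := by rw [mul_assoc, hkz', ← mul_assoc, hcz, mul_assoc]
    obtain ⟨b, hb, hbb, hby, hby', -⟩ := t.w.exists_inv hz h1.mem h1.sq
    obtain ⟨h5, h6⟩ := h3 b hb hbb hby hby'
    have h7 : c * b * c⁻¹ = (c * k⁻¹) * (k * b * k⁻¹) * (c * k⁻¹)⁻¹ := by group
    have hbi : b⁻¹ * b⁻¹ = z := by rw [← mul_inv_rev, hbb, t.w.inv hz]
    rcases t.w.pm_K hz hk hb with h8 | h8
    · rw [h8] at h7
      rcases t.pm hz hd hdz hb hbb with h9 | h9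
      · exact h5 (h7.trans h9)
      · exact h6 (h7.trans h9)
    · rw [h8] at h7
      rcases t.pm hz hd hdz (inv_mem hb) hbi with h9 | h9
      · exact h6 (h7.trans h9)
      · rw [inv_inv] at h9
        exact h5 (h7.trans h9)
  · exfalso
    have huG : u ∈ G0 := t.nor.conj_mem z (t.sub z hz) g
    obtain ⟨c, hcK, hcc, hcb, hcb', -⟩ := t.w.exists_inv hz h1.mem h1.sq
    obtain ⟨h3, h4⟩ := h1.ne c hcK hcc hcb hcb'
    rcases t.pm hz huG hc.symm hcK hcc with h5 | h5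
    · exact h3 h5
    · exact h4 h5

/-- the 2-subgroups of `G0` are not all commutative -/
theorem not_comm [Finite G] (hz : z ∈ Z) (hg : g ∈ G0) (hne : z ≠ g * z * g⁻¹)
    (hc : z * (g * z * g⁻¹) = g * z * g⁻¹ * z) :
    ∃ S : Sylow 2 G, ∃ a ∈ (S : Subgroup G) ⊓ G0, ∃ b ∈ (S : Subgroup G) ⊓ G0, a * b ≠ b * a := by
  have hcp := t.cp hz hg hne hc
  set u := g * z * g⁻¹ with hu
  have huZ : u ∈ Z := t.w.conjZ z hz g
  obtain ⟨S, hzS, huS⟩ := t.w.exists_sylow_of_cp hz huZ hcp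
  obtain ⟨i, hi, j, hj, -, -, hji, -⟩ := t.w.exists_ij hz
  have key : ∀ i ∈ K z, i * (g * i⁻¹ * g⁻¹) ∈ (S : Subgroup G) ⊓ G0 := by
    intro i hi
    refine mem_inf.2 ⟨mul_mem (hzS.2 hi) (huS.2 (t.w.conj_mem_K hz g (inv_mem hi))), ?_⟩
    have h1 : i * (g * i⁻¹ * g⁻¹) = (i * g * i⁻¹) * g⁻¹ := by group
    rw [h1]
    exact mul_mem (t.nor.conj_mem _ hg i) (inv_mem hg)
  refine ⟨S, _, key i hi, _, key j hj, fun he => hne ?_⟩
  have c1 : (g * i⁻¹ * g⁻¹) * j = j * (g * i⁻¹ * g⁻¹) :=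
    (hcp.2 j hj _ (t.w.conj_mem_K hz g (inv_mem hi))).symm
  have c2 : (g * j⁻¹ * g⁻¹) * i = i * (g * j⁻¹ * g⁻¹) :=
    (hcp.2 i hi _ (t.w.conj_mem_K hz g (inv_mem hj))).symm
  have e1 : i * (g * i⁻¹ * g⁻¹) * (j * (g * j⁻¹ * g⁻¹)) = (i * j) * (g * (j * i)⁻¹ * g⁻¹) := by
    calc i * (g * i⁻¹ * g⁻¹) * (j * (g * j⁻¹ * g⁻¹)) = i * ((g * i⁻¹ * g⁻¹) * j) * (g * j⁻¹ * g⁻¹) := by group
      _ = i * (j * (g * i⁻¹ * g⁻¹)) * (g * j⁻¹ * g⁻¹) := by rw [c1]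
      _ = _ := by group
  have e2 : j * (g * j⁻¹ * g⁻¹) * (i * (g * i⁻¹ * g⁻¹)) = (j * i) * (g * (i * j)⁻¹ * g⁻¹) := by
    calc j * (g * j⁻¹ * g⁻¹) * (i * (g * i⁻¹ * g⁻¹)) = j * ((g * j⁻¹ * g⁻¹) * i) * (g * i⁻¹ * g⁻¹) := by group
      _ = j * (i * (g * j⁻¹ * g⁻¹)) * (g * i⁻¹ * g⁻¹) := by rw [c2]
      _ = _ := by group
  rw [e1, e2, hji] at he
  -- `ij · g (ij)⁻¹ z g⁻¹ = z ij · g (ij)⁻¹ g⁻¹`
  have hij : (i * j) * z = z * (i * j) := t.w.cent hz (mul_mem hi hj)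
  have h3 : z * (g * (i * j)⁻¹ * g⁻¹) = (g * (i * j)⁻¹ * g⁻¹) * u := by
    have h4 : g * (z * (i * j))⁻¹ * g⁻¹ = (g * (i * j)⁻¹ * g⁻¹) * u := by
      rw [hu, mul_inv_rev, t.w.inv hz]; group
    rw [← h4]
    have h5 : (i * j) * (z * (g * (i * j)⁻¹ * g⁻¹)) = (i * j) * (g * (z * (i * j))⁻¹ * g⁻¹) := by
      rw [he, ← mul_assoc (i * j) z, hij]
    exact mul_left_cancel h5
  have h4 : z * (g * (i * j)⁻¹ * g⁻¹) = (g * (i * j)⁻¹ * g⁻¹) * z :=
    hcp.2 z (t.w.mem z hz) _ (t.w.conj_mem_K hz g (inv_mem (mul_mem hi hj)))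
  rw [h4] at h3
  exact mul_left_cancel h3

/-- not all involutions of `G0` are conjugate in `G0` -/
theorem not_emb (hz : z ∈ Z) (hu : u ∈ Z) (hcp : CP K z u)
    (hall : ∀ x ∈ G0, x * x = 1 → x ≠ 1 → ∃ g ∈ G0, g * z * g⁻¹ = x) : False := by
  have hZ : ∀ x ∈ G0, x * x = 1 → x ≠ 1 → x ∈ Z := by
    intro x hx h1 h2
    obtain ⟨g, -, rfl⟩ := hall x hx h1 h2
    exact t.w.conjZ z hz g
  have hno : ∀ x ∈ Z, z ≠ x → z * x = x * z → CP K z x := by
    intro x hx h1 h2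
    obtain ⟨g, hg, rfl⟩ := hall x (t.sub x hx) (t.w.sq x hx) (t.w.ne x hx)
    exact t.cp hz hg h1 h2
  have hzu := t.w.comm_of_cp hz hu hcp
  -- the third involution
  have hv1 : z * u ≠ 1 := fun h1 => hcp.1 (by rw [mul_eq_one_iff_eq_inv] at h1; rw [h1, t.w.inv hu])
  have hvv : z * u * (z * u) = 1 := by
    calc z * u * (z * u) = z * (u * z) * u := by group
      _ = (z * z) * (u * u) := by rw [← hzu]; group
      _ = 1 := by rw [t.w.sq z hz, t.w.sq u hu, one_mul]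
  have hv := hZ (z * u) (mul_mem (t.sub z hz) (t.sub u hu)) hvv hv1
  have hzv : CP K z (z * u) := by
    refine hno _ hv ?_ ?_
    · intro h1
      exact t.w.ne u hu (by simpa using h1.symm)
    · rw [mul_assoc, ← hzu]
  have huv : CP K u (z * u) := by
    refine t.w.csymm hu hv ?_ ?_
    · intro h1
      exact t.w.ne z hz (by simpa using h1.symm)
    · intro k hk
      have h1 : z * k = k * z := hcp.2 z (t.w.mem z hz) k hk
      have h2 : u * k = k * u := (t.w.cent hu hk).symm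
      rw [mul_assoc, h2, ← mul_assoc, h1, mul_assoc]
  obtain ⟨g2, hg2, e2⟩ := hall u (t.sub u hu) (t.w.sq u hu) (t.w.ne u hu)
  obtain ⟨g3, hg3, e3⟩ := hall (z * u) (t.sub _ hv) hvv hv1
  obtain ⟨i, hi, j, hj, hii, hjj, hji, -⟩ := t.w.exists_ij hz
  set k := (i * j)⁻¹ with hk
  have hkK : k ∈ K z := inv_mem (mul_mem hi hj)
  have hij : (i * j) * (i * j) = z := by
    calc (i * j) * (i * j) = i * (j * i) * j := by group
      _ = i * (z * (i * j)) * j := by rw [hji]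
      _ = (i * z) * (i * j * j) := by group
      _ = (z * i) * (i * j * j) := by rw [t.w.cent hz hi]
      _ = z * (i * i) * (j * j) := by group
      _ = z := by rw [hii, hjj, t.w.sq z hz, one_mul]
  have hkk : k * k = z := by rw [hk, ← mul_inv_rev, hij, t.w.inv hz]
  set b := g2 * j * g2⁻¹ with hb
  set c := g3 * k * g3⁻¹ with hc
  have hbK : b ∈ K u := by rw [← e2]; exact t.w.conj_mem_K hz g2 hj
  have hcK : c ∈ K (z * u) := by rw [← e3]; exact t.w.conj_mem_K hz g3 hkK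
  have hbb : b * b = u := by
    rw [hb, ← e2]
    calc g2 * j * g2⁻¹ * (g2 * j * g2⁻¹) = g2 * (j * j) * g2⁻¹ := by group
      _ = _ := by rw [hjj]
  have hcc : c * c = z * u := by
    rw [hc, ← e3]
    calc g3 * k * g3⁻¹ * (g3 * k * g3⁻¹) = g3 * (k * k) * g3⁻¹ := by group
      _ = _ := by rw [hkk]
  have hib : i * b = b * i := hcp.2 i hi b hbK
  have hic : i * c = c * i := hzv.2 i hi c hcK
  have hbc : b * c = c * b := huv.2 b hbK c hcK
  have hxG : i * b * c ∈ G0 := by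
    have h1 : i * b * c = (i * (g2 * (j * g2⁻¹ * j⁻¹)) * i⁻¹) * ((i * j) * (g3 * (k * g3⁻¹ * k⁻¹)) * (i * j)⁻¹) *
        ((i * j) * k) := by rw [hb, hc]; group
    rw [h1, hk, mul_inv_cancel, mul_one]
    refine mul_mem (t.nor.conj_mem _ (mul_mem hg2 (t.nor.conj_mem _ (inv_mem hg2) j)) i)
      (t.nor.conj_mem _ (mul_mem hg3 (t.nor.conj_mem _ (inv_mem hg3) _)) _)
  have hxx : i * b * c * (i * b * c) = 1 := by
    calc i * b * c * (i * b * c) = i * b * (c * i) * b * c := by group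
      _ = i * (b * i) * (c * b) * c := by rw [← hic]; group
      _ = (i * i) * (b * b) * (c * c) := by rw [← hib, ← hbc]; group
      _ = 1 := by rw [hii, hbb, hcc, hvv]
  have hact : ∀ k ∈ K z, (i * b * c) * k * (i * b * c)⁻¹ = i * k * i⁻¹ := by
    intro k hk
    have h1 : c * k = k * c := (hzv.2 k hk c hcK).symm
    have h2 : b * k = k * b := (hcp.2 k hk b hbK).symm
    calc (i * b * c) * k * (i * b * c)⁻¹ = i * b * (c * k) * c⁻¹ * b⁻¹ * i⁻¹ := by group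
      _ = i * (b * k) * b⁻¹ * i⁻¹ := by rw [h1]; group
      _ = _ := by rw [h2]; group
  have hnc : ¬ Cen K (i * b * c) z := by
    intro h1
    have h2 := hact j hj
    rw [h1 j hj, mul_inv_cancel_right] at h2
    -- `i j = j i`
    have h3 : j * i = i * j := eq_mul_inv_iff_mul_eq.1 h2
    rw [hji] at h3
    exact t.w.ne z hz (by simpa using h3)
  have hx1 : i * b * c ≠ 1 := by
    intro h1
    rw [h1] at hnc
    exact hnc Cen.one
  have hxZ := hZ _ hxG hxx hx1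
  have hxz : z ≠ i * b * c := by
    intro h1
    apply hnc
    rw [← h1]
    exact fun k hk => (t.w.cent hz hk).symm
  refine hnc (t.w.cen_of_cp hxZ (hno _ hxZ hxz ?_))
  have h1 := hact z (t.w.mem z hz)
  rw [t.w.cent hz hi, mul_inv_cancel_right, mul_inv_eq_iff_eq_mul] at h1
  exact h1.symm

end Tr

/-- `S ⊓ G0` is a Sylow 2-subgroup of `G0` -/
theorem exists_sylow_subgroupOf [Finite G] (hn : G0.Normal) (S : Sylow 2 G) :
    ∃ T : Sylow 2 G0, (T : Subgroup G0) = (S : Subgroup G).subgroupOf G0 := by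
  haveI : Fact (Nat.Prime 2) := ⟨Nat.prime_two⟩
  haveI := hn
  have h1 : IsPGroup 2 ((S : Subgroup G).subgroupOf G0) := S.isPGroup'.comap_subtype
  exact ⟨h1.toSylow (Lib.SylowNormalInf.not_dvd_relIndex S G0), rfl⟩

/-- **the end**: `F*(G) = G0` simple, `Z ⊆ G0`, (C3), there is a C-pair: no strongly closed commutative subgroup in `G0` -/
theorem W.false_of_closed [Finite G] (w : W Z K) (cls : OneCls Z) (c3 : C3 Z K) (f : FSimp G0)
    (hZ : ∀ z ∈ Z, z ∈ G0) (S : Sylow 2 G) (hz : z ∈ CS Z K S) (hu : u ∈ CS Z K S) (hne : z ≠ u)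
    (gold : Cit.ROne.Gold G0) (hB : CloEnd.Bend G0) {A : Subgroup G} (hA : A ≠ ⊥) (hAG : A ≤ G0)
    (hc : ∀ x ∈ A, ∀ y ∈ A, x * y = y * x) (hsc : IsStronglyClosed A (S : Subgroup G)) : False := by
  have hcp : CP K z u := w.com hz.1 hu.1 S.isPGroup' hz.2 hu.2 hne
  obtain ⟨T, hT⟩ := exists_sylow_subgroupOf f.nor S
  -- `A` in `G0`
  have hA' : A.subgroupOf G0 ≠ ⊥ := by
    intro h1
    apply hA
    rw [← map_subgroupOf_eq_of_le hAG, h1, Subgroup.map_bot]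
  have hc' : ∀ x ∈ A.subgroupOf G0, ∀ y ∈ A.subgroupOf G0, x * y = y * x := fun x hx y hy =>
    Subtype.ext (hc x hx y hy)
  have hsc' : IsStronglyClosed (A.subgroupOf G0) (T : Subgroup G0) := by
    refine ⟨?_, fun x hx g hg => ?_⟩
    · rw [hT]
      exact comap_mono hsc.1
    · rw [hT] at hg
      exact hsc.2 x hx g hg
  by_cases hcase : ∀ z ∈ Z, K z ≤ G0
  · -- (A)
    have key : ∀ z ∈ CS Z K (S : Subgroup G), (K z).subgroupOf G0 ∈ OmS (restr (K '' Z) G0) (T : Subgroup G0) := by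
      intro z hz
      refine mem_OmS_of_le (subgroupOf_mem_restr ⟨z, hz.1, rfl⟩ (hcase z hz.1))
        ⟨le_rfl, (w.two hz.1).comap_subtype, by rw [relIndex_self]; omega⟩ ?_
      rw [hT]
      exact comap_mono hz.2
    refine Cit.ROne.false_of_closed (w.hyp.restr G0) T (key z hz) (key u hu) ?_ gold hB hA' hc' hsc'
    intro h1
    apply hne
    refine w.K_inj hz.1 hu.1 ?_
    rw [← map_subgroupOf_eq_of_le (hcase z hz.1), h1, map_subgroupOf_eq_of_le (hcase u hu.1)]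
  · -- (B)
    push Not at hcase
    obtain ⟨z0, hz0, h0⟩ := hcase
    have t : Tr Z K G0 := by
      refine ⟨w, f.nor, hZ, fun v hv => ?_⟩
      refine (w.inf_cases c3 f.nor hv).resolve_left fun h1 => h0 ?_
      obtain ⟨g, rfl⟩ := cls v hv z0 hz0
      rw [w.conjK v hv]
      intro x hx
      have h2 := f.nor.conj_mem _ (h1 (mem_cj.1 hx)) g
      have h3 : g * (g⁻¹ * x * g) * g⁻¹ = x := by group
      rwa [h3] at h2
    haveI := f.sim
    have hz0' : z ∈ G0 := hZ z hz.1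
    rcases gold T _ hA' ⟨⟨fun a b => Subtype.ext (hc' a a.2 b b.2)⟩⟩ hsc' with h1 | ⟨H, hH⟩
    · -- (B1)
      have hnc : ¬ IsMulCommutative G0 := by
        intro h2
        exact f.na fun x hx y hy => congrArg Subtype.val (h2.is_comm.comm ⟨x, hx⟩ ⟨y, hy⟩)
      obtain ⟨g, h2, h3⟩ := GH.QA.not_isolated f.sim hnc (u := (⟨z, hz0'⟩ : G0))
        (Subtype.ext (w.sq z hz.1)) (fun h2 => w.ne z hz.1 (congrArg Subtype.val h2))
      have h2' : z * (g * z * (g : G)⁻¹) = g * z * (g : G)⁻¹ * z := congrArg Subtype.val h2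
      have h3' : z ≠ g * z * (g : G)⁻¹ := fun h4 => h3 (Subtype.ext h4.symm)
      obtain ⟨S', a, ha, b, hb, hab⟩ := t.not_comm hz.1 g.2 h3' h2'
      -- all Sylow 2-subgroups of `G0` are commutative
      obtain ⟨T', hT'⟩ := exists_sylow_subgroupOf f.nor S'
      haveI : Fact (Nat.Prime 2) := ⟨Nat.prime_two⟩
      obtain ⟨r, hr⟩ := MulAction.exists_smul_eq G0 T T'
      have h4 : ∀ x ∈ (T' : Subgroup G0), r⁻¹ * x * r ∈ (T : Subgroup G0) := by
        intro x hx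
        rw [← hr] at hx
        have h5 : x ∈ cj r (T : Subgroup G0) := hx
        exact mem_cj.1 h5
      have ha' : (⟨a, (mem_inf.1 ha).2⟩ : G0) ∈ (T' : Subgroup G0) := by rw [hT']; exact (mem_inf.1 ha).1
      have hb' : (⟨b, (mem_inf.1 hb).2⟩ : G0) ∈ (T' : Subgroup G0) := by rw [hT']; exact (mem_inf.1 hb).1
      have h5 := congrArg Subtype.val (h1.is_comm.comm ⟨_, h4 _ ha'⟩ ⟨_, h4 _ hb'⟩)
      apply hab
      have h6 : (⟨a, (mem_inf.1 ha).2⟩ : G0) * ⟨b, (mem_inf.1 hb).2⟩ = ⟨b, (mem_inf.1 hb).2⟩ * ⟨a, (mem_inf.1 ha).2⟩ := by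
        set a' : G0 := ⟨a, (mem_inf.1 ha).2⟩
        set b' : G0 := ⟨b, (mem_inf.1 hb).2⟩
        have h7 : r⁻¹ * a' * r * (r⁻¹ * b' * r) = r⁻¹ * b' * r * (r⁻¹ * a' * r) := h5
        calc a' * b' = r * (r⁻¹ * a' * r * (r⁻¹ * b' * r)) * r⁻¹ := by group
          _ = r * (r⁻¹ * b' * r * (r⁻¹ * a' * r)) * r⁻¹ := by rw [h7]
          _ = b' * a' := by group
      exact congrArg Subtype.val h6
    · -- (B2)
      refine t.not_emb hz.1 hu.1 hcp fun x hx hxx hx1 => ?_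
      have h2 := Cfsg.Agent.TwoFusion.StronglyEmbeddedBasic.isConj_of_involutions hH (⟨z, hz0'⟩ : G0) ⟨x, hx⟩
        (by rw [← Subgroup.orderOf_coe]; exact w.ord hz.1)
        (by rw [← Subgroup.orderOf_coe]; exact orderOf_eq_prime (by rw [pow_two]; exact hxx) hx1)
      obtain ⟨g, hg⟩ := isConj_iff.1 h2
      exact ⟨g, g.2, congrArg Subtype.val hg⟩

end Cfsg.Agent.Cit.Nil.ROne
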