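import Cfsg.Agent.Cit.Nil.ROne.Defs
import Cfsg.Agent.Cit.AssemblyNil

/-!
# (6b), `r = 1`: from the hypothesis of S1309 to the world `W`

* `Kf Om t` : the member of `Om` over `t`;
* `W.of_hyp` : `Hyp Om`, all members of order 8, one member over each involution ==> `W (zz '' Om) (Kf Om)`;
* `OO_eq_bot` : `O(C(z_K)) = 1 ==> O(K) = 1`;
* `c3_of` : (C3) in the form of `ROne.C3`;
* `World G Z K` : everything which `AssemblyNil.W3` gives for `r = 1`, core-free;
* `R1Free` : the literal statement for `r = 1`, core-free; `leafR1_of` : it implies `AssemblyNil.LeafR1` (with S1311 and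
  `AssemblyNil.UnbalStmt`).
-/

set_option autoImplicit false
set_option linter.style.haveILetI false
set_option linter.unusedSectionVars false

namespace Cfsg.Agent.Cit.Nil.ROne

open Subgroup Cfsg Cit Transfer.SL23Recog

universe u

variable {G : Type*} [Group G]

open Classical in
/-- the member of `Om` over `t` -/
noncomputable def Kf (Om : Set (Subgroup G)) (t : G) : Subgroup G :=
  if h : ∃ L ∈ Om, zz L = t then h.choose else ⊥

theorem Kf_zz {Om : Set (Subgroup G)} (h1 : ∀ K ∈ Om, ∀ L ∈ Om, zz K = zz L → K = L) {K : Subgroup G}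
    (hK : K ∈ Om) : Kf Om (zz K) = K := by
  have hex : ∃ L ∈ Om, zz L = zz K := ⟨K, hK, rfl⟩
  unfold Kf
  rw [dif_pos hex]
  exact h1 _ hex.choose_spec.1 _ hK hex.choose_spec.2

section

variable [Finite G] {Om : Set (Subgroup G)}

theorem W.of_hyp (h : Hyp Om) (h8 : ∀ K ∈ Om, Nat.card K = 8)
    (h1 : ∀ K ∈ Om, ∀ L ∈ Om, zz K = zz L → K = L) : W (zz '' Om) (Kf Om) := by
  haveI : Fact (Nat.Prime 2) := ⟨Nat.prime_two⟩
  refine ⟨?_, ?_, ?_, ?_, ?_, ?_⟩
  · rintro _ ⟨K, hK, rfl⟩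
    exact h.zz_mul hK
  · rintro _ ⟨K, hK, rfl⟩
    exact h.zz_ne hK
  · rintro _ ⟨K, hK, rfl⟩
    rw [Kf_zz h1 hK]
    exact h.zz_mem hK
  · rintro _ ⟨K, hK, rfl⟩ g
    exact ⟨cj g K, h.conj K hK g, h.zz_cj hK g⟩
  · rintro _ ⟨K, hK, rfl⟩ g
    rw [← h.zz_cj hK g, Kf_zz h1 (h.conj K hK g), Kf_zz h1 hK]
  · rintro _ ⟨K, hK, rfl⟩
    rw [Kf_zz h1 hK]
    obtain ⟨S, n, ⟨e⟩⟩ := h.quat K hK
    have h2 : IsPGroup 2 K := IsPGroup.of_card (n := 3) (h8 K hK)
    have h3 : (S : Subgroup K) = ⊤ := by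
      have h4 : IsPGroup 2 (⊤ : Subgroup K) := h2.to_subgroup ⊤
      exact S.is_maximal' h4 le_top |>.symm
    have h5 : Nat.card (S : Subgroup K) = 8 := by rw [h3, card_top, h8 K hK]
    have h6 : n = 0 := by
      rw [Nat.card_congr e.toEquiv, Nat.card_eq_fintype_card, QuaternionGroup.card, pow_succ] at h5
      by_contra hn
      have h7 : 2 ^ 1 ≤ 2 ^ n := Nat.pow_le_pow_right (by norm_num) (by omega)
      omega
    subst h6
    exact ⟨(((MulEquiv.subgroupCongr h3).trans topEquiv).symm.trans e)⟩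

/-- `O(C(z_K)) = 1` ==> `O(K) = 1` -/
theorem OO_eq_bot (h : Hyp Om) {K : Subgroup G} (hK : K ∈ Om) (hb : centralizerPPrimeCore 2 (zz K) = ⊥) :
    OO K = ⊥ := by
  have hle : K ≤ centralizer {zz K} := h.le_centralizer hK
  have h3 := Lib.PComponents.map_pPrimeCore_le_of_isSubnormal (p := 2) (h.sub K hK)
  have h4 : pPrimeCore 2 ↥(centralizer ({zz K} : Set G)) = ⊥ := by
    unfold centralizerPPrimeCore at hb
    exact (Subgroup.map_eq_bot_iff_of_injective _ (Subgroup.subtype_injective _)).1 hb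
  rw [h4, le_bot_iff, Subgroup.map_eq_bot_iff_of_injective _ (Subgroup.subtype_injective _)] at h3
  have h5 := Lib.Cores.map_equiv_pPrimeCore (subgroupOfEquivOfLe hle) 2
  rw [h3, Subgroup.map_bot] at h5
  rw [OO, oddCore, ← h5, Subgroup.map_bot]

/-- `K = Q` -/
theorem card_eight {K : Subgroup G} (hn : NilK K) (h3 : Nil.C3 K) (hO : OO K = ⊥) : Nat.card K = 8 := by
  obtain ⟨Q, hQ, h8, -⟩ := h3
  have h1 := hn Q hQ
  rw [hO, bot_sup_eq] at h1
  rw [le_antisymm h1 hQ.1, h8]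

end

/-! ### (C3) -/

namespace QEight

set_option maxRecDepth 100000 in
theorem four_aux : ∀ p q : Q, Ok p q → ∀ y : Q, y * y = QuaternionGroup.a 2 → (F p q y = y ∨ F p q y = y⁻¹) →
    ∀ x, F p q (F p q (F p q (F p q x))) = x := by
  decide

/-- an automorphism fixing an axis has order dividing 4 -/
theorem four (α : MulAut Q) (y : Q) (hy : y * y = QuaternionGroup.a 2) (h : α y = y ∨ α y = y⁻¹) : α ^ 4 = 1 := by
  have h1 := four_aux _ _ (aut_ok α) y hy
  rw [← funF α] at h1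
  refine MulEquiv.ext fun x => ?_
  have h2 := h1 h x
  rw [pow_succ, pow_succ, pow_succ, pow_one]
  exact h2

end QEight

section

variable [Finite G] {Z : Set G} {K : G → Subgroup G} {z c : G}

theorem W.rho_pow (h : W Z K) (hz : z ∈ Z) (hc : c * z = z * c) (n : ℕ) :
    ∃ hcn : c ^ n * z = z * c ^ n, h.rho hz (c ^ n) hcn = h.rho hz c hc ^ n := by
  induction n with
  | zero =>
    refine ⟨by rw [pow_zero, one_mul, mul_one], ?_⟩
    rw [pow_zero (h.rho hz c hc)]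
    refine (h.rho_eq_one hz _).2 fun k _ => ?_
    rw [pow_zero, one_mul, mul_one]
  | succ n ih =>
    obtain ⟨hcn, h1⟩ := ih
    have h2 : c ^ (n + 1) * z = z * c ^ (n + 1) := by
      rw [pow_succ, mul_assoc, hc, ← mul_assoc, hcn, mul_assoc]
    refine ⟨h2, ?_⟩
    have h3 : ∀ g (hg : g * z = z * g), g = c ^ n * c → h.rho hz g hg = h.rho hz c hc ^ n * h.rho hz c hc := by
      rintro g hg rfl
      rw [h.rho_mul hz hcn hc, h1]
    rw [h3 _ h2 (pow_succ c n), ← pow_succ]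

/-- an element of odd order which acts nontrivially on `K z` moves all axes -/
theorem W.axes (h : W Z K) (hz : z ∈ Z) (hc : c * z = z * c) (hodd : Odd (orderOf c)) (hn : ¬ Cen K c z) {y : G}
    (hy : y ∈ K z) (hyy : y * y = z) : c * y * c⁻¹ ≠ y ∧ c * y * c⁻¹ ≠ y⁻¹ := by
  by_contra hcon
  rw [not_and_or, not_not, not_not] at hcon
  have hyy' : h.e hz ⟨y, hy⟩ * h.e hz ⟨y, hy⟩ = QuaternionGroup.a 2 := by
    rw [← h.e_mul hz hy hy, ← h.e_z hz]
    congr 1
    exact Subtype.ext hyy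
  have h1 : h.rho hz c hc ^ 4 = 1 := by
    refine QEight.four _ (h.e hz ⟨y, hy⟩) hyy' ?_
    rw [h.rho_e hz hc hy]
    rcases hcon with h2 | h2
    · left
      congr 1
      exact Subtype.ext h2
    · right
      rw [← h.e_inv hz hy]
      congr 1
      exact Subtype.ext h2
  have h2 : h.rho hz c hc ^ orderOf c = 1 := by
    obtain ⟨h3, h4⟩ := h.rho_pow hz hc (orderOf c)
    rw [← h4]
    refine (h.rho_eq_one hz h3).2 fun k _ => ?_
    rw [pow_orderOf_eq_one, one_mul, mul_one]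
  apply hn
  rw [← h.rho_eq_one hz hc, ← orderOf_eq_one_iff]
  refine Nat.eq_one_of_dvd_coprimes (a := 4) (b := orderOf c) ?_ (orderOf_dvd_of_pow_eq_one h1)
    (orderOf_dvd_of_pow_eq_one h2)
  exact Nat.Coprime.pow_left 2 (Nat.coprime_two_left.2 hodd)

/-- (C3) for the members over the involutions of `Z` -/
theorem W.c3_of (h : W Z K) (h3 : ∀ z ∈ Z, Nil.C3 (K z)) : C3 Z K := by
  intro z hz y hy hyy
  obtain ⟨Q, hQ, h8, c, hcK, -, hc3, q, hq, hcq⟩ := h3 z hz
  have hQK : Q = K z := eq_of_le_of_card_ge hQ.1 (by rw [h8, h.card8 hz])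
  have hcz : c * z = z * c := by
    have h1 : c * z * c⁻¹ ∈ K z := (mem_normalizer_iff.1 hcK z).1 (h.mem z hz)
    rcases h.uniq hz h1 (by rw [show c * z * c⁻¹ * (c * z * c⁻¹) = c * (z * z) * c⁻¹ by group, h.sq z hz]; group) with h2 | h2
    · exact absurd (by rw [conj_eq_one_iff] at h2; exact h2) (h.ne z hz)
    · rwa [mul_inv_eq_iff_eq_mul] at h2
  have hodd : Odd (orderOf c) := by
    obtain ⟨k, hk⟩ := hc3 ⟨c, mem_zpowers c⟩
    have hk' : c ^ 3 ^ k = 1 := congrArg Subtype.val hk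
    exact Odd.of_dvd_nat (Odd.pow (by decide)) (orderOf_dvd_of_pow_eq_one hk')
  have hn : ¬ Cen K c z := by
    intro hcen
    exact hcq (hcen q (by rw [← hQK]; exact hq))
  exact ⟨c, hcz, h.axes hz hcz hodd hn hy hyy⟩

end

/-! ### The world of `r = 1`, core-free -/

/-- the world of `r = 1`, core-free: everything which `AssemblyNil.W3` gives -/
structure World (Z : Set G) (K : G → Subgroup G) : Prop extends AssemblyNil.FS G where
  w : W Z K
  c3 : C3 Z K
  one : OneCls Z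
  free : ∀ t : G, orderOf t = 2 → centralizerPPrimeCore 2 t = ⊥
  /-- S1310 does not apply -/
  ncl : ¬ AssemblyNil.Cl G
  /-- `|Om(S)| ≥ 2` -/
  two : ∃ S : Sylow 2 G, ∃ z ∈ Z, ∃ u ∈ Z, z ≠ u ∧ K z ≤ S ∧ K u ≤ S

/-- **(C3), `r = 1`, core-free** -/
def R1Free : Prop := ∀ (G : Type u) [Group G] [Finite G] (Z : Set G) (K : G → Subgroup G), World Z K → False

section

variable [Finite G]

theorem World.of_w3 {K : Subgroup G} (w : AssemblyNil.W3 G K) (h1 : (AssemblyNil.ovr K).ncard = 1)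
    (hf : ∀ t : G, orderOf t = 2 → centralizerPPrimeCore 2 t = ⊥) : World (zz '' cls K) (Kf (cls K)) := by
  haveI : Fact (Nat.Prime 2) := ⟨Nat.prime_two⟩
  have hyp := w.hyp
  have hO : ∀ L ∈ cls K, OO L = ⊥ := fun L hL => OO_eq_bot hyp hL (hf _ (hyp.orderOf_zz hL))
  have h8 : ∀ L ∈ cls K, Nat.card L = 8 := by
    rintro L ⟨g, rfl⟩
    rw [card_cj]
    exact card_eight w.nil w.c3 (hO K (self_mem_cls K))
  have hinj : ∀ L ∈ cls K, ∀ M ∈ cls K, zz L = zz M → L = M := by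
    obtain ⟨L0, hL0⟩ := Set.ncard_eq_one.1 h1
    have h2 : ∀ M ∈ cls K, zz M = zz K → M = K := by
      intro M hM hMz
      have h3 : M ∈ AssemblyNil.ovr K := ⟨hM, hMz⟩
      have h4 : K ∈ AssemblyNil.ovr K := ⟨self_mem_cls K, rfl⟩
      rw [hL0, Set.mem_singleton_iff] at h3 h4
      rw [h3, h4]
    rintro L ⟨g, rfl⟩ M hM hz
    have h3 := h2 (cj g⁻¹ M) (hyp.conj M hM _) (by
      rw [hyp.zz_cj hM, ← hz, hyp.zz_cj (self_mem_cls K)]
      group)
    rw [← h3, cj_cj_inv]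
  have hW := W.of_hyp hyp h8 hinj
  refine ⟨w.toFS, hW, ?_, ?_, hf, w.ncl, ?_⟩
  · refine hW.c3_of ?_
    rintro _ ⟨L, ⟨g, rfl⟩, rfl⟩
    rw [Kf_zz hinj (hyp.conj K (self_mem_cls K) g)]
    obtain ⟨Q, hQ, hQ8, c, hcK, hcQ, hc3, q, hq, hcq⟩ := w.c3
    refine ⟨cj g Q, hQ.cj g, by rw [card_cj, hQ8], g * c * g⁻¹, ?_, ?_, ?_, g * q * g⁻¹, conj_mem_cj hq, ?_⟩
    · rw [mem_normalizer_iff_cj, cj_mul, cj_mul, cj_inv_cj, mem_normalizer_iff_cj.1 hcK]
    · rw [mem_normalizer_iff_cj, cj_mul, cj_mul, cj_inv_cj, mem_normalizer_iff_cj.1 hcQ]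
    · have h3 : zpowers (g * c * g⁻¹) = cj g (zpowers c) := by
        rw [cj_def, MonoidHom.map_zpowers]
        rfl
      rw [h3]
      exact isPGroup_cj hc3
    · intro h4
      apply hcq
      have h5 : g * (c * q) * g⁻¹ = g * (q * c) * g⁻¹ := by
        calc g * (c * q) * g⁻¹ = g * c * g⁻¹ * (g * q * g⁻¹) := by group
          _ = g * q * g⁻¹ * (g * c * g⁻¹) := h4
          _ = g * (q * c) * g⁻¹ := by group
      exact mul_left_cancel (mul_right_cancel h5)
  · rintro _ ⟨L, ⟨g, rfl⟩, rfl⟩ _ ⟨M, ⟨g', rfl⟩, rfl⟩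
    refine ⟨g' * g⁻¹, ?_⟩
    rw [hyp.zz_cj (self_mem_cls K), hyp.zz_cj (self_mem_cls K)]
    group
  · by_contra hcon
    push Not at hcon
    apply w.two
    refine ⟨hyp, fun S hS L hL M hM => ?_⟩
    obtain ⟨P, hP⟩ := hS.exists_le_sylow
    have hle : ∀ L ∈ OmS (cls K) S, L ≤ (P : Subgroup G) := by
      intro L hL
      have h3 : S.relIndex L ∣ 2 ^ 3 := by
        have := relIndex_dvd_card S L
        rwa [h8 L hL.1] at this
      obtain ⟨k, -, hk⟩ := (Nat.dvd_prime_pow Nat.prime_two).1 h3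
      have h4 : k = 0 := by
        by_contra hk0
        exact hL.2 (by rw [hk]; exact dvd_pow_self 2 hk0)
      rw [h4, pow_zero] at hk
      exact (relIndex_eq_one.1 hk).trans hP
    by_contra hne
    refine hcon P (zz L) ⟨L, hL.1, rfl⟩ (zz M) ⟨M, hM.1, rfl⟩ (fun h3 => hne (hinj L hL.1 M hM.1 h3)) ?_ ?_
    · rw [Kf_zz hinj hL.1]
      exact hle L hL
    · rw [Kf_zz hinj hM.1]
      exact hle M hM

/-- **`R1Free` gives the leaf `r = 1`** -/
theorem leafR1_of (h1311 : ∀ (G : Type u) [Group G] [Finite G], AssemblyNil.FS G → AssemblyNil.St1311 G)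
    (hU : AssemblyNil.UnbalStmt.{u}) (h : R1Free.{u}) : AssemblyNil.LeafR1.{u} := by
  intro G _ _ K w h1
  by_cases hb : ∀ t : G, orderOf t = 2 → centralizerPPrimeCore 2 t = ⊥
  · exact (h G _ _ (World.of_w3 w h1 hb)).elim
  push Not at hb
  obtain ⟨t, ht, ht2⟩ := hb
  rcases h1311 G w.toFS t ht ht2 with h3 | h3
  · exact Or.inl h3
  · exact (hU G K w h3).elim

end

end Cfsg.Agent.Cit.Nil.ROne
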