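import Cfsg.Agent.Cit.Nil.ROne.Bridge
import Cfsg.Agent.Cit.Nil.ROne.GraphB
import Cfsg.Agent.Cit.NilComp

/-!
# `r = 1`: `G₀ = F*(G)`

`World.fsimp` : `F*(G)` is a nonabelian simple normal subgroup with trivial centraliser (`FSimp`);
`World.mem_fstar` : (0.1)(e) `Z ⊆ F*(G)`; general forms `fsimp_of`, `W.mem_of_fsimp`.
-/

set_option autoImplicit false
set_option linter.style.haveILetI false

namespace Cfsg.Agent.Cit.Nil.ROne

open Subgroup Cfsg Cit

variable {G : Type*} [Group G] [Finite G] {Z : Set G} {K : G → Subgroup G} {G0 : Subgroup G}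

/-- `F*(G)` simple and nonabelian -/
theorem fsimp_of (hs : IsSimpleGroup ↥(generalizedFittingSubgroup G))
    (hna : ¬ IsMulCommutative ↥(generalizedFittingSubgroup G)) : FSimp (generalizedFittingSubgroup G) where
  nor := Lib.GenFitting.genFitting_normal (G := G)
  sim := hs
  na hc := hna ⟨⟨fun a b => Subtype.ext (hc a a.2 b b.2)⟩⟩
  cen := End.centralizer_fstar hs hna

/-- **(0.1)(e)** `Z ⊆ G₀` -/
theorem W.mem_of_fsimp (h : W Z K) (f : FSimp G0) (h2 : 2 ∣ Nat.card G0) {z : G} (hz : z ∈ Z) : z ∈ G0 := by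
  haveI := f.nor
  haveI := f.sim
  have hO : OO G0 = ⊥ := by
    have h3 : (OO G0).Normal := by
      refine ⟨fun n hn g => ?_⟩
      have h4 : cj g G0 = G0 := mem_normalizer_iff_cj.1 (by rw [normalizer_eq_top_iff.2 f.nor]; exact mem_top g)
      have h5 : cj g (OO G0) = OO G0 := by rw [← OO_cj, h4]
      rw [← h5]
      exact conj_mem_cj hn
    by_contra hne
    have h4 := f.le (N := OO G0) (fun g _ n hn => h3.conj_mem n hn g) hne
    exact odd_OO G0 (h2.trans (card_dvd_of_le h4))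
  by_contra hn
  have h3 : zz (K z) ∉ G0 := by rwa [h.zz_K hz]
  have h4 := h.hyp.lemma_two (K := K z) (M := G0) (by
    rintro _ ⟨u, hu, rfl⟩
    exact h.two hu) ⟨z, hz, rfl⟩ (by rw [normalizer_eq_top_iff.2 f.nor]; exact le_top) hO h3
  rw [h.zz_K hz] at h4
  apply h.ne z hz
  have h5 : z ∈ centralizer (G0 : Set G) := by
    rw [mem_centralizer_iff]
    exact fun g hg => mem_centralizer_singleton_iff.1 (h4 hg)
  rwa [f.cen, mem_bot] at h5

theorem World.fsimp (w : World Z K) : FSimp (generalizedFittingSubgroup G) := fsimp_of w.simple w.na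

/-- **(0.1)(e)** -/
theorem World.mem_fstar (w : World Z K) {z : G} (hz : z ∈ Z) : z ∈ generalizedFittingSubgroup G :=
  w.w.mem_of_fsimp w.fsimp w.even hz

end Cfsg.Agent.Cit.Nil.ROne
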