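import Mathlib

/-!
# `Aut Q₈` (helper194)

Facts on automorphisms of `QuaternionGroup 2`, proved by evaluation:

* `invol` : an automorphism with square `1` is trivial, inner, or a transposition;
* `sq_ne_trn` : a square is not a transposition; `sq_inn` : `α² = inn y`, then `α y = y`;
* `quat` : no quaternion group in `Aut Q₈`.
-/

set_option autoImplicit false

namespace Cfsg.Agent.Cit.Nil.ROne.QEight

open QuaternionGroup

/-- the quaternion group of order 8 -/
abbrev Q := QuaternionGroup 2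

/-- the map with `a 1 ↦ p`, `xa 0 ↦ q` -/
def F (p q : Q) : Q → Q
  | a i => p ^ i.val
  | xa i => q * p ^ i.val

/-- the pair `(p, q)` gives an automorphism -/
def Ok (p q : Q) : Prop := p * p = a 2 ∧ q * q = a 2 ∧ q * p = p⁻¹ * q

instance (p q : Q) : Decidable (Ok p q) := by unfold Ok; infer_instance

theorem aut_eq (α : MulAut Q) (x : Q) : α x = F (α (a 1)) (α (xa 0)) x := by
  cases x with
  | a i =>
    have h1 : (a i : Q) = (a 1) ^ i.val := by revert i; decide
    rw [F, h1, map_pow]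
  | xa i =>
    have h1 : (xa i : Q) = xa 0 * (a 1) ^ i.val := by revert i; decide
    conv_lhs => rw [h1, map_mul, map_pow]
    rfl

theorem aut_a2 (α : MulAut Q) : α (a 2) = a 2 := by
  have h1 : ∀ x : Q, x * x = 1 → x ≠ 1 → x = a 2 := by decide
  apply h1
  · rw [← map_mul]
    exact (congrArg α (by decide : (a 2 : Q) * a 2 = 1)).trans (map_one α)
  · intro h2
    have h3 : (a 2 : Q) = 1 := α.injective (h2.trans (map_one α).symm)
    exact absurd h3 (by decide)

theorem aut_ok (α : MulAut Q) : Ok (α (a 1)) (α (xa 0)) := by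
  refine ⟨?_, ?_, ?_⟩
  · rw [← map_mul, ← aut_a2 α]
    exact congrArg α (by decide)
  · rw [← map_mul, ← aut_a2 α]
    exact congrArg α (by decide)
  · rw [← map_mul, ← map_inv, ← map_mul]
    exact congrArg α (by decide)

/-- `α` is a transposition: it inverts `y`, and interchanges the two other axes -/
def Trn (α : Q → Q) (y : Q) : Prop :=
  y * y = a 2 ∧ α y = y⁻¹ ∧ ∀ b : Q, b * b = a 2 → b ≠ y → b ≠ y⁻¹ → α b ≠ b ∧ α b ≠ b⁻¹

instance (p q y : Q) : Decidable (Trn (F p q) y) := by unfold Trn; infer_instance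

set_option maxRecDepth 100000 in
theorem invol_aux : ∀ p q : Q, Ok p q → (∀ x, F p q (F p q x) = x) →
    (∀ x, F p q x = x) ∨ (∃ y : Q, y * y = a 2 ∧ ∀ x, F p q x = y * x * y⁻¹) ∨ (∃ y : Q, Trn (F p q) y) := by
  decide

theorem funF (α : MulAut Q) : (α : Q → Q) = F (α (a 1)) (α (xa 0)) := funext (aut_eq α)

/-- automorphisms with square `1` -/
theorem invol (α : MulAut Q) (h : ∀ x, α (α x) = x) :
    (∀ x, α x = x) ∨ (∃ y : Q, y * y = a 2 ∧ ∀ x, α x = y * x * y⁻¹) ∨ (∃ y : Q, Trn α y) := by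
  have h1 := invol_aux _ _ (aut_ok α)
  rw [← funF α] at h1
  exact h1 h

set_option maxRecDepth 100000 in
theorem sq_trn_aux : ∀ p q : Q, Ok p q → ∀ y : Q, ¬ Trn (fun x => F p q (F p q x)) y := by
  unfold Trn
  decide

/-- a square is not a transposition -/
theorem sq_trn (α : MulAut Q) (y : Q) : ¬ Trn (fun x => α (α x)) y := by
  have h1 := sq_trn_aux _ _ (aut_ok α)
  rw [← funF α] at h1
  exact h1 y

set_option maxRecDepth 100000 in
theorem sq_inn_aux : ∀ p q : Q, Ok p q → ∀ y : Q, y * y = a 2 → (∀ x, F p q (F p q x) = y * x * y⁻¹) → F p q y = y := by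
  decide

/-- `α² = inn y`, then `α y = y` -/
theorem sq_inn (α : MulAut Q) (y : Q) (hy : y * y = a 2) (h : ∀ x, α (α x) = y * x * y⁻¹) : α y = y := by
  have h1 := sq_inn_aux _ _ (aut_ok α) y hy
  rw [← funF α] at h1
  exact h1 h

/-- the relations of `quat` -/
def Rel (p q r s : Q) : Prop :=
  F p q (F p q (a 1)) = F r s (F r s (a 1)) ∧ F p q (F p q (xa 0)) = F r s (F r s (xa 0)) ∧
    F r s (F p q (a 1)) = F p q (F p q (F p q (F r s (a 1)))) ∧
    F r s (F p q (xa 0)) = F p q (F p q (F p q (F r s (xa 0))))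

instance (p q r s : Q) : Decidable (Rel p q r s) := by unfold Rel; infer_instance

set_option maxRecDepth 100000 in
set_option maxHeartbeats 4000000 in
theorem quat_aux : ∀ p q : Q, Ok p q → ∀ r s : Q, Ok r s → Rel p q r s → (∀ x, F p q (F p q x) = x) := by
  decide

/-- no quaternion group in `Aut Q₈` -/
theorem quat (α β : MulAut Q) (h1 : α * α = β * β) (h2 : β * α = α * α * α * β) : α * α = 1 := by
  have h3 := quat_aux _ _ (aut_ok α) _ _ (aut_ok β)
  unfold Rel at h3
  rw [← funF α, ← funF β] at h3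
  refine MulEquiv.ext fun x => h3 ⟨?_, ?_, ?_, ?_⟩ x
  · exact congrArg (fun f : MulAut Q => f (a 1)) h1
  · exact congrArg (fun f : MulAut Q => f (xa 0)) h1
  · exact congrArg (fun f : MulAut Q => f (a 1)) h2
  · exact congrArg (fun f : MulAut Q => f (xa 0)) h2

end Cfsg.Agent.Cit.Nil.ROne.QEight
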