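import Cfsg.Agent.Cit.Nil.ROne.WorldN
import Cfsg.Agent.Cit.Nil.CompR.TPm

/-!
# S1309, the node `r = 1` of the simple case

* `N1In` : the external inputs (S1169, Bender, S1174, S1175 for simple groups);
* `worldN_of_scw` : the world `WorldN (ZZ Om) (RR Om)`, `Om = cls K`, from helper500's `SCW`, core-free, (C3), `r = 1`;
* `NoThree Om` : no member of `C(s)` has `Three` in `C(s)` for `s` a nontrivial product of involutions of members of a
  2-subgroup (node (n2));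
* `tp_of_noThree` : `TP (ZZ Om) (RR Om)`;
* `AOStmt` : the branch `AllOne` is impossible;
* `node1_of` : the node, from `N1In`, `NoThree`, `AOStmt`.
-/

set_option autoImplicit false
set_option linter.style.haveILetI false
set_option linter.unusedSectionVars false

namespace Cfsg.Agent.Cit.Nil.ROne

open Subgroup Cfsg Cfsg.Agent.Cit
open Cfsg.Agent.Cit.Nil.Comp (TP AllOne)
open IndDefs (SCW Three)

universe u

/-- the external inputs -/
structure N1In : Prop where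
  /-- S1169 -/
  gold : ∀ (X : Type u) [Group X] [Finite X] [IsSimpleGroup X] (S : Sylow 2 X) (A : Subgroup X), A ≠ ⊥ →
    IsMulCommutative A → IsStronglyClosed A (S : Subgroup X) →
    IsMulCommutative (S : Subgroup X) ∨ ∃ H : Subgroup X, IsStronglyEmbedded H
  /-- Bender's theorem -/
  bend : ∀ (X : Type u) [Group X] [Finite X] [IsSimpleGroup X], CloEnd.Bend X
  /-- S1174 -/
  c74 : ∀ (X : Type u) [Group X] [Finite X] [IsSimpleGroup X], CloEnd.Crit1174 X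
  /-- S1175 -/
  c75 : ∀ (X : Type u) [Group X] [Finite X] [IsSimpleGroup X], CloEnd.Crit1175 X

/-- no member in `C(s)` has `Three` in `C(s)` -/
def NoThree {G : Type*} [Group G] (Om : Set (Subgroup G)) : Prop :=
  ∀ T : Subgroup G, IsPGroup 2 T → ∀ s ∈ closure {z : G | ∃ M ∈ Om, M ≤ T ∧ zz M = z}, s ≠ 1 →
    ∀ L ∈ restr Om (centralizer {s}), ¬ Three L

/-- the branch `AllOne` is impossible -/
def AOStmt : Prop := ∀ (G : Type u) [Group G] [Finite G] (K : Subgroup G), SCW G (cls K) →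
  WorldN (RG.ZZ (cls K)) (RG.RR (cls K)) → TP (RG.ZZ (cls K)) (RG.RR (cls K)) → NoThree (cls K) →
  AllOne (RG.ZZ (cls K)) (RG.RR (cls K)) → False

theorem W.congr {G : Type*} [Group G] {Z : Set G} {K K' : G → Subgroup G} (h : W Z K) (he : ∀ z ∈ Z, K' z = K z) :
    W Z K' where
  sq := h.sq
  ne := h.ne
  mem z hz := by rw [he z hz]; exact h.mem z hz
  conjZ := h.conjZ
  conjK z hz g := by rw [he z hz, he _ (h.conjZ z hz g)]; exact h.conjK z hz g
  q8 z hz := by rw [he z hz]; exact h.q8 z hz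

/-- (C3) is invariant under conjugation -/
theorem c3_cj {G : Type*} [Group G] {K : Subgroup G} (h : Nil.C3 K) (g : G) : Nil.C3 (cj g K) := by
  obtain ⟨Q, hQ, hQ8, c, hcK, hcQ, hc3, q, hq, hcq⟩ := h
  refine ⟨cj g Q, hQ.cj g, by rw [card_cj, hQ8], g * c * g⁻¹, ?_, ?_, ?_, g * q * g⁻¹, conj_mem_cj hq, ?_⟩
  · rw [mem_normalizer_iff_cj, cj_mul, cj_mul, cj_inv_cj, mem_normalizer_iff_cj.1 hcK]
  · rw [mem_normalizer_iff_cj, cj_mul, cj_mul, cj_inv_cj, mem_normalizer_iff_cj.1 hcQ]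
  · have h3 : zpowers (g * c * g⁻¹) = cj g (zpowers c) := by
      rw [cj_def, MonoidHom.map_zpowers]
      rfl
    rw [h3]
    exact isPGroup_cj hc3
  · intro h4
    apply hcq
    have h5 : g * (c * q) * g⁻¹ = g * (q * c) * g⁻¹ := by
      calc g * (c * q) * g⁻¹ = g * c * g⁻¹ * (g * q * g⁻¹) := by group
        _ = g * q * g⁻¹ * (g * c * g⁻¹) := h4
        _ = g * (q * c) * g⁻¹ := by group
    exact mul_left_cancel (mul_right_cancel h5)

section

variable {G : Type u} [Group G] [Finite G] {K : Subgroup G}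

/-- one member over each involution -/
theorem inj_of_ovr (hyp : Hyp (cls K)) (h1 : (AssemblyNil.ovr K).ncard = 1) :
    ∀ L ∈ cls K, ∀ M ∈ cls K, zz L = zz M → L = M := by
  obtain ⟨L0, hL0⟩ := Set.ncard_eq_one.1 h1
  have h2 : ∀ M ∈ cls K, zz M = zz K → M = K := by
    intro M hM hMz
    have h3 : M ∈ AssemblyNil.ovr K := ⟨hM, hMz⟩
    have h4 : K ∈ AssemblyNil.ovr K := ⟨self_mem_cls K, rfl⟩
    rw [hL0, Set.mem_singleton_iff] at h3 h4
    rw [h3, h4]
  rintro L ⟨g, rfl⟩ M hM hz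
  have h3 := h2 (cj g⁻¹ M) (hyp.conj M hM _) (by
    rw [hyp.zz_cj hM, ← hz, hyp.zz_cj (self_mem_cls K)]
    group)
  rw [← h3, cj_cj_inv]

/-- `R_z` is the member over `z` -/
theorem RR_zz {Om : Set (Subgroup G)} (hinj : ∀ L ∈ Om, ∀ M ∈ Om, zz L = zz M → L = M) {L : Subgroup G} (hL : L ∈ Om) :
    RG.RR Om (zz L) = L := by
  apply le_antisymm
  · refine (closure_le _).2 ?_
    rintro g ⟨M, hM, hg⟩
    rwa [hinj M hM.1 L hL hM.2] at hg
  · exact fun g hg => subset_closure ⟨L, ⟨hL, rfl⟩, hg⟩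

/-- **the world** -/
theorem worldN_of_scw (w : SCW G (cls K)) (core : ∀ t : G, orderOf t = 2 → centralizerPPrimeCore 2 t = ⊥)
    (c3 : Nil.C3 K) (h1 : (AssemblyNil.ovr K).ncard = 1) : WorldN (RG.ZZ (cls K)) (RG.RR (cls K)) := by
  have hyp := w.t0.hyp
  have hinj := inj_of_ovr hyp h1
  have hRR : ∀ {L : Subgroup G}, L ∈ cls K → RG.RR (cls K) (zz L) = L := fun hL => RR_zz hinj hL
  have hW : W (RG.ZZ (cls K)) (RG.RR (cls K)) := by
    refine (W.of_hyp hyp w.t0.card hinj).congr ?_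
    rintro _ ⟨L, hL, rfl⟩
    rw [hRR hL, Kf_zz hinj hL]
  have f := fsimp_of w.simple w.na
  obtain ⟨K₁, hK₁, K₂, hK₂, hcm, hne⟩ := w.two
  have h₁ : zz K₁ ∈ RG.ZZ (cls K) := ⟨K₁, hK₁, rfl⟩
  have h₂ : zz K₂ ∈ RG.ZZ (cls K) := ⟨K₂, hK₂, rfl⟩
  have hcp : CP (RG.RR (cls K)) (zz K₁) (zz K₂) := by
    refine ⟨hne, ?_⟩
    rw [hRR hK₁, hRR hK₂]
    exact hcm
  obtain ⟨S, hS₁, hS₂⟩ := hW.exists_sylow_of_cp h₁ h₂ hcp
  refine ⟨⟨w.simple, w.na, ?_⟩, hW, ?_, ?_, core, ⟨S, zz K₁, h₁, zz K₂, h₂, hne, hS₁.2, hS₂.2⟩⟩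
  · -- even order
    by_contra hodd
    have hn : (generalizedFittingSubgroup G).Normal := f.nor
    have h3 : generalizedFittingSubgroup G ≤ pPrimeCore 2 G :=
      Lib.Cores.le_pPrimeCore hn ((Nat.Prime.coprime_iff_not_dvd Nat.prime_two).2 hodd).symm
    rw [w.t0.core, le_bot_iff] at h3
    apply f.na
    intro x hx y hy
    rw [h3, mem_bot] at hx hy
    rw [hx, hy]
  · refine hW.c3_of ?_
    rintro _ ⟨L, hL, rfl⟩
    rw [hRR hL]
    obtain ⟨g, rfl⟩ := hL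
    exact c3_cj c3 g
  · rintro _ ⟨L, ⟨g, rfl⟩, rfl⟩ _ ⟨M, ⟨g', rfl⟩, rfl⟩
    refine ⟨g' * g⁻¹, ?_⟩
    rw [hyp.zz_cj (self_mem_cls K), hyp.zz_cj (self_mem_cls K)]
    group

/-- `T'` for the points -/
theorem tp_of_noThree {Om : Set (Subgroup G)} (w : SCW G Om)
    (core : ∀ t : G, orderOf t = 2 → centralizerPPrimeCore 2 t = ⊥) (n3 : NoThree Om) : TP (RG.ZZ Om) (RG.RR Om) := by
  have h : RG.WR Om := RG.WR.of_hyp w.t0.hyp w.t0.card
  intro S s hs hs1
  have hss := (CompR.GW.of_wr h w.t0.hyp).TT_sq S.isPGroup' hs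
  have h2 : orderOf s = 2 := orderOf_eq_prime (by rw [pow_two]; exact hss) hs1
  have hc : Cfsg.pPrimeCore 2 ↥(centralizer {s}) = ⊥ := by
    have h3 := core s h2
    unfold centralizerPPrimeCore at h3
    exact (Subgroup.map_eq_bot_iff_of_injective _ (Subgroup.subtype_injective _)).1 h3
  have hs' : s ∈ closure {z : G | ∃ M ∈ Om, M ≤ (S : Subgroup G) ∧ zz M = z} := by
    refine closure_mono ?_ hs
    rintro z ⟨⟨M, hM, rfl⟩, hz⟩
    exact ⟨M, hM, (RG.WR.le_RR ⟨hM, rfl⟩).trans hz, rfl⟩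
  exact (CompR.tpm_of_ih w hs1 hc (n3 S S.isPGroup' s hs' hs1)).tps h w.t0.hyp

/-- **the node `r = 1`** -/
theorem node1_of (i : N1In.{u}) (ao : AOStmt.{u}) (w : SCW G (cls K))
    (core : ∀ t : G, orderOf t = 2 → centralizerPPrimeCore 2 t = ⊥) (c3 : Nil.C3 K) (n3 : NoThree (cls K))
    (h1 : (AssemblyNil.ovr K).ncard = 1) : False := by
  have hw := worldN_of_scw w core c3 h1
  have tp := tp_of_noThree w core n3
  haveI := w.simple
  exact ao G K w hw tp n3 (hw.allOne tp (i.gold _) (i.bend _) (i.c74 _) (i.c75 _))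

end

end Cfsg.Agent.Cit.Nil.ROne
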