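import Cfsg.Agent.Cit.Nil.ROne.ClaimA

/-!
# (6b), `r = 1`: CLAIM S, case (b) (nondegenerate `B`)

Section 4 (b) of `blueprints/R18-6b-r1-helper545.md`. `(u, v)` a C-swap, `X = K u ⊔ K v`,
`d_k = dg v k` (`k ∈ K u`), `d'_l = dg u l` (`l ∈ K v`). If no `d'_l`, `l ∈ K v` of order 4, centralises `K u`, then
(`W.exists_rot`) some `d ∈ X` commutes with `u` and fixes no cyclic subgroup of order 4 of `K u`.

The group `X` acts on five elements `u, v, a v a⁻¹, b v b⁻¹, (a b) v (a b)⁻¹` modulo a central subgroup as `A₅`.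
-/

set_option autoImplicit false
set_option linter.style.haveILetI false
set_option linter.unusedSectionVars false

namespace Cfsg.Agent.Cit.Nil.ROne

open Subgroup Cfsg Cit

variable {G : Type*} [Group G]

/-- `n` acts on `K z` as conjugation by `y` -/
def AI (K : G → Subgroup G) (n z y : G) : Prop := ∀ k ∈ K z, n * k * n⁻¹ = y * k * y⁻¹

theorem AI.mul {K : G → Subgroup G} {n m z x y : G} (h1 : AI K n z y) (h2 : AI K m z x) (hx : x ∈ K z) :
    AI K (n * m) z (y * x) := by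
  intro k hk
  have h3 := h1 (x * k * x⁻¹) (mul_mem (mul_mem hx hk) (inv_mem hx))
  calc n * m * k * (n * m)⁻¹ = n * (m * k * m⁻¹) * n⁻¹ := by group
    _ = n * (x * k * x⁻¹) * n⁻¹ := by rw [h2 k hk]
    _ = y * (x * k * x⁻¹) * y⁻¹ := h3
    _ = _ := by group

/-- `e` is a central element of `X = K u ⊔ K v` with square `1` -/
structure EE (K : G → Subgroup G) (u v e : G) : Prop where
  mem : e ∈ K u ⊔ K v
  sq : e * e = 1
  cu : Cen K e u
  cv : Cen K e v

namespace EE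

variable {K : G → Subgroup G} {u v e e' x : G}

theorem comm (h : EE K u v e) (hx : x ∈ K u ⊔ K v) : e * x = x * e := by
  have h1 : K u ⊔ K v ≤ centralizer {e} := by
    refine sup_le ?_ ?_
    · intro k hk; exact mem_centralizer_singleton_iff.2 (h.cu k hk).symm
    · intro k hk; exact mem_centralizer_singleton_iff.2 (h.cv k hk).symm
  exact (mem_centralizer_singleton_iff.1 (h1 hx)).symm

theorem inv (h : EE K u v e) : e⁻¹ = e := inv_eq_of_mul_eq_one_right h.sq

theorem one : EE K u v (1 : G) := ⟨one_mem _, by simp, Cen.one, Cen.one⟩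

theorem mul (h : EE K u v e) (h' : EE K u v e') : EE K u v (e * e') := by
  refine ⟨mul_mem h.mem h'.mem, ?_, h.cu.mul h'.cu, h.cv.mul h'.cv⟩
  have h1 := h.comm h'.mem
  calc e * e' * (e * e') = e * (e' * e) * e' := by group
    _ = e * (e * e') * e' := by rw [h1]
    _ = (e * e) * (e' * e') := by group
    _ = 1 := by rw [h.sq, h'.sq, one_mul]

end EE

/-- equality modulo `E` -/
def RE (K : G → Subgroup G) (u v x y : G) : Prop := ∃ e, EE K u v e ∧ x = y * e

namespace RE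

variable {K : G → Subgroup G} {u v x y z g : G}

theorem refl (x : G) : RE K u v x x := ⟨1, EE.one, (mul_one x).symm⟩

theorem symm (h : RE K u v x y) : RE K u v y x := by
  obtain ⟨e, he, rfl⟩ := h
  exact ⟨e, he, by rw [mul_assoc, he.sq, mul_one]⟩

theorem trans (h : RE K u v x y) (h' : RE K u v y z) : RE K u v x z := by
  obtain ⟨e, he, rfl⟩ := h
  obtain ⟨e', he', rfl⟩ := h'
  exact ⟨e' * e, he'.mul he, mul_assoc _ _ _⟩

theorem conj (h : RE K u v x y) (hg : g ∈ K u ⊔ K v) : RE K u v (g * x * g⁻¹) (g * y * g⁻¹) := by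
  obtain ⟨e, he, rfl⟩ := h
  refine ⟨e, he, ?_⟩
  have h1 := he.comm (inv_mem hg)
  calc g * (y * e) * g⁻¹ = g * y * (e * g⁻¹) := by group
    _ = g * y * (g⁻¹ * e) := by rw [h1]
    _ = _ := by group

theorem comm (h : RE K u v x y) (hy : y ∈ K u ⊔ K v) : x * y = y * x := by
  obtain ⟨e, he, rfl⟩ := h
  rw [mul_assoc, he.comm hy]

theorem mem (h : RE K u v x y) (hy : y ∈ K u ⊔ K v) : x ∈ K u ⊔ K v := by
  obtain ⟨e, he, rfl⟩ := h
  exact mul_mem hy he.mem

end RE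

section act

variable {K : G → Subgroup G} {u v : G} (pt : Fin 5 → G)

/-- `x ∈ X` acts as `σ` on the five points modulo `E` -/
def Act (K : G → Subgroup G) (u v : G) (x : G) (σ : Equiv.Perm (Fin 5)) : Prop :=
  x ∈ K u ⊔ K v ∧ ∀ i, RE K u v (x * pt i * x⁻¹) (pt (σ i))

variable {pt} {x y : G} {σ τ : Equiv.Perm (Fin 5)}

theorem Act.mul (h : Act pt K u v x σ) (h' : Act pt K u v y τ) : Act pt K u v (x * y) (σ * τ) := by
  refine ⟨mul_mem h.1 h'.1, fun i => ?_⟩
  have h1 := (h'.2 i).conj h.1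
  have h2 := h.2 (τ i)
  have h3 : x * y * pt i * (x * y)⁻¹ = x * (y * pt i * y⁻¹) * x⁻¹ := by group
  rw [h3]
  exact h1.trans h2

theorem Act.inv (h : Act pt K u v x σ) : Act pt K u v x⁻¹ σ⁻¹ := by
  refine ⟨inv_mem h.1, fun i => ?_⟩
  have h1 := (h.2 (σ⁻¹ i)).conj (inv_mem h.1)
  have h2 : x⁻¹ * (x * pt (σ⁻¹ i) * x⁻¹) * x⁻¹⁻¹ = pt (σ⁻¹ i) := by group
  have h3 : σ (σ⁻¹ i) = i := by rw [← Equiv.Perm.mul_apply, mul_inv_cancel, Equiv.Perm.one_apply]
  rw [h2, h3] at h1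
  exact h1.symm

/-- uniqueness, if the five points are different modulo `E` -/
theorem Act.uniq (hn : ∀ i j, RE K u v (pt i) (pt j) → i = j) (h : Act pt K u v x σ) (h' : Act pt K u v x τ) :
    σ = τ := Equiv.ext fun i => hn _ _ ((h.2 i).symm.trans (h'.2 i))

/-- the four generating permutations -/
def pa : Equiv.Perm (Fin 5) := Equiv.swap 1 2 * Equiv.swap 3 4
def pb : Equiv.Perm (Fin 5) := Equiv.swap 1 3 * Equiv.swap 2 4
def pa' : Equiv.Perm (Fin 5) := Equiv.swap 0 2 * Equiv.swap 3 4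
def pb' : Equiv.Perm (Fin 5) := Equiv.swap 0 3 * Equiv.swap 2 4

theorem pt_inj {a b a' b' : G} (h01 : ¬ RE K u v (pt 0) (pt 1)) (Aa : Act pt K u v a pa)
    (Ab : Act pt K u v b pb) (Aa' : Act pt K u v a' pa') (Ab' : Act pt K u v b' pb') :
    ∀ i j, RE K u v (pt i) (pt j) → i = j := by
  have key : ∀ {x : G} {σ : Equiv.Perm (Fin 5)}, Act pt K u v x σ → ∀ i j, RE K u v (pt i) (pt j) →
      RE K u v (pt (σ i)) (pt (σ j)) := by
    intro x σ hx i j hij
    exact (hx.2 i).symm.trans ((hij.conj hx.1).trans (hx.2 j))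
  have n01 := h01
  have n10 : ¬ RE K u v (pt 1) (pt 0) := fun h => h01 h.symm
  have n02 : ¬ RE K u v (pt 0) (pt 2) := fun h => n01 (key Aa 0 2 h)
  have n03 : ¬ RE K u v (pt 0) (pt 3) := fun h => n01 (key Ab 0 3 h)
  have n04 : ¬ RE K u v (pt 0) (pt 4) := fun h => n03 (key Aa 0 4 h)
  have n12 : ¬ RE K u v (pt 1) (pt 2) := fun h => n10 (key Aa' 1 2 h)
  have n13 : ¬ RE K u v (pt 1) (pt 3) := fun h => n10 (key Ab' 1 3 h)
  have n14 : ¬ RE K u v (pt 1) (pt 4) := fun h => n13 (key Aa' 1 4 h)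
  have n23 : ¬ RE K u v (pt 2) (pt 3) := fun h => n14 (key Aa 2 3 h)
  have n24 : ¬ RE K u v (pt 2) (pt 4) := fun h => n13 (key Aa 2 4 h)
  have n34 : ¬ RE K u v (pt 3) (pt 4) := fun h => n12 (key Ab 3 4 h)
  intro i j hij
  fin_cases i <;> fin_cases j <;>
    first
    | rfl
    | exact absurd hij n01
    | exact absurd hij n02
    | exact absurd hij n03
    | exact absurd hij n04
    | exact absurd hij n12
    | exact absurd hij n13
    | exact absurd hij n14
    | exact absurd hij n23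
    | exact absurd hij n24
    | exact absurd hij n34
    | exact absurd hij.symm n01
    | exact absurd hij.symm n02
    | exact absurd hij.symm n03
    | exact absurd hij.symm n04
    | exact absurd hij.symm n12
    | exact absurd hij.symm n13
    | exact absurd hij.symm n14
    | exact absurd hij.symm n23
    | exact absurd hij.symm n24
    | exact absurd hij.symm n34

/-- the rotation -/
def pd : Equiv.Perm (Fin 5) := pb' * (pa * pa') * pb'⁻¹

theorem pd_zero : pd 0 = 0 := by decide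

theorem pd_ne : ∀ σ : Equiv.Perm (Fin 5), (σ = pa ∨ σ = pa⁻¹ ∨ σ = pb ∨ σ = pb⁻¹ ∨ σ = pa * pb ∨ σ = (pa * pb)⁻¹) →
    (pd * pd) * σ * (pd * pd)⁻¹ ≠ σ ∧ (pd * pd) * σ * (pd * pd)⁻¹ ≠ σ⁻¹ := by
  rintro σ (rfl | rfl | rfl | rfl | rfl | rfl) <;> refine ⟨?_, ?_⟩ <;> decide +kernel

end act

namespace W

section q8

variable {Z : Set G} {K : G → Subgroup G} {z a b y : G}

/-- the elements of order 4 of `K z` in terms of two of them -/
theorem four_list (h : W Z K) (hz : z ∈ Z) (ha : a ∈ K z) (haa : a * a = z) (hb : b ∈ K z) (hbb : b * b = z)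
    (h1 : b ≠ a) (h2 : b ≠ a⁻¹) (hy : y ∈ K z) (hyy : y * y = z) :
    y = a ∨ y = a⁻¹ ∨ y = b ∨ y = b⁻¹ ∨ y = a * b ∨ y = (a * b)⁻¹ := by
  by_cases h3 : y = b
  · tauto
  by_cases h4 : y = b⁻¹
  · tauto
  by_cases h5 : y = a
  · tauto
  by_cases h6 : y = a⁻¹
  · tauto
  rcases h.third hz ha haa hb hbb hy hyy h1 h2 h3 h4 h5 h6 with h7 | h7
  · tauto
  · tauto

/-- relations between two elements of order 4 on different axes -/
theorem four_rel (h : W Z K) (hz : z ∈ Z) (ha : a ∈ K z) (haa : a * a = z) (hb : b ∈ K z) (hbb : b * b = z)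
    (h1 : b ≠ a) (h2 : b ≠ a⁻¹) : b * a = z * (a * b) ∧ (a * b) * (a * b) = z ∧ b * a * b = a := by
  have h3 := h.inv_of_ne hz ha haa hb hbb h1 h2
  rw [h.inv_eq_mul hz hbb] at h3
  have hba : a * b = b * z * a := by rw [← h3]; group
  have hza := h.cent hz ha
  have hzb := h.cent hz hb
  have hzz := h.sq z hz
  have h4 : b * a = z * (a * b) := by
    rw [hba, hzb]
    calc b * a = (z * z) * b * a := by rw [hzz, one_mul]
      _ = z * (z * b * a) := by group
  refine ⟨h4, h.mul_sq hz ha haa hb hbb h1 h2, ?_⟩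
  rw [h4]
  calc z * (a * b) * b = z * a * (b * b) := by group
    _ = a * (z * z) := by rw [hbb, ← hza]; group
    _ = a := by rw [hzz, mul_one]

end q8

variable [Finite G] {Z : Set G} {K : G → Subgroup G} {u v x y k l a b a' b' : G} (h : W Z K) (ha : ANT Z K)

include h

section swap

variable (hu : u ∈ Z) (hv : v ∈ Z) (hs : CSw K u v)

include hu hv hs

omit [Finite G] in
theorem ee_wt : EE K u v (wt u v) := by
  refine ⟨?_, h.wt_sq hu hv hs, h.wt_cen_u hu hv hs, h.wt_cen_v hu hv hs⟩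
  have hu' : u ∈ K u ⊔ K v := mem_sup_left (h.mem u hu)
  have hv' : v ∈ K u ⊔ K v := mem_sup_right (h.mem v hv)
  exact mul_mem hu' (mul_mem (mul_mem hv' hu') (inv_mem hv'))

omit [Finite G] in
theorem re_uvu : RE K u v (u * v * u⁻¹) v := ⟨_, h.ee_wt hu hv hs, h.conj_v hu hv hs⟩

omit [Finite G] in
theorem re_vuv : RE K u v (v * u * v⁻¹) u := ⟨_, h.ee_wt hu hv hs, h.conj_u hu hv hs⟩

include ha

/-- `η = d_k d'_l` for matched `k`, `l` -/
theorem ee_eta (hk : k ∈ K u) (hkk : k * k = u) (hl : l ∈ K v) (hll : l * l = v) (h1 : AI K (dg u l) u k)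
    (h2 : AI K (dg v k) v l) : EE K u v (dg v k * dg u l) := by
  have hu' : u ∈ K u ⊔ K v := mem_sup_left (h.mem u hu)
  have hv' : v ∈ K u ⊔ K v := mem_sup_right (h.mem v hv)
  have hk' : k ∈ K u ⊔ K v := mem_sup_left hk
  have hl' : l ∈ K u ⊔ K v := mem_sup_right hl
  have hb : Bz u k l := by
    have h3 := h1 k hk
    rwa [mul_inv_cancel_right, mul_inv_eq_iff_eq_mul] at h3
  have hc := (h.bz_iff ha hu hv hs hl hll hk).1 hb
  refine ⟨?_, ?_, ?_, ?_⟩
  · exact mul_mem (mul_mem hk' (mul_mem (mul_mem hv' hk') (inv_mem hv')))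
      (mul_mem hl' (mul_mem (mul_mem hu' hl') (inv_mem hu')))
  · calc dg v k * dg u l * (dg v k * dg u l) = dg v k * (dg u l * dg v k) * dg u l := by group
      _ = (dg v k * dg v k) * (dg u l * dg u l) := by rw [hc]; group
      _ = 1 := by rw [h.dg_sq hu hv hs hk hkk, h.dgl_sq hu hv hs hl hll, h.wt_sq hu hv hs]
  · have h3 : AI K (dg v k * dg u l) u (k * k) := AI.mul (fun x hx => h.dg_act hu hv hs hk hx) h1 hk
    intro m hm
    have h4 := h3 m hm
    rwa [hkk, ← h.cent hu hm, mul_inv_cancel_right, mul_inv_eq_iff_eq_mul] at h4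
  · have h3 : AI K (dg v k * dg u l) v (l * l) :=
      AI.mul h2 (fun x hx => h.dg_act hv hu (h.csw_symm hu hv hs) hl hx) hl
    intro m hm
    have h4 := h3 m hm
    rwa [hll, ← h.cent hv hm, mul_inv_cancel_right, mul_inv_eq_iff_eq_mul] at h4

/-- `l u l⁻¹` and `k v k⁻¹` are equal modulo `E` for matched `k`, `l` -/
theorem re_match (hk : k ∈ K u) (hkk : k * k = u) (hl : l ∈ K v) (hll : l * l = v) (h1 : AI K (dg u l) u k)
    (h2 : AI K (dg v k) v l) : RE K u v (l * u * l⁻¹) (k * v * k⁻¹) := by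
  refine ⟨_, h.ee_eta ha hu hv hs hk hkk hl hll h1 h2, ?_⟩
  have hs' := h.csw_symm hu hv hs
  have e1 := h.conj_k_v hu hv hs hk hkk
  have e2 := h.conj_k_v hv hu hs' hl hll
  have c1 := h.dg_comm_u hu hv hs hk
  have c2 := h.dg_comm_v hu hv hs hk
  have c3 := h.dgl_comm_v hu hv hs hl
  have c4 := h.dg_sq hu hv hs hk hkk
  have c5 := h.wt_comm_u hu hv hs
  have c6 := h.conj_u hu hv hs
  have c7 := h.wt_comm_v hu hv hs
  have hww := h.wt_sq hu hv hs
  have hvi := h.inv hv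
  rw [e1, e2]
  -- `v u = u w v`
  have c8 : v * u = u * wt u v * v := by rw [← c6, inv_mul_cancel_right]
  calc u * dg u l * v = u * v * dg u l := by rw [mul_assoc, c3, mul_assoc]
    _ = u * (wt u v * wt u v) * v * dg u l := by rw [hww, mul_one]
    _ = u * wt u v * (wt u v * v) * dg u l := by group
    _ = u * wt u v * (v * wt u v) * dg u l := by rw [c7]
    _ = (u * wt u v * v) * (dg v k * dg v k) * dg u l := by rw [c4]; group
    _ = v * (u * dg v k) * dg v k * dg u l := by rw [← c8]; group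
    _ = v * dg v k * u * (dg v k * dg u l) := by rw [← c1]; group

/-- matched elements -/
theorem exists_ai (hnd : ∀ l ∈ K v, l * l = v → ∃ k ∈ K u, k * k = u ∧ ¬ Bz u k l) (hl : l ∈ K v)
    (hll : l * l = v) : ∃ k ∈ K u, k * k = u ∧ AI K (dg u l) u k := by
  rcases h.swap_inn ha hu hv hs (h.dgl_mem ha hu hv hs hl hll) (h.dgl_comm_u hu hv hs hl) with h1 | ⟨y, h1⟩
  · obtain ⟨k, hk, -, hb⟩ := hnd l hl hll
    exact absurd (h1 k hk) hb
  · exact ⟨y, h1.mem, h1.sq, h1.act⟩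

/-- `d_a` acts on `K v` as `a'` -/
theorem ai_symm (hal : a ∈ K u) (haa : a * a = u) (hbl : b ∈ K u) (hbb : b * b = u) (hab : b ≠ a) (hab' : b ≠ a⁻¹)
    (hal' : a' ∈ K v) (haa' : a' * a' = v) (hbl' : b' ∈ K v) (hbb' : b' * b' = v)
    (h1 : AI K (dg u a') u a) (h2 : AI K (dg u b') u b) : AI K (dg v a) v a' := by
  have hb1 : Bz u a a' := by
    have h3 := h1 a hal
    rwa [mul_inv_cancel_right, mul_inv_eq_iff_eq_mul] at h3
  have hb2 : ¬ Bz u a b' := by
    intro h3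
    have h4 := h2 a hal
    rw [show dg u b' * a = a * dg u b' from h3, mul_inv_cancel_right] at h4
    have h5 := h.inv_of_ne hu hbl hbb hal haa hab.symm (fun h6 => hab' (by rw [h6, inv_inv]))
    rw [← h4, eq_inv_iff_mul_eq_one, haa] at h5
    exact h.ne u hu h5
  have hs' := h.csw_symm hu hv hs
  have hb3 : Bz v a' a := (h.bz_symm ha hu hv hs hal' haa' hal haa).1 hb1
  have hb4 : ¬ Bz v b' a := fun h3 => hb2 ((h.bz_symm ha hu hv hs hbl' hbb' hal haa).2 h3)
  exact fun x hx => h.dgl_act ha hv hu hs' hal haa hal' haa' hb3 hbl' hbb' hb4 hx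

/-- **CLAIM S, case (b)** -/
theorem exists_rot (hnd : ∀ l ∈ K v, l * l = v → ∃ k ∈ K u, k * k = u ∧ ¬ Bz u k l) :
    ∃ d ∈ K u ⊔ K v, d * u = u * d ∧ ∀ y ∈ K u, y * y = u → d * y * d⁻¹ ≠ y ∧ d * y * d⁻¹ ≠ y⁻¹ := by
  have hs' := h.csw_symm hu hv hs
  -- matched generators
  obtain ⟨a', hal', haa'⟩ : ∃ a' ∈ K v, a' * a' = v := by
    obtain ⟨i, hi, -, -, hii, -⟩ := h.exists_ij hv
    exact ⟨i, hi, hii⟩
  obtain ⟨b', hbl', hbb', hne1, hne2, -, -⟩ := h.exists_inv hv hal' haa'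
  obtain ⟨a, hal, haa, haA⟩ := h.exists_ai ha hu hv hs hnd hal' haa'
  obtain ⟨b, hbl, hbb, hbA⟩ := h.exists_ai ha hu hv hs hnd hbl' hbb'
  obtain ⟨r1', r2', r3'⟩ := h.four_rel hv hal' haa' hbl' hbb' hne1 hne2
  have hcl' : a' * b' ∈ K v := mul_mem hal' hbl'
  have hcA : AI K (dg u (a' * b')) u (a * b) := by
    rw [h.dgl_mul hu hv hs hal' hbl']
    exact AI.mul haA hbA hbl
  have hne3 : a * b ≠ 1 ∧ a * b ≠ u := by
    obtain ⟨m, hm, hmm, hmb⟩ := hnd _ hcl' r2'
    constructor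
    · intro h1
      apply hmb
      have h2 := hcA m hm
      rw [h1, one_mul, inv_one, mul_one, mul_inv_eq_iff_eq_mul] at h2
      exact h2
    · intro h1
      apply hmb
      have h2 := hcA m hm
      rw [h1, ← h.cent hu hm, mul_inv_cancel_right, mul_inv_eq_iff_eq_mul] at h2
      exact h2
  have hab : b ≠ a := fun h1 => hne3.2 (by rw [h1, haa])
  have hab' : b ≠ a⁻¹ := fun h1 => hne3.1 (by rw [h1, mul_inv_cancel])
  obtain ⟨r1, r2, r3⟩ := h.four_rel hu hal haa hbl hbb hab hab'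
  have hcl : a * b ∈ K u := mul_mem hal hbl
  have haA' := h.ai_symm ha hu hv hs hal haa hbl hbb hab hab' hal' haa' hbl' hbb' haA hbA
  have hbA' := h.ai_symm ha hu hv hs hbl hbb hal haa hab.symm (fun h1 => hab' (by rw [h1, inv_inv]))
    hbl' hbb' hal' haa' hbA haA
  have hcA' : AI K (dg v (a * b)) v (a' * b') := by
    rw [h.dg_mul hu hv hs hal hbl]
    exact AI.mul haA' hbA' hbl'
  -- membership
  have hu' : u ∈ K u ⊔ K v := mem_sup_left (h.mem u hu)
  have hv' : v ∈ K u ⊔ K v := mem_sup_right (h.mem v hv)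
  have haX : a ∈ K u ⊔ K v := mem_sup_left hal
  have hbX : b ∈ K u ⊔ K v := mem_sup_left hbl
  have haX' : a' ∈ K u ⊔ K v := mem_sup_right hal'
  have hbX' : b' ∈ K u ⊔ K v := mem_sup_right hbl'
  have hcX : a * b ∈ K u ⊔ K v := mul_mem haX hbX
  have hcX' : a' * b' ∈ K u ⊔ K v := mul_mem haX' hbX'
  -- the points
  have m3 := h.re_match ha hu hv hs hal haa hal' haa' haA haA'
  have m4 := h.re_match ha hu hv hs hbl hbb hbl' hbb' hbA hbA'
  have m5 := h.re_match ha hu hv hs hcl r2 hcl' r2' hcA hcA'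
  have mu := h.re_uvu hu hv hs
  have mv := h.re_vuv hu hv hs
  -- `u` fixes the points `g v g⁻¹`, `g ∈ K u`; `v` fixes the points `g u g⁻¹`, `g ∈ K v`
  have fu : ∀ g ∈ K u, RE K u v (u * (g * v * g⁻¹) * u⁻¹) (g * v * g⁻¹) := by
    intro g hg
    have h1 := mu.conj (mem_sup_left hg : g ∈ K u ⊔ K v)
    have h2 : g * (u * v * u⁻¹) * g⁻¹ = u * (g * v * g⁻¹) * u⁻¹ := by
      calc g * (u * v * u⁻¹) * g⁻¹ = (g * u) * v * (g * u)⁻¹ := by group
        _ = (u * g) * v * (u * g)⁻¹ := by rw [h.cent hu hg]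
        _ = _ := by group
    rwa [h2] at h1
  have fv : ∀ g ∈ K v, RE K u v (v * (g * u * g⁻¹) * v⁻¹) (g * u * g⁻¹) := by
    intro g hg
    have h1 := mv.conj (mem_sup_right hg : g ∈ K u ⊔ K v)
    have h2 : g * (v * u * v⁻¹) * g⁻¹ = v * (g * u * g⁻¹) * v⁻¹ := by
      calc g * (v * u * v⁻¹) * g⁻¹ = (g * v) * u * (g * v)⁻¹ := by group
        _ = (v * g) * u * (v * g)⁻¹ := by rw [h.cent hv hg]
        _ = _ := by group
    rwa [h2] at h1
  set pt : Fin 5 → G := ![u, v, a * v * a⁻¹, b * v * b⁻¹, (a * b) * v * (a * b)⁻¹] with hpt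
  have Aa : Act pt K u v a pa := by
    refine ⟨haX, fun i => ?_⟩
    fin_cases i
    · change RE K u v (a * u * a⁻¹) u
      rw [h.cent hu hal, mul_inv_cancel_right]; exact RE.refl _
    · change RE K u v (a * v * a⁻¹) (a * v * a⁻¹)
      exact RE.refl _
    · change RE K u v (a * (a * v * a⁻¹) * a⁻¹) v
      have e : a * (a * v * a⁻¹) * a⁻¹ = u * v * u⁻¹ := by rw [← haa]; group
      rw [e]; exact mu
    · change RE K u v (a * (b * v * b⁻¹) * a⁻¹) ((a * b) * v * (a * b)⁻¹)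
      have e : a * (b * v * b⁻¹) * a⁻¹ = (a * b) * v * (a * b)⁻¹ := by group
      rw [e]; exact RE.refl _
    · change RE K u v (a * ((a * b) * v * (a * b)⁻¹) * a⁻¹) (b * v * b⁻¹)
      have e : a * ((a * b) * v * (a * b)⁻¹) * a⁻¹ = (a * a) * (b * v * b⁻¹) * (a * a)⁻¹ := by group
      rw [e, haa]; exact fu b hbl
  have Ab : Act pt K u v b pb := by
    refine ⟨hbX, fun i => ?_⟩
    fin_cases i
    · change RE K u v (b * u * b⁻¹) u
      rw [h.cent hu hbl, mul_inv_cancel_right]; exact RE.refl _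
    · change RE K u v (b * v * b⁻¹) (b * v * b⁻¹)
      exact RE.refl _
    · change RE K u v (b * (a * v * a⁻¹) * b⁻¹) ((a * b) * v * (a * b)⁻¹)
      have e : b * (a * v * a⁻¹) * b⁻¹ = u * ((a * b) * v * (a * b)⁻¹) * u⁻¹ := by
        calc b * (a * v * a⁻¹) * b⁻¹ = (b * a) * v * (b * a)⁻¹ := by group
          _ = _ := by rw [r1]; group
      rw [e]; exact fu _ hcl
    · change RE K u v (b * (b * v * b⁻¹) * b⁻¹) v
      have e : b * (b * v * b⁻¹) * b⁻¹ = u * v * u⁻¹ := by rw [← hbb]; group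
      rw [e]; exact mu
    · change RE K u v (b * ((a * b) * v * (a * b)⁻¹) * b⁻¹) (a * v * a⁻¹)
      have e : b * ((a * b) * v * (a * b)⁻¹) * b⁻¹ = (b * a * b) * v * (b * a * b)⁻¹ := by group
      rw [e, r3]; exact RE.refl _
  have Aa' : Act pt K u v a' pa' := by
    refine ⟨haX', fun i => ?_⟩
    fin_cases i
    · change RE K u v (a' * u * a'⁻¹) (a * v * a⁻¹)
      exact m3
    · change RE K u v (a' * v * a'⁻¹) v
      rw [h.cent hv hal', mul_inv_cancel_right]; exact RE.refl _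
    · change RE K u v (a' * (a * v * a⁻¹) * a'⁻¹) u
      refine (m3.symm.conj haX').trans ?_
      have e : a' * (a' * u * a'⁻¹) * a'⁻¹ = v * u * v⁻¹ := by rw [← haa']; group
      rw [e]; exact mv
    · change RE K u v (a' * (b * v * b⁻¹) * a'⁻¹) ((a * b) * v * (a * b)⁻¹)
      refine (m4.symm.conj haX').trans ?_
      have e : a' * (b' * u * b'⁻¹) * a'⁻¹ = (a' * b') * u * (a' * b')⁻¹ := by group
      rw [e]; exact m5
    · change RE K u v (a' * ((a * b) * v * (a * b)⁻¹) * a'⁻¹) (b * v * b⁻¹)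
      refine (m5.symm.conj haX').trans ?_
      have e : a' * ((a' * b') * u * (a' * b')⁻¹) * a'⁻¹ = (a' * a') * (b' * u * b'⁻¹) * (a' * a')⁻¹ := by group
      rw [e, haa']; exact (fv b' hbl').trans m4
  have Ab' : Act pt K u v b' pb' := by
    refine ⟨hbX', fun i => ?_⟩
    fin_cases i
    · change RE K u v (b' * u * b'⁻¹) (b * v * b⁻¹)
      exact m4
    · change RE K u v (b' * v * b'⁻¹) v
      rw [h.cent hv hbl', mul_inv_cancel_right]; exact RE.refl _
    · change RE K u v (b' * (a * v * a⁻¹) * b'⁻¹) ((a * b) * v * (a * b)⁻¹)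
      refine (m3.symm.conj hbX').trans ?_
      have e : b' * (a' * u * a'⁻¹) * b'⁻¹ = v * ((a' * b') * u * (a' * b')⁻¹) * v⁻¹ := by
        calc b' * (a' * u * a'⁻¹) * b'⁻¹ = (b' * a') * u * (b' * a')⁻¹ := by group
          _ = _ := by rw [r1']; group
      rw [e]; exact (fv _ hcl').trans m5
    · change RE K u v (b' * (b * v * b⁻¹) * b'⁻¹) u
      refine (m4.symm.conj hbX').trans ?_
      have e : b' * (b' * u * b'⁻¹) * b'⁻¹ = v * u * v⁻¹ := by rw [← hbb']; group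
      rw [e]; exact mv
    · change RE K u v (b' * ((a * b) * v * (a * b)⁻¹) * b'⁻¹) (a * v * a⁻¹)
      refine (m5.symm.conj hbX').trans ?_
      have e : b' * ((a' * b') * u * (a' * b')⁻¹) * b'⁻¹ = (b' * a' * b') * u * (b' * a' * b')⁻¹ := by group
      rw [e, r3']; exact m3
  have h01 : ¬ RE K u v (pt 0) (pt 1) := fun h1 => h.csw_not_comm hu hv hs (h1.comm hv')
  have hinj := pt_inj h01 Aa Ab Aa' Ab'
  have Ad : Act pt K u v (b' * (a * a') * b'⁻¹) pd := ((Ab'.mul (Aa.mul Aa')).mul Ab'.inv)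
  set d := b' * (a * a') * b'⁻¹ with hd
  have Ag : Act pt K u v (d * d) (pd * pd) := Ad.mul Ad
  -- `d²` commutes with `u`
  have hdu : d * d * u = u * (d * d) := by
    obtain ⟨e, he, h1⟩ : RE K u v (d * u * d⁻¹) u := Ad.2 0
    have h2 := he.comm Ad.1
    have h3 : d * d * u * (d * d)⁻¹ = u := by
      have h4 : d * (u * e) * d⁻¹ = (d * u * d⁻¹) * (d * e * d⁻¹) := by group
      calc d * d * u * (d * d)⁻¹ = d * (d * u * d⁻¹) * d⁻¹ := by group
        _ = (u * e) * e := by rw [h1, h4, h1, ← h2, mul_inv_cancel_right]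
        _ = u := by rw [mul_assoc, he.sq, mul_one]
    rwa [mul_inv_eq_iff_eq_mul] at h3
  refine ⟨d * d, Ag.1, hdu, fun y hy hyy => ?_⟩
  obtain ⟨σ, hσ, hyσ⟩ : ∃ σ : Equiv.Perm (Fin 5), (σ = pa ∨ σ = pa⁻¹ ∨ σ = pb ∨ σ = pb⁻¹ ∨ σ = pa * pb ∨
      σ = (pa * pb)⁻¹) ∧ Act pt K u v y σ := by
    rcases h.four_list hu hal haa hbl hbb hab hab' hy hyy with h1 | h1 | h1 | h1 | h1 | h1 <;> rw [h1]
    · exact ⟨pa, by tauto, Aa⟩
    · exact ⟨pa⁻¹, by tauto, Aa.inv⟩
    · exact ⟨pb, by tauto, Ab⟩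
    · exact ⟨pb⁻¹, by tauto, Ab.inv⟩
    · exact ⟨pa * pb, by tauto, Aa.mul Ab⟩
    · exact ⟨(pa * pb)⁻¹, by tauto, (Aa.mul Ab).inv⟩
  have Ac := (Ag.mul hyσ).mul Ag.inv
  obtain ⟨h1, h2⟩ := pd_ne σ hσ
  constructor
  · intro h3
    rw [h3] at Ac
    exact h1 (Act.uniq hinj Ac hyσ)
  · intro h3
    rw [h3] at Ac
    exact h2 (Act.uniq hinj Ac hyσ.inv)

end swap

end W

end Cfsg.Agent.Cit.Nil.ROne
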