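import Cfsg.Agent.Cit.Nil.VC
import Cfsg.Agent.Cit.TauMain
import Cfsg.Agent.Cit.NilComp
import Cfsg.Agent.Cit.Sub

/-!
# `r = 1`, (5.0): TAU inside a subgroup

`tau_in`: a member `L ≤ D` of order 8, `v ∈ L` of order 4, `N_D(L) ≤ N(⟨v⟩)`: there is `f : D → ±1` with `f = 1` on `⟨v⟩`
and `f = -1` on `L \ ⟨v⟩`.
-/

set_option autoImplicit false
set_option linter.style.haveILetI false
set_option linter.unusedSectionVars false

namespace Cfsg.Agent.Cit.ROne

open Subgroup Cfsg Cfsg.Agent.Cit Cfsg.Agent.Cit.Tau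

variable {G : Type*} [Group G]

/-- an invariant subset of `Om` -/
theorem hyp_of_sub {Om Om' : Set (Subgroup G)} (h : Hyp Om) (hs : ∀ K ∈ Om', K ∈ Om)
    (hc : ∀ K ∈ Om', ∀ g, cj g K ∈ Om') : Hyp Om' where
  conj := hc
  quat K hK := h.quat K (hs K hK)
  uniq K hK := h.uniq K (hs K hK)
  sub K hK := h.sub K (hs K hK)
  h2 K hK L hL := h.h2 K (hs K hK) L (hs L hL)
  h3 K hK L hL := h.h3 K (hs K hK) L (hs L hL)

theorem hyp_cls {Om : Set (Subgroup G)} (h : Hyp Om) {K : Subgroup G} (hK : K ∈ Om) : Hyp (Cit.cls K) := by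
  refine hyp_of_sub h ?_ ?_
  · rintro _ ⟨g, rfl⟩
    exact h.conj K hK g
  · rintro _ ⟨g, rfl⟩ x
    exact ⟨x * g, by rw [cj_mul]⟩

variable [Finite G] {Om : Set (Subgroup G)} {D L : Subgroup G} {v : G}

/-- in a member which is a 2-group of order 8 an element of order 4 is centralised by its powers only -/
theorem mem_zpowers_of_comm (h : Hyp Om) (hL : L ∈ Om) (h8 : Nat.card L = 8) (hv : v ∈ L) (hv4 : orderOf v = 4)
    {x : G} (hx : x ∈ L) (hc : x * v = v * x) : x ∈ zpowers v := by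
  have h2 : IsPGroup 2 L := IsPGroup.of_card (n := 3) (by rw [h8]; norm_num)
  by_contra hn
  -- `⟨v, x⟩ = L`
  have hle : zpowers v ≤ L := zpowers_le.2 hv
  have h1 : closure ({v, x} : Set G) ≤ L := by
    rw [closure_le]
    rintro y (rfl | rfl)
    · exact hv
    · exact hx
  have h3 : zpowers v < closure ({v, x} : Set G) := by
    refine lt_of_le_of_ne (zpowers_le.2 (subset_closure (by simp))) ?_
    intro he
    apply hn
    rw [he]
    exact subset_closure (by simp)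
  have h4 : closure ({v, x} : Set G) = L := by
    apply eq_of_le_of_card_ge h1
    have h5 : Nat.card (zpowers v) < Nat.card (closure ({v, x} : Set G)) :=
      lt_of_le_of_ne (card_le_of_le h3.le) (fun e => h3.ne (eq_of_le_of_card_ge h3.le e.ge))
    rw [Nat.card_zpowers, hv4] at h5
    have h6 : Nat.card (closure ({v, x} : Set G)) ∣ 8 := by rw [← h8]; exact card_dvd_of_le h1
    rw [h8]
    have h7 := Nat.le_of_dvd (by norm_num) h6
    interval_cases h9 : Nat.card (closure ({v, x} : Set G)) <;> omega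
  obtain ⟨a, ha, b, hb, hab⟩ := h.exists_comm_eq hL h2
  have hcomm : ∀ y ∈ L, ∀ w ∈ L, y * w = w * y := by
    have h5 : closure ({v, x} : Set G) ≤ centralizer ((closure ({v, x} : Set G) : Subgroup G) : Set G) := by
      rw [centralizer_closure, closure_le]
      rintro y (rfl | rfl)
      · rw [SetLike.mem_coe, mem_centralizer_iff]
        rintro w (rfl | rfl)
        · rfl
        · exact hc
      · rw [SetLike.mem_coe, mem_centralizer_iff]
        rintro w (rfl | rfl)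
        · exact hc.symm
        · rfl
    rw [h4] at h5
    intro y hy w hw
    exact (mem_centralizer_iff.1 (h5 hy) w hw).symm
  have h10 : zz L = 1 := by
    rw [← hab, hcomm a ha b hb]; group
  exact h.zz_ne hL h10

/-- **(5.0)** -/
theorem tau_in (h : Hyp Om) (hL : L ∈ Om) (h8 : Nat.card L = 8) (hLD : L ≤ D) (hv : v ∈ L) (hv4 : orderOf v = 4)
    (hN : ∀ g ∈ D, g ∈ normalizer (L : Set G) → g ∈ normalizer (zpowers v : Set G)) :
    ∃ f : ↥D →* ℤˣ, ∀ (x : G) (hx : x ∈ L), f ⟨x, hLD hx⟩ = 1 ↔ x ∈ zpowers v := by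
  have h2 : IsPGroup 2 L := IsPGroup.of_card (n := 3) (by rw [h8]; norm_num)
  set L' : Subgroup ↥D := L.subgroupOf D with hL'
  have hL'm : L' ∈ restr Om D := subgroupOf_mem_restr hL hLD
  have hH : Hyp (Cit.cls L') := hyp_cls (h.restr D) hL'm
  have h2' : IsPGroup 2 L' := h2.comap_subtype
  have hOO : OO L' = ⊥ := OO_eq_bot_of_two h2'
  set v' : ↥D := ⟨v, hLD hv⟩ with hv'
  have hv'L : v' ∈ L' := mem_subgroupOf.2 hv
  have hv'4 : orderOf v' = 4 := by rw [← hv4, hv', Subgroup.orderOf_mk]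
  have hmem : ∀ {x : ↥D}, x ∈ zpowers v' ↔ (x : G) ∈ zpowers v := by
    intro x
    rw [mem_zpowers_iff, mem_zpowers_iff]
    constructor
    · rintro ⟨k, hk⟩
      exact ⟨k, by rw [← hk]; rfl⟩
    · rintro ⟨k, hk⟩
      exact ⟨k, Subtype.ext hk⟩
  have hNn : normalizer (L' : Set ↥D) ≤ normalizer (zpowers v' : Set ↥D) := by
    intro g hg
    have h3 : (g : G) ∈ normalizer (L : Set G) := by
      have key : ∀ g ∈ normalizer (L' : Set ↥D), ∀ x ∈ L, (g : G) * x * (g : G)⁻¹ ∈ L := by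
        intro g hg x hx
        exact mem_subgroupOf.1 ((mem_normalizer_iff.1 hg ⟨x, hLD hx⟩).1 (mem_subgroupOf.2 hx))
      rw [mem_normalizer_iff]
      intro x
      refine ⟨key g hg x, fun hx => ?_⟩
      have h4 := key g⁻¹ (inv_mem hg) _ hx
      have e : ((g⁻¹ : ↥D) : G) * ((g : G) * x * (g : G)⁻¹) * ((g⁻¹ : ↥D) : G)⁻¹ = x := by
        rw [Subgroup.coe_inv]; group
      rwa [e] at h4
    have h4 := hN g g.2 h3
    rw [mem_normalizer_iff] at h4 ⊢
    intro x
    rw [hmem, hmem]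
    exact h4 x
  have hU := Nil.VC.vchoice (K := L') (V := zpowers v') hNn (zpowers_le.2 hv'L) (by rw [hOO]; exact bot_le)
    (by rw [hOO, Subgroup.card_bot, mul_one, Nat.card_zpowers, hv'4]) ⟨v', mem_zpowers v', hv'4⟩
  obtain ⟨f, hf⟩ := TauMain.tau hH hU
  refine ⟨f, fun x hx => ?_⟩
  rw [hf L' (self_mem_cls L') ⟨x, hLD hx⟩ (mem_subgroupOf.2 hx)]
  have hUL : Nil.VC.Uc L' (zpowers v') L' = zpowers v' := by
    have := Nil.VC.Uc_cj (K := L') (V := zpowers v') hNn 1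
    rwa [cj_one, cj_one] at this
  have hXX : ∀ {y : ↥D}, y ∈ XX (Nil.VC.Uc L' (zpowers v')) L' ↔ y ∈ L' ∧ ∀ w ∈ Nil.VC.Uc L' (zpowers v') L',
      y * w * y⁻¹ * w⁻¹ ∈ OO L' := Iff.rfl
  rw [hXX, hUL, hOO]
  constructor
  · rintro ⟨-, h3⟩
    have h4 := h3 v' (mem_zpowers v')
    rw [mem_bot, mul_inv_eq_one, mul_inv_eq_iff_eq_mul] at h4
    exact mem_zpowers_of_comm h hL h8 hv hv4 hx (congrArg Subtype.val h4)
  · intro h3
    refine ⟨mem_subgroupOf.2 hx, fun w hw => ?_⟩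
    obtain ⟨k, hk⟩ := mem_zpowers_iff.1 (hmem.1 hw)
    obtain ⟨j, hj⟩ := mem_zpowers_iff.1 h3
    rw [mem_bot, mul_inv_eq_one, mul_inv_eq_iff_eq_mul]
    apply Subtype.ext
    show x * (w : G) = w * x
    rw [← hk, ← hj, ← zpow_add, ← zpow_add, add_comm]

end Cfsg.Agent.Cit.ROne
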