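import Cfsg.Agent.Cit.Nil.ROne.Base
import Cfsg.Agent.Cit.Nil.ROne.ClTwo
import Cfsg.Agent.Cit.Nil.ROne.TauIn

/-!
# (6b), `r = 1`, section 5: twins, (5.1) - (5.5)

* `IA K g u` : `g` acts on `K u` as an inner automorphism;
* `RR K z u` : (R)(z,u): the elements of `C(K z) ∩ C(u)` act on `K u` as inner automorphisms;
* `ClS Z K` : CLAIM S (section 4);
* `no_swap`, `comm_of_RR` : (5.1); `CP_of_RR`, `cl_eq_of_RR` : (5.2); `tw_of_RR` : (5.3); `CS_of_tw` : `[z] ≤ C_S`;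
* `ia_of_NC` : (2.3); `RR_of_swap` : (5.5); `tw_of_swap` : `u' ∈ [u]` for a C-swap `(u, v)`, `u' = v u v⁻¹`.
-/

set_option autoImplicit false
set_option linter.style.haveILetI false
set_option linter.unusedSectionVars false

namespace Cfsg.Agent.Cit.Nil.ROne

open Subgroup Cfsg Cit QuaternionGroup

variable {G : Type*} [Group G]

/-- `g` acts on `K u` as an inner automorphism -/
def IA (K : G → Subgroup G) (g u : G) : Prop := ∃ l ∈ K u, ∀ x ∈ K u, g * x * g⁻¹ = l * x * l⁻¹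

/-- (R)(z,u) -/
def RR (K : G → Subgroup G) (z u : G) : Prop := ∀ g, Cen K g z → g * u = u * g → IA K g u

/-- CLAIM S -/
def ClS (Z : Set G) (K : G → Subgroup G) : Prop :=
  ∀ u ∈ Z, ∀ v ∈ Z, CSw K u v → ∀ f : ↥(K u ⊔ K v) →* ℤˣ, ∀ (x : G) (hx : x ∈ K u), f ⟨x, mem_sup_left hx⟩ = 1

namespace W

variable {Z : Set G} {K : G → Subgroup G} {z u v g x y b k : G}

section loc

variable (h : W Z K)
include h

theorem ia_pow (hu : u ∈ Z) (hI : IA K g u) (hy : y ∈ K u) (hyy : y * y = u) : g * y * g⁻¹ = y ∨ g * y * g⁻¹ = y⁻¹ := by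
  obtain ⟨l, hl, hl'⟩ := hI
  rw [hl' y hy]
  have h1 : ∀ l y : QEight.Q, y * y = a 2 → l * y * l⁻¹ = y ∨ l * y * l⁻¹ = y⁻¹ := by decide
  have h2 : h.e hu ⟨y, hy⟩ * h.e hu ⟨y, hy⟩ = a 2 := by
    rw [← h.e_z hu, ← map_mul]
    exact congrArg (h.e hu) (Subtype.ext hyy)
  have h3 := h1 (h.e hu ⟨l, hl⟩) _ h2
  rw [← map_inv, ← map_mul, ← map_mul, ← map_inv] at h3
  rcases h3 with h3 | h3
  · exact Or.inl (congrArg Subtype.val ((h.e hu).injective h3))
  · exact Or.inr (congrArg Subtype.val ((h.e hu).injective h3))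

/-- transpositions are not inner -/
theorem not_ia_of_trn (hu : u ∈ Z) {a : G} (hT : Trn K g u a) : ¬ IA K g u := by
  intro hI
  have h1 : ∀ y : QEight.Q, ∃ b : QEight.Q, b * b = QuaternionGroup.a 2 ∧ b ≠ y ∧ b ≠ y⁻¹ := by decide
  obtain ⟨b, hb1, hb2, hb3⟩ := h1 (h.e hu ⟨a, hT.mem⟩)
  obtain ⟨x, hx, rfl⟩ := h.exists_e hu b
  have e1 : x * x = u := by
    have : h.e hu (⟨x, hx⟩ * ⟨x, hx⟩) = h.e hu ⟨u, h.mem u hu⟩ := by rw [map_mul, hb1, h.e_z hu]
    exact congrArg Subtype.val ((h.e hu).injective this)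
  have e2 : x ≠ a := by
    rintro rfl
    exact hb2 rfl
  have e3 : x ≠ a⁻¹ := by
    rintro rfl
    apply hb3
    rw [← map_inv]; rfl
  have h4 := hT.ne x hx e1 e2 e3
  rcases h.ia_pow hu hI hx e1 with h5 | h5
  · exact h4.1 h5
  · exact h4.2 h5

/-- an element which moves the elements of `K u` only modulo `u` acts as an inner automorphism -/
theorem ia_of_mod (hu : u ∈ Z) (hg : g * u = u * g) (hm : ∀ x ∈ K u, g * x * g⁻¹ = x ∨ g * x * g⁻¹ = x * u) :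
    IA K g u := by
  have h1 : ∀ p q : QEight.Q, QEight.Ok p q → (∀ x, QEight.F p q x = x ∨ QEight.F p q x = x * QuaternionGroup.a 2) →
      ∃ l : QEight.Q, ∀ x, QEight.F p q x = l * x * l⁻¹ := by decide
  have h2 := h1 _ _ (QEight.aut_ok (h.rho hu g hg))
  rw [← QEight.funF (h.rho hu g hg)] at h2
  obtain ⟨l, hl⟩ := h2 (by
    intro p
    obtain ⟨x, hx, rfl⟩ := h.exists_e hu p
    rw [h.rho_e hu hg hx]
    rcases hm x hx with h3 | h3
    · left; congr 1; exact Subtype.ext h3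
    · right
      rw [← h.e_z hu, ← map_mul]
      congr 1
      exact Subtype.ext h3)
  obtain ⟨c, hc, rfl⟩ := h.exists_e hu l
  refine ⟨c, hc, fun x hx => ?_⟩
  have h3 := hl (h.e hu ⟨x, hx⟩)
  rw [h.rho_e hu hg hx, ← map_inv, ← map_mul, ← map_mul] at h3
  exact congrArg Subtype.val ((h.e hu).injective h3)

theorem comm_of_norm (hu : u ∈ Z) (hg : g ∈ normalizer (K u : Set G)) : g * u = u * g := by
  have h1 : g * u * g⁻¹ ∈ K u := (mem_normalizer_iff.1 hg u).1 (h.mem u hu)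
  have h2 : g * u * g⁻¹ * (g * u * g⁻¹) = 1 := by
    calc g * u * g⁻¹ * (g * u * g⁻¹) = g * (u * u) * g⁻¹ := by group
      _ = 1 := by rw [h.sq u hu]; group
  rcases h.uniq hu h1 h2 with h3 | h3
  · exfalso
    apply h.ne u hu
    calc u = g⁻¹ * (g * u * g⁻¹) * g := by group
      _ = 1 := by rw [h3]; group
  · exact mul_inv_eq_iff_eq_mul.1 h3

theorem exists_four (hu : u ∈ Z) : ∃ y ∈ K u, y * y = u ∧ orderOf y = 4 := by
  obtain ⟨i, hi, j, hj, hii, -⟩ := h.exists_ij hu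
  refine ⟨i, hi, hii, ?_⟩
  have h1 : ¬ i ^ 2 ^ 1 = 1 := by
    rw [pow_one, pow_two, hii]; exact h.ne u hu
  have h2 : i ^ 2 ^ (1 + 1) = 1 := by
    have : i ^ 2 ^ (1 + 1) = (i * i) * (i * i) := by
      rw [show (2 : ℕ) ^ (1 + 1) = 2 + 2 from rfl, pow_add, pow_two]
    rw [this, hii, h.sq u hu]
  exact orderOf_eq_prime_pow h1 h2

/-- inner action: as `Cen` or `Inn` -/
theorem ia_iff (hu : u ∈ Z) : IA K g u ↔ Cen K g u ∨ ∃ y, Inn K g u y := by
  constructor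
  · rintro ⟨l, hl, hl'⟩
    by_cases h1 : l = 1
    · left
      intro x hx
      have h2 := hl' x hx
      rw [h1, inv_one, mul_one, one_mul] at h2
      exact mul_inv_eq_iff_eq_mul.1 h2
    · by_cases h3 : l = u
      · left
        intro x hx
        have h2 := hl' x hx
        rw [h3, ← h.cent hu hx, mul_inv_cancel_right] at h2
        exact mul_inv_eq_iff_eq_mul.1 h2
      · exact Or.inr ⟨l, hl, h.sq_eq hu hl h1 h3, hl'⟩
  · rintro (h1 | ⟨y, h1⟩)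
    · refine ⟨1, one_mem _, fun x hx => ?_⟩
      rw [h1 x hx, mul_inv_cancel_right, one_mul, inv_one, mul_one]
    · exact ⟨y, h1.mem, h1.act⟩

/-- an N-partner of `u` gives an outer action on `K u` -/
theorem out (hu : u ∈ Z) (hx : x ∈ Z) (hn : NP K u x) : ∃ g ∈ K x, g * u = u * g ∧ ¬ IA K g u := by
  rcases h.np_cases hu hx hn with h1 | h1
  · obtain ⟨c, hc, hcc, hcu⟩ := h.ti_four h1
    obtain ⟨y, y', h2, -⟩ := h1
    refine ⟨c, hc, hcu, fun hI => ?_⟩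
    obtain ⟨b, hb, hbb, hby, hby', -, -⟩ := h.exists_inv hu h2.mem h2.sq
    have h3 := (h.ti_act hu h2 hcc hcu).2 b hb hbb hby hby'
    rcases h.ia_pow hu hI hb hbb with h4 | h4
    · exact h3.1 h4
    · exact h3.2 h4
  · obtain ⟨b, b', h2, -⟩ := h1
    exact ⟨x, h.mem x hx, hn.2.1.symm, h.not_ia_of_trn hu h2⟩

/-- `[z] ≤ C_S` -/
theorem CS_of_tw [Finite G] (S : Sylow 2 G) (hz : z ∈ CS Z K S) (hu : Tw Z K z u) : u ∈ CS Z K S := by
  refine h.mem_CS_of_clique S hu.1 fun x hx => ?_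
  by_cases hxu : x = u
  · exact Or.inl hxu
  right
  by_cases hxz : x = z
  · rw [hxz] at hxu ⊢
    exact Tw.cp hz.1 hu hxu
  · exact (Tw.cp_of hu hx.1 (h.com hz.1 hx.1 S.isPGroup' hz.2 hx.2 (Ne.symm hxz)) hxu).symm

/-- `C(z)` normalises `[z]` -/
theorem tw_norm (hz : z ∈ Z) (hg : g * z = z * g) (hu : Tw Z K z u) : Tw Z K z (g * u * g⁻¹) := by
  have h1 := h.tw_conj hz hu g
  rwa [hg, mul_inv_cancel_right] at h1

end loc

section tau

variable [Finite G] (h : W Z K)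
include h

/-- **(5.1)** -/
theorem no_swap (cS : ClS Z K) (hz : z ∈ Z) (hu : u ∈ Z) (hzu : CP K z u) (R : RR K z u) (hv : v ∈ Z)
    (hzv : CP K z v) (hs : CSw K u v) : False := by
  have hD : ∀ {w : G}, CP K z w → K w ≤ centralizer (K z : Set G) := by
    intro w hw x hx
    rw [mem_centralizer_iff]
    exact fun a ha => hw.2 a ha x hx
  obtain ⟨y, hyK, hyy, hy4⟩ := h.exists_four hu
  obtain ⟨f, hf⟩ := Cit.ROne.tau_in h.hyp ⟨u, hu, rfl⟩ (h.card8 hu) (hD hzu) hyK hy4 (by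
    intro g hgD hgN
    have hgc : Cen K g z := fun k hk => (mem_centralizer_iff.1 hgD k hk).symm
    have h1 := h.ia_pow hu (R g hgc (h.comm_of_norm hu hgN)) hyK hyy
    rw [mem_normalizer_iff_cj, cj_def, MonoidHom.map_zpowers]
    have e : (MulAut.conj g).toMonoidHom y = g * y * g⁻¹ := rfl
    rw [e]
    rcases h1 with h1 | h1
    · rw [h1]
    · rw [h1, zpowers_inv])
  have hle : K u ⊔ K v ≤ centralizer (K z : Set G) := sup_le (hD hzu) (hD hzv)
  have h1 := cS u hu v hv hs (f.comp (Subgroup.inclusion hle))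
  have h2 : K u ≤ zpowers y := by
    intro x hx
    rw [← hf x hx]
    exact h1 x hx
  have h3 := Subgroup.card_le_of_le h2
  rw [h.card8 hu, Nat.card_zpowers, hy4] at h3
  omega

/-- the orbit of `K u` under `C(s)` -/
theorem orb {s : G} (an : AN Z K s) (hu : u ∈ Z) (hs : Cen K s u) :
    Cit.ROne.Orb (K '' Z) (centralizer {s}) (NC s u) {L | ∃ g ∈ centralizer ({s} : Set G), cj g (K u) = L} := by
  have e : NC s u = closure (zz '' {L | ∃ g ∈ centralizer ({s} : Set G), cj g (K u) = L}) := by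
    unfold NC
    congr 1
    ext x
    constructor
    · rintro ⟨g, hg, rfl⟩
      refine ⟨cj g (K u), ⟨g, mem_centralizer_singleton_iff.2 hg, rfl⟩, ?_⟩
      rw [h.hyp.zz_cj ⟨u, hu, rfl⟩, h.zz_K hu]
    · rintro ⟨_, ⟨g, hg, rfl⟩, rfl⟩
      refine ⟨g, mem_centralizer_singleton_iff.1 hg, ?_⟩
      rw [h.hyp.zz_cj ⟨u, hu, rfl⟩, h.zz_K hu]
  rw [e]
  refine Cit.ROne.Orb.of_orbit h.hyp ?_ ⟨u, hu, rfl⟩ ?_ ?_
  · rintro _ ⟨w, hw, rfl⟩
    exact h.two hw
  · intro x hx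
    rw [mem_centralizer_singleton_iff]
    exact (hs x hx).symm
  · rw [← e]
    exact NC_two an ⟨hu, hs⟩

/-- (2.4) -/
theorem mem_NC_or {s : G} (an : AN Z K s) (hu : u ∈ Z) (hs : Cen K s u) (hx : x ∈ Z) (hsx : Cen K s x) :
    x ∈ NC s u ∨ ∀ n ∈ NC s u, Cen K n x := by
  by_cases hxN : x ∈ NC s u
  · exact Or.inl hxN
  right
  have o := h.orb an hu hs
  have hKx : K x ≤ normalizer (NC s u : Set G) := by
    refine le_trans ?_ o.norm
    intro a ha
    rw [mem_centralizer_singleton_iff]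
    exact (hsx a ha).symm
  intro n hn k hk
  exact (h.hyp.lemma_one ⟨x, hx, rfl⟩ (h.two hx) o.pN hKx (by rw [h.zz_K hx]; exact hxN) k hk n hn).symm

/-- **(5.1)** : the C-partners of `z` commute with `u` -/
theorem comm_of_RR (cS : ClS Z K) (an : AN Z K z) (hz : z ∈ Z) (hu : u ∈ Z) (hzu : CP K z u) (R : RR K z u)
    (hx : x ∈ Z) (hzx : CP K z x) : x * u = u * x := by
  have hcen : ∀ {w}, CP K z w → Cen K z w := fun hw k hk => hw.2 z (h.mem z hz) k hk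
  have o := h.orb an hu (hcen hzu)
  have hKY : K u ∈ {L | ∃ g ∈ centralizer ({z} : Set G), cj g (K u) = L} := ⟨1, one_mem _, cj_one _⟩
  have huN : u ∈ NC z u := self_mem_NC
  rcases h.mem_NC_or an hu (hcen hzu) hx (hcen hzx) with hxN | hxN
  swap
  · exact (hxN u huN x (h.mem x hx)).symm
  by_cases hnc : ∀ x ∈ NC z u, ∀ y ∈ NC z u, x * y = y * x
  · exact hnc x hxN u huN
  · exfalso
    obtain ⟨L, hL, hne⟩ : ∃ L ∈ {L | ∃ g ∈ centralizer ({z} : Set G), cj g (K u) = L},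
        ¬ zz (K u) * zz L = zz L * zz (K u) := by
      by_contra hcon
      push Not at hcon
      exact o.zz_not_central hnc hKY (o.comm_of_zz hcon)
    obtain ⟨g, hg, rfl⟩ := hL
    rw [mem_centralizer_singleton_iff] at hg
    rw [h.hyp.zz_cj ⟨u, hu, rfl⟩, h.zz_K hu] at hne
    set x' := g * u * g⁻¹ with hx'
    have hx'Z : x' ∈ Z := h.conjZ u hu g
    have hx'N : x' ∈ NC z u := conj_mem_NC hg
    have hne' : u ≠ x' * u * x'⁻¹ := by
      intro e
      apply hne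
      calc u * x' = x' * u * x'⁻¹ * x' := by rw [← e]
        _ = x' * u := by group
    have hKne : K u ≠ cj x' (K u) := by
      intro e
      apply hne'
      have := congrArg zz e
      rwa [h.hyp.zz_cj ⟨u, hu, rfl⟩, h.zz_K hu] at this
    have hcs : CSw K u x' := by
      refine ⟨hne', ?_⟩
      rw [h.conjK u hu]
      exact o.comm_cj hnc hKY hx'N hKne
    have hzx' : CP K z x' := by
      have := h.cp_conj hz hu hzu g
      rwa [hg, mul_inv_cancel_right] at this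
    exact h.no_swap cS hz hu hzu R hx'Z hzx' hcs

/-- **(5.2)** -/
theorem CP_of_RR (cS : ClS Z K) (an : AN Z K z) (hz : z ∈ Z) (hu : u ∈ Z) (hzu : CP K z u) (R : RR K z u)
    (hx : x ∈ Z) (hzx : CP K z x) (hxu : x ≠ u) : CP K u x := by
  have hc := h.comm_of_RR cS an hz hu hzu R hx hzx
  by_contra hn
  obtain ⟨g, hg, hgu, hgn⟩ := h.out hu hx ⟨hxu.symm, hc.symm, hn⟩
  exact hgn (R g (fun k hk => (hzx.2 k hk g hg).symm) hgu)

/-- **(5.2)** : `(R)(z,u)` implies `c[z] = c[u]` -/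
theorem cl_eq_of_RR (cS : ClS Z K) (hone : OneCls Z) (an : AN Z K z) (hz : z ∈ Z) (hu : u ∈ Z) (hzu : CP K z u)
    (R : RR K z u) : cl Z K z = cl Z K u := by
  have h1 : cl Z K z ⊆ cl Z K u := by
    rintro x ⟨hx, h1 | h1⟩
    · refine ⟨hx, Or.inr ?_⟩
      rw [h1]; exact hzu.symm
    · by_cases h2 : x = u
      · exact ⟨hx, Or.inl h2⟩
      · exact ⟨hx, Or.inr (h.CP_of_RR cS an hz hu hzu R hx h1 h2)⟩
  refine Set.eq_of_subset_of_ncard_le h1 ?_ (Set.toFinite _)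
  obtain ⟨g, hg⟩ := hone z hz u hu
  have h2 : cl Z K u = (fun x => g * x * g⁻¹) '' cl Z K z := by
    rw [← hg]
    ext y
    constructor
    · intro hy
      refine ⟨g⁻¹ * y * g, ?_, by group⟩
      rw [← h.mem_cl_conj hz g]
      have e : g * (g⁻¹ * y * g) * g⁻¹ = y := by group
      rw [e]; exact hy
    · rintro ⟨x, hx, rfl⟩
      exact (h.mem_cl_conj hz g).2 hx
  rw [h2]
  exact Set.ncard_image_le (Set.toFinite _)

/-- **(5.3)** : `(R)(z,u)` implies `u ∈ [z]` -/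
theorem tw_of_RR (cS : ClS Z K) (hone : OneCls Z) (an : AN Z K z) (hz : z ∈ Z) (hu : u ∈ Z) (hzu : CP K z u)
    (R : RR K z u) : Tw Z K z u := ⟨hu, h.cl_eq_of_RR cS hone an hz hu hzu R⟩

/-- **(2.3)** : the elements of `C_N(y)` act on `K y` as inner automorphisms (`N = ⟨u ^ C(s)⟩`, `y ∈ u ^ C(s)`) -/
theorem ia_of_NC {s : G} (an : AN Z K s) (hu : u ∈ Z) (hs : Cen K s u) (hg : g * s = s * g) {n : G}
    (hn : n ∈ NC s u) (hc : n * (g * u * g⁻¹) = g * u * g⁻¹ * n) : IA K n (g * u * g⁻¹) := by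
  have o := h.orb an hu hs
  have hY : K (g * u * g⁻¹) ∈ {L | ∃ g ∈ centralizer ({s} : Set G), cj g (K u) = L} :=
    ⟨g, mem_centralizer_singleton_iff.2 hg, (h.conjK u hu g).symm⟩
  have hyZ := h.conjZ u hu g
  refine h.ia_of_mod hyZ hc fun x hx => ?_
  have h1 : n * x * n⁻¹ * x⁻¹ ∈ K (g * u * g⁻¹) := mul_mem (h.norm_mem hyZ hc hx) (inv_mem hx)
  have h2 : n * x * n⁻¹ * x⁻¹ ∈ NC s u := by
    have h3 := (mem_normalizer_iff.1 (o.normK hY hx) n⁻¹).1 (inv_mem hn)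
    have e : n * x * n⁻¹ * x⁻¹ = n * (x * n⁻¹ * x⁻¹) := by group
    rw [e]
    exact mul_mem hn h3
  rcases o.mem_inf hY h1 h2 with h3 | h3
  · exact Or.inl (mul_inv_eq_one.1 h3)
  · right
    rw [h.zz_K hyZ] at h3
    rw [mul_inv_eq_iff_eq_mul.1 h3, h.cent hyZ hx]

/-- **(5.5)** -/
theorem RR_of_swap (hu : u ∈ Z) (hv : v ∈ Z) (hs : CSw K u v) (an : AN Z K (wt u v)) (hvN : v ∈ NC (wt u v) u) :
    RR K u (v * u * v⁻¹) := by
  have hu' := h.conjZ u hu v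
  have hcu : Cen K u u := fun k hk => (h.cent hu hk).symm
  have hcu' : Cen K (v * u * v⁻¹) u := h.cen_of_cp hu' hs
  have hw : Cen K (wt u v) u := hcu.mul hcu'
  have hvw : v * wt u v = wt u v * v :=
    mem_centralizer_singleton_iff.1 (NC_le (hw u (h.mem u hu)).symm hvN)
  intro g hg hgu'
  have hgw : g * wt u v = wt u v * g := by
    have h1 := hg u (h.mem u hu)
    unfold wt
    rw [← mul_assoc, h1, mul_assoc, hgu', ← mul_assoc]
  -- `g` acts on `K u'` as `n`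
  obtain ⟨n, hn⟩ : ∃ n, n = g * v * g⁻¹ * v⁻¹ := ⟨_, rfl⟩
  have hnN : n ∈ NC (wt u v) u := by
    rw [hn]
    exact mul_mem (mem_NC_conj hgw hvN) (inv_mem hvN)
  have hact : ∀ x ∈ K (v * u * v⁻¹), g * x * g⁻¹ = n * x * n⁻¹ := by
    intro x hx
    have h1 := hg _ ((h.mem_K_conj hu v).1 hx)
    have h2 : g * (v⁻¹ * x * v) * g⁻¹ = v⁻¹ * x * v := by rw [h1, mul_inv_cancel_right]
    symm
    calc n * x * n⁻¹ = g * v * g⁻¹ * (v⁻¹ * x * v) * (g * v * g⁻¹)⁻¹ := by rw [hn]; group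
      _ = g * v * g⁻¹ * (g * (v⁻¹ * x * v) * g⁻¹) * (g * v * g⁻¹)⁻¹ := by rw [h2]
      _ = g * x * g⁻¹ := by group
  have hnc : n * (v * u * v⁻¹) = v * u * v⁻¹ * n := by
    have h1 := hact _ (h.mem _ hu')
    rw [hgu', mul_inv_cancel_right] at h1
    exact (eq_mul_inv_iff_mul_eq.1 h1).symm
  obtain ⟨l, hl, hl'⟩ := h.ia_of_NC an hu hw hvw hnN hnc
  exact ⟨l, hl, fun x hx => (hact x hx).trans (hl' x hx)⟩

/-- **(5.5)** : `u' = v u v⁻¹ ∈ [u]` for a C-swap `(u, v)` -/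
theorem tw_of_swap (cS : ClS Z K) (hone : OneCls Z) (hu : u ∈ Z) (hv : v ∈ Z) (hs : CSw K u v) (anu : AN Z K u)
    (an : AN Z K (wt u v)) (hvN : v ∈ NC (wt u v) u) : Tw Z K u (v * u * v⁻¹) :=
  h.tw_of_RR cS hone anu hu (h.conjZ u hu v) hs (h.RR_of_swap hu hv hs an hvN)

/-- AN(s) for the `s` which occur -/
theorem an_of (an : ∀ S : Sylow 2 G, ∀ s ∈ TT Z K (S : Subgroup G), s ≠ 1 → AN Z K s) (hu : u ∈ Z) : AN Z K u := by
  obtain ⟨S, hS⟩ := h.exists_sylow hu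
  exact an S u (subset_closure hS) (h.ne u hu)

theorem an_mul_of (an : ∀ S : Sylow 2 G, ∀ s ∈ TT Z K (S : Subgroup G), s ≠ 1 → AN Z K s) (hu : u ∈ Z) (hx : x ∈ Z)
    (hc : CP K u x) : AN Z K (u * x) := by
  obtain ⟨S, hS, hS'⟩ := h.exists_sylow_of_cp hu hx hc
  exact an S _ (mul_mem (subset_closure hS) (subset_closure hS')) (h.cp_mul_ne hx hc)

end tau

end W

end Cfsg.Agent.Cit.Nil.ROne
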