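import Cfsg.Agent.Cit.Nil.ROne.ClaimR
import Cfsg.Agent.Cit.Nil.ROne.ClaimB
import Cfsg.Agent.Cit.Nil.ROne.TwinA

/-!
# (6b), `r = 1`, core-free: CLAIM S (helper194)

`cl_s : W Z K → ANT Z K → ClS Z K`.
-/

set_option autoImplicit false
set_option linter.style.haveILetI false
set_option linter.unusedSectionVars false

namespace Cfsg.Agent.Cit.Nil.ROne

open Subgroup Cfsg Cit

variable {G : Type*} [Group G]

namespace W

variable [Finite G] {Z : Set G} {K : G → Subgroup G} (h : W Z K)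

include h


/-- **CLAIM S** -/
theorem cl_s (ha : ANT Z K) : ClS Z K := by
  intro u hu v hv hs f x hx
  by_cases hA : ∃ l ∈ K v, l * l = v ∧ ∀ k ∈ K u, k * k = u → Bz u k l
  · obtain ⟨l, hl, hll, hall⟩ := hA
    exact h.claim_a ha hu hv hs hl hll hall f hx
  · push Not at hA
    obtain ⟨d, hd, hdu, hm⟩ := h.exists_rot ha hu hv hs hA
    exact h.f_one_of_rot hu le_sup_left f hd hdu hm hx

end W

end Cfsg.Agent.Cit.Nil.ROne
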