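import Cfsg.Agent.Cit.Nil.ROne.Triple
import Cfsg.Agent.Cit.Nil.ROne.Base
import Cfsg.Agent.Cit.Nil.ROne.ClTwo

/-!
# `r = 1`, (6.2), (6.3): the T-triple lemma for `W Z K`

* `W.ttriple` : `(y₁, y₂)` a C-pair, `x` an N-partner of both: `[y₁ y₂, K x] = 1` (no `AN`);
* `W.tt_act` : (2.3) `x ∈ NC s y`, `x y = y x`: `x` acts on `K y` as an inner automorphism;
* `W.ttriple_ti` : in the situation of `ttriple`, `AN(y₁ y₂)`: `(x, y₁)` and `(x, y₂)` are of type I;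
* `W.no_linked` : (6.3) a TS-pair has no linked C-partners.
-/

set_option autoImplicit false
set_option linter.style.haveILetI false
set_option linter.unusedSectionVars false

namespace Cfsg.Agent.Cit.Nil.ROne

open Subgroup Cfsg Cit

variable {G : Type*} [Group G] [Finite G] {Z : Set G} {K : G → Subgroup G} {x y y₁ y₂ z u g k n s : G}

namespace W

/-- **(6.2)**: T-TRIPLE, same action -/
theorem ttriple (h : W Z K) (hx : x ∈ Z) (h₁ : y₁ ∈ Z) (h₂ : y₂ ∈ Z) (hC : CP K y₁ y₂) (n₁ : NP K x y₁)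
    (n₂ : NP K x y₂) : Cen K (y₁ * y₂) x := by
  have inj : ∀ L ∈ K '' Z, ∀ M ∈ K '' Z, zz L = zz M → L = M := by
    rintro _ ⟨z, hz, rfl⟩ _ ⟨u, hu, rfl⟩ h1
    rw [h.zz_K hz, h.zz_K hu] at h1
    rw [h1]
  have card : ∀ L ∈ K '' Z, Nat.card L = 8 := by
    rintro _ ⟨z, hz, rfl⟩
    exact h.card8 hz
  have key := Cit.ROne.triple_aux h.hyp inj card ⟨x, hx, rfl⟩ ⟨y₁, h₁, rfl⟩ ⟨y₂, h₂, rfl⟩
    (fun he => hC.1 (h.K_inj h₁ h₂ he)) (by rw [h.zz_K h₂]; exact h.cen_of_cp h₂ hC)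
    (by rw [h.zz_K hx, h.zz_K h₁, n₁.2.1]) (by rw [h.zz_K hx, h.zz_K h₂, n₂.2.1])
    (by rw [h.zz_K h₁]; exact fun hh => n₁.2.2 (h.csymm hx h₁ n₁.1 hh))
    (by rw [h.zz_K h₂]; exact fun hh => n₂.2.2 (h.csymm hx h₂ n₂.1 hh))
  rwa [h.zz_K h₁, h.zz_K h₂] at key

/-- **(2.3)** -/
theorem tt_act (h : W Z K) (an : AN Z K s) (hy : y ∈ ZC Z K s) (hn : n ∈ NC s y) (hc : n * y = y * n)
    (hk : k ∈ K y) : n * k * n⁻¹ = k ∨ n * k * n⁻¹ = y * k := by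
  have hS : (zz '' {L | ∃ g ∈ centralizer {s}, cj g (K y) = L}) = {t | ∃ g, g * s = s * g ∧ t = g * y * g⁻¹} := by
    ext t
    constructor
    · rintro ⟨_, ⟨g, hg, rfl⟩, rfl⟩
      refine ⟨g, mem_centralizer_singleton_iff.1 hg, ?_⟩
      rw [h.hyp.zz_cj ⟨y, hy.1, rfl⟩, h.zz_K hy.1]
    · rintro ⟨g, hg, rfl⟩
      refine ⟨_, ⟨g, mem_centralizer_singleton_iff.2 hg, rfl⟩, ?_⟩
      rw [h.hyp.zz_cj ⟨y, hy.1, rfl⟩, h.zz_K hy.1]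
  have h2 : ∀ L ∈ K '' Z, IsPGroup 2 L := by
    rintro _ ⟨z, hz, rfl⟩
    exact h.two hz
  have o := Cit.ROne.Orb.of_orbit h.hyp h2 (K := K y) ⟨y, hy.1, rfl⟩ (H := centralizer {s})
    (fun a ha => mem_centralizer_singleton_iff.2 (hy.2 a ha).symm) (by rw [hS]; exact NC_two an hy)
  have hKY : K y ∈ {L | ∃ g ∈ centralizer {s}, cj g (K y) = L} := ⟨1, one_mem _, by rw [cj_one]⟩
  have h1 : n * k * n⁻¹ * k⁻¹ ∈ K y := mul_mem (h.norm_mem hy.1 hc hk) (inv_mem hk)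
  have hN := o.normK hKY
  rw [hS] at hN
  have h2 : n * k * n⁻¹ * k⁻¹ ∈ NC s y := by
    have h3 : n * k * n⁻¹ * k⁻¹ = n * (k * n⁻¹ * k⁻¹) := by group
    rw [h3]
    exact mul_mem hn ((mem_normalizer_iff.1 (hN hk) _).1 (inv_mem hn))
  rcases o.mem_inf hKY h1 (by rw [hS]; exact h2) with h3 | h3
  · left
    rwa [mul_inv_eq_one] at h3
  · right
    rw [h.zz_K hy.1, mul_inv_eq_iff_eq_mul] at h3
    exact h3

/-- (2.3): no TS-pair `(x, y)` with `x ∈ NC s y` -/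
theorem not_ts_of_NC (h : W Z K) (an : AN Z K s) (hy : y ∈ ZC Z K s) (hn : n ∈ NC s y) (hc : n * y = y * n) :
    ¬ TS K n y := by
  rintro ⟨b, b', -, ht⟩
  obtain ⟨c, hcK, hcc, h1, h2, -, -⟩ := h.exists_inv hy.1 ht.mem ht.sq
  obtain ⟨h3, h4⟩ := ht.ne c hcK hcc h1 h2
  rcases h.tt_act an hy hn hc hcK with h5 | h5
  · exact h3 h5
  · apply h4
    rw [h5, eq_inv_iff_mul_eq_one, mul_assoc, hcc, h.sq y hy.1]

/-- the product of a C-pair -/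
theorem mem_ZC_of_cp (h : W Z K) (h₁ : y₁ ∈ Z) (h₂ : y₂ ∈ Z) (hC : CP K y₁ y₂) : y₁ ∈ ZC Z K (y₁ * y₂) := by
  refine ⟨h₁, fun k hk => ?_⟩
  have h3 := h.cent h₁ hk
  have h4 := hC.2 k hk y₂ (h.mem y₂ h₂)
  calc y₁ * y₂ * k = y₁ * (k * y₂) := by rw [h4]; group
    _ = k * y₁ * y₂ := by rw [← mul_assoc, h3]
    _ = k * (y₁ * y₂) := by group

/-- **(6.2)**, second part, for `y₁` -/
theorem ttriple_ti_left (h : W Z K) (hx : x ∈ Z) (h₁ : y₁ ∈ Z) (h₂ : y₂ ∈ Z) (hC : CP K y₁ y₂) (n₁ : NP K x y₁)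
    (n₂ : NP K x y₂) (an : AN Z K (y₁ * y₂)) : TI K x y₁ := by
  have hcen := h.ttriple hx h₁ h₂ hC n₁ n₂
  refine (h.np_cases hx h₁ n₁).resolve_right ?_
  refine h.not_ts_of_NC an (h.mem_ZC_of_cp h₁ h₂ hC) ?_ n₁.2.1
  obtain ⟨c, hc, -, -, h3, -⟩ := h.flip hx h₁ n₁
  have h4 : c * y₁ * c⁻¹ ∈ NC (y₁ * y₂) y₁ := conj_mem_NC (hcen c hc).symm
  rw [h3] at h4
  have h6 : x = (x * y₁) * y₁⁻¹ := by group
  rw [h6]
  exact mul_mem h4 (inv_mem self_mem_NC)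

/-- **(6.2)**, second part -/
theorem ttriple_ti (h : W Z K) (hx : x ∈ Z) (h₁ : y₁ ∈ Z) (h₂ : y₂ ∈ Z) (hC : CP K y₁ y₂) (n₁ : NP K x y₁)
    (n₂ : NP K x y₂) (an : AN Z K (y₁ * y₂)) : TI K x y₁ ∧ TI K x y₂ := by
  refine ⟨h.ttriple_ti_left hx h₁ h₂ hC n₁ n₂ an, h.ttriple_ti_left hx h₂ h₁ hC.symm n₂ n₁ ?_⟩
  rwa [← h.comm_of_cp h₁ h₂ hC]

/-- **(6.3)** : a TS-pair `(z, x)` has no linked C-partner -/
theorem no_linked (h : W Z K) (hx : x ∈ Z) (hz : z ∈ Z) (hu : u ∈ Z) (ts : TS K z x) (hxz : x * z = z * x)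
    (hC : CP K z u) (an : AN Z K (z * u)) : ¬ NP K x u := by
  intro hn
  have hne : x ≠ z := by
    rintro rfl
    obtain ⟨b, b', h1, -⟩ := ts
    exact h.not_cen_of_trn hx h1 fun k hk => (h.cent hx hk).symm
  have n₁ : NP K x z := ⟨hne, hxz, fun hc => h.ts_not_cp hz hx ts hc.symm⟩
  exact h.ti_not_ts hx (h.ttriple_ti_left hx hz hu hC n₁ hn an) ts.symm

/-- `y₁`, `y₂` act on `K x` as the same inner automorphism -/
theorem ttriple_inn (h : W Z K) (hx : x ∈ Z) (h₁ : y₁ ∈ Z) (h₂ : y₂ ∈ Z) (hC : CP K y₁ y₂) (n₁ : NP K x y₁)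
    (n₂ : NP K x y₂) {a : G} (hi : Inn K y₁ x a) : Inn K y₂ x a := by
  refine ⟨hi.mem, hi.sq, fun k hk => ?_⟩
  have hcen := h.ttriple hx h₁ h₂ hC n₁ n₂
  have h3 := h.norm_mem hx n₂.2.1.symm hk
  have h4 := hi.act k hk
  -- `y₁ y₂ k' = k' y₁ y₂` for `k' = y₂ k y₂⁻¹`
  have h5 := hcen k hk
  have h6 : y₁ * y₂ * k * (y₁ * y₂)⁻¹ = k := by rw [h5, mul_inv_cancel_right]
  have h7 : y₁ * (y₂ * k * y₂⁻¹) * y₁⁻¹ = k := by
    refine Eq.trans ?_ h6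
    group
  have h8 : y₂ * k * y₂⁻¹ = y₁⁻¹ * k * y₁ := by
    calc y₂ * k * y₂⁻¹ = y₁⁻¹ * (y₁ * (y₂ * k * y₂⁻¹) * y₁⁻¹) * y₁ := by group
      _ = y₁⁻¹ * k * y₁ := by rw [h7]
  rw [h8, ← h4, h.inv h₁]

end W

end Cfsg.Agent.Cit.Nil.ROne
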