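import Cfsg.Agent.Cit.Nil.ROne.Base
import Cfsg.Agent.Cit.Nil.ROne.ClTwoW
import Cfsg.Agent.Cit.Nil.ROne.TTriple

/-!
# `r = 1`, section 7 of `blueprints/R18-6b-r1-helper545.md` (helper417): `κ = 1`, no linked pairs

* `Ts Z K s` : `s ≠ 1` is a product of elements of a clique; `Ts.exists_sylow` : then `s ∈ T_S` for some `S`;
* `Same K g g' z` : `g`, `g'` act in the same way on `K z`;
* `KIn Z K` : the inputs: (C3), T-TRIPLE, (Λ0), `¬ (R)(z,u)` for C-pairs; `KIn.of` : from `AN` on the `T_S`, no C-swaps;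
* `KIn.same_of_linked` : two N-partners of both elements of a C-pair `(u, e)` act in the same way on `K e` [(7.1) - (7.4)];
* `KIn.no_linked` : **(NL)** : no `x` is an N-partner of both elements of a C-pair.
-/

set_option autoImplicit false
set_option linter.style.haveILetI false
set_option linter.unusedSectionVars false

namespace Cfsg.Agent.Cit.Nil.ROne

open Subgroup Cfsg Cit QuaternionGroup

namespace QEight

set_option maxRecDepth 100000 in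
theorem k7_axes_aux : ∀ p q : Q, Ok p q → ∀ y : Q, y * y = a 2 → (F p q y = y ∨ F p q y = y⁻¹) →
    ∀ y' : Q, y' * y' = a 2 → y' ≠ y → y' ≠ y⁻¹ → (F p q y' = y' ∨ F p q y' = y'⁻¹) →
      ∃ t : Q, ∀ k, F p q k = t * k * t⁻¹ := by
  decide

/-- an automorphism fixing two axes is inner -/
theorem k7_axes (α : MulAut Q) {y y' : Q} (hy : y * y = a 2) (h1 : α y = y ∨ α y = y⁻¹) (hy' : y' * y' = a 2)
    (hne : y' ≠ y) (hne' : y' ≠ y⁻¹) (h2 : α y' = y' ∨ α y' = y'⁻¹) : ∃ t : Q, ∀ k, α k = t * k * t⁻¹ := by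
  have h3 := k7_axes_aux _ _ (aut_ok α) y hy
  rw [← funF α] at h3
  exact h3 h1 y' hy' hne hne' h2

theorem k7_comm_aux : ∀ y y' : Q, y * y = a 2 → y' * y' = a 2 → y * y' = y' * y → y' = y ∨ y' = y⁻¹ := by decide

theorem k7_third_sq : ∀ y y' : Q, y * y = a 2 → y' * y' = a 2 → y' ≠ y → y' ≠ y⁻¹ → y * y' * (y * y') = a 2 := by
  decide

set_option maxRecDepth 100000 in
theorem k7_third_aux : ∀ y y' : Q, y * y = a 2 → y' * y' = a 2 → y' ≠ y → y' ≠ y⁻¹ →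
    ∀ p, (p = y ∨ p = y⁻¹) → ∀ q, (q = y' ∨ q = y'⁻¹) →
      (p * q = y * y' ∨ p * q = (y * y')⁻¹) ∧ (q * p = y * y' ∨ q * p = (y * y')⁻¹) := by
  decide

end QEight

variable {G : Type*} [Group G]

/-- `s ≠ 1` is a product of elements of a clique -/
def Ts (Z : Set G) (K : G → Subgroup G) (s : G) : Prop :=
  s ≠ 1 ∧ ∃ A : Set G, A ⊆ Z ∧ (∀ u ∈ A, ∀ v ∈ A, u ≠ v → CP K u v) ∧ s ∈ closure A

/-- `g` induces an inner automorphism on `K z` -/
def K7Inner (K : G → Subgroup G) (g z : G) : Prop := ∃ t ∈ K z, ∀ k ∈ K z, g * k * g⁻¹ = t * k * t⁻¹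

/-- `g`, `g'` act in the same way on `K z` -/
def Same (K : G → Subgroup G) (g g' z : G) : Prop := ∀ k ∈ K z, g * k * g⁻¹ = g' * k * g'⁻¹

/-- the facts used in section 7 -/
structure KIn (Z : Set G) (K : G → Subgroup G) : Prop where
  w : W Z K
  c3 : C3 Z K
  /-- T-TRIPLE -/
  tri : ∀ y₁ ∈ Z, ∀ y₂ ∈ Z, ∀ x ∈ Z, CP K y₁ y₂ → NP K x y₁ → NP K x y₂ →
    Cen K (y₁ * y₂) x ∧ TI K x y₁ ∧ TI K x y₂
  /-- (Λ0) -/
  lam : ∀ s, Ts Z K s → ∀ x ∈ Z, ∀ y ∈ Z, Cen K s x → Cen K s y → x * y = y * x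
  /-- `κ = 1` -/
  kap : ∀ z ∈ Z, ∀ u ∈ Z, CP K z u →
    ∃ g, Cen K g z ∧ g * u = u * g ∧ ¬ ∃ t ∈ K u, ∀ k ∈ K u, g * k * g⁻¹ = t * k * t⁻¹

variable {Z : Set G} {K : G → Subgroup G} {z u v e g x y k t s : G}

/-! ### Tools -/

theorem Same.symm (h : Same K x y z) : Same K y x z := fun k hk => (h k hk).symm

theorem Same.trans {x' : G} (h : Same K x y z) (h' : Same K y x' z) : Same K x x' z := fun k hk =>
  (h k hk).trans (h' k hk)

theorem Same.cen (h : Same K x y z) (hx : Cen K x z) : Cen K y z := by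
  intro k hk
  have h1 := h k hk
  rw [hx k hk, mul_inv_cancel_right] at h1
  rw [eq_mul_inv_iff_mul_eq] at h1
  exact h1.symm

theorem same_of_cen (hx : Cen K x z) (hy : Cen K y z) : Same K x y z := by
  intro k hk
  rw [hx k hk, hy k hk, mul_inv_cancel_right, mul_inv_cancel_right]

/-- `x y` acts trivially: `x`, `y` act in the same way (`y² = 1`) -/
theorem same_of_mul (hyy : y * y = 1) (hy : ∀ k ∈ K z, y * k * y⁻¹ ∈ K z) (hc : Cen K (x * y) z) : Same K x y z := by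
  intro k hk
  have hyi : y⁻¹ = y := inv_eq_of_mul_eq_one_right hyy
  have h1 := hc _ (hy k hk)
  have h2 : y * (y * k * y⁻¹) = k * y⁻¹ := by rw [← mul_assoc, ← mul_assoc, hyy, one_mul]
  have h3 : x * y * (y * k * y⁻¹) = x * k * y⁻¹ := by rw [mul_assoc, h2, ← mul_assoc]
  rw [h3] at h1
  rw [hyi] at h1 ⊢
  -- `x k y = y k y x y`
  have h4 : x * k = y * k * y * x := by
    have h5 : x * k * y * y = y * k * y * (x * y) * y := by rw [h1]
    rw [mul_assoc, hyy, mul_one] at h5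
    rw [h5, mul_assoc _ (x * y) y, mul_assoc x y y, hyy, mul_one]
  rw [h4, mul_inv_cancel_right]

theorem Same.mul (hyy : y * y = 1) (h : Same K x y z) (hy : ∀ k ∈ K z, y * k * y⁻¹ ∈ K z) : Cen K (x * y) z := by
  intro k hk
  have h1 := h _ (hy k hk)
  have hyi : y⁻¹ = y := inv_eq_of_mul_eq_one_right hyy
  have h2 : y * (y * k * y⁻¹) * y⁻¹ = k := by
    calc y * (y * k * y⁻¹) * y⁻¹ = (y * y) * k * (y * y)⁻¹ := by group
      _ = k := by rw [hyy]; group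
  rw [h2, mul_inv_eq_iff_eq_mul] at h1
  calc x * y * k = x * (y * k * y⁻¹) * y := by group
    _ = k * x * y := by rw [h1]
    _ = k * (x * y) := by group

theorem Inn.same (h1 : Inn K x z k) (h2 : Same K x y z) : Inn K y z k :=
  ⟨h1.mem, h1.sq, fun t ht => (h2 t ht).symm.trans (h1.act t ht)⟩

theorem Inn.same_of (h1 : Inn K x z k) (h2 : Inn K y z k) : Same K x y z := fun t ht =>
  (h1.act t ht).trans (h2.act t ht).symm

namespace W

variable (h : W Z K)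

include h

theorem k7_cen_self (hz : z ∈ Z) : Cen K z z := fun _ hk => (h.cent hz hk).symm

theorem k7_cen_conj (hz : z ∈ Z) (hc : Cen K s z) (hg : g * s = s * g) : Cen K s (g * z * g⁻¹) := by
  have h1 := h.cen_conj hz g hc
  rwa [hg, mul_inv_cancel_right] at h1

/-- elements of `K z` with square `z` which commute -/
theorem k7_axis (hz : z ∈ Z) (hx : x ∈ K z) (hxx : x * x = z) (hy : y ∈ K z) (hyy : y * y = z)
    (hc : x * y = y * x) : y = x ∨ y = x⁻¹ := by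
  have e2 : ∀ {t : G} (ht : t ∈ K z), t * t = z → h.e hz ⟨t, ht⟩ * h.e hz ⟨t, ht⟩ = a 2 := by
    intro t ht htt
    rw [← h.e_mul hz ht ht, ← h.e_z hz]
    congr 1
    exact Subtype.ext htt
  rcases QEight.k7_comm_aux _ _ (e2 hx hxx) (e2 hy hyy) (by
    rw [← h.e_mul hz hx hy, ← h.e_mul hz hy hx]
    congr 1
    exact Subtype.ext hc) with h1 | h1
  · exact Or.inl (h.e_inj hz _ _ h1)
  · rw [← h.e_inv hz hx] at h1
    exact Or.inr (h.e_inj hz _ _ h1)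

theorem k7_inn_axis (hz : z ∈ Z) {k₁ k₂ : G} (h1 : Inn K x z k₁) (h2 : Inn K x z k₂) : k₂ = k₁ ∨ k₂ = k₁⁻¹ := by
  refine h.k7_axis hz h1.mem h1.sq h2.mem h2.sq ?_
  have h3 := (h1.act k₂ h2.mem).symm.trans (h2.act k₂ h2.mem)
  rw [mul_inv_cancel_right, mul_inv_eq_iff_eq_mul] at h3
  exact h3

theorem k7_inn_inv (hz : z ∈ Z) (i : Inn K x z k) : Inn K x z k⁻¹ where
  mem := inv_mem i.mem
  sq := by rw [← mul_inv_rev, i.sq, h.inv hz]
  act := by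
    intro t ht
    have h1 : k⁻¹ = k * z := by
      rw [inv_eq_iff_mul_eq_one, ← mul_assoc, i.sq, h.sq z hz]
    have h2 := h.cent hz ht
    have h3 := h.cent hz i.mem
    have h4 : k⁻¹ * t * k⁻¹⁻¹ = k * z * t * (k * z)⁻¹ := by rw [← h1]
    rw [i.act t ht, h4]
    calc k * t * k⁻¹ = k * (t * z) * z⁻¹ * k⁻¹ := by group
      _ = k * z * t * (k * z)⁻¹ := by rw [h2]; group

/-- an element fixing two axes of `K z` is inner -/
theorem k7_inner (hz : z ∈ Z) (hg : g * z = z * g) (hx : x ∈ K z) (hxx : x * x = z) (hy : y ∈ K z)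
    (hyy : y * y = z) (hne : y ≠ x) (hne' : y ≠ x⁻¹) (h1 : g * x * g⁻¹ = x ∨ g * x * g⁻¹ = x⁻¹)
    (h2 : g * y * g⁻¹ = y ∨ g * y * g⁻¹ = y⁻¹) : K7Inner K g z := by
  have e2 : ∀ {t : G} (ht : t ∈ K z), t * t = z → h.e hz ⟨t, ht⟩ * h.e hz ⟨t, ht⟩ = a 2 := by
    intro t ht htt
    rw [← h.e_mul hz ht ht, ← h.e_z hz]
    congr 1
    exact Subtype.ext htt
  have ea : ∀ {t : G} (ht : t ∈ K z), (g * t * g⁻¹ = t ∨ g * t * g⁻¹ = t⁻¹) →
      h.rho hz g hg (h.e hz ⟨t, ht⟩) = h.e hz ⟨t, ht⟩ ∨ h.rho hz g hg (h.e hz ⟨t, ht⟩) = (h.e hz ⟨t, ht⟩)⁻¹ := by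
    intro t ht h3
    rw [h.rho_e hz hg ht, ← h.e_inv hz ht]
    rcases h3 with h3 | h3
    · left; congr 1; exact Subtype.ext h3
    · right; congr 1; exact Subtype.ext h3
  obtain ⟨t, ht⟩ := QEight.k7_axes (h.rho hz g hg) (e2 hx hxx) (ea hx h1) (e2 hy hyy)
    (fun h3 => hne (h.e_inj hz _ _ h3)) (fun h3 => hne' (by
      rw [← h.e_inv hz hx] at h3
      exact h.e_inj hz _ _ h3)) (ea hy h2)
  obtain ⟨t', ht', rfl⟩ := h.exists_e hz t
  refine ⟨t', ht', fun k hk => ?_⟩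
  have h3 := ht (h.e hz ⟨k, hk⟩)
  rw [h.rho_e hz hg hk, ← h.e_inv hz ht', ← h.e_mul hz ht' hk, ← h.e_mul hz (mul_mem ht' hk) (inv_mem ht')] at h3
  exact h.e_inj hz _ _ h3

theorem k7_third_sq (hz : z ∈ Z) (hx : x ∈ K z) (hxx : x * x = z) (hy : y ∈ K z)
    (hyy : y * y = z) (hne : y ≠ x) (hne' : y ≠ x⁻¹) : x * y * (x * y) = z := by
  have e2 : ∀ {t : G} (ht : t ∈ K z), t * t = z → h.e hz ⟨t, ht⟩ * h.e hz ⟨t, ht⟩ = a 2 := by
    intro t ht htt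
    rw [← h.e_mul hz ht ht, ← h.e_z hz]
    congr 1
    exact Subtype.ext htt
  have h1 := QEight.k7_third_sq _ _ (e2 hx hxx) (e2 hy hyy)
    (fun h3 => hne (h.e_inj hz _ _ h3)) (fun h3 => hne' (by
      rw [← h.e_inv hz hx] at h3
      exact h.e_inj hz _ _ h3))
  rw [← h.e_mul hz hx hy, ← h.e_mul hz (mul_mem hx hy) (mul_mem hx hy), ← h.e_z hz] at h1
  exact h.e_inj hz _ _ h1

theorem k7_third (hz : z ∈ Z) (hx : x ∈ K z) (hxx : x * x = z) (hy : y ∈ K z)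
    (hyy : y * y = z) (hne : y ≠ x) (hne' : y ≠ x⁻¹) {p q : G} (hp : p = x ∨ p = x⁻¹) (hq : q = y ∨ q = y⁻¹) :
    (p * q = x * y ∨ p * q = (x * y)⁻¹) ∧ (q * p = x * y ∨ q * p = (x * y)⁻¹) := by
  have e2 : ∀ {t : G} (ht : t ∈ K z), t * t = z → h.e hz ⟨t, ht⟩ * h.e hz ⟨t, ht⟩ = a 2 := by
    intro t ht htt
    rw [← h.e_mul hz ht ht, ← h.e_z hz]
    congr 1
    exact Subtype.ext htt
  have hpK : p ∈ K z := by
    rcases hp with rfl | rfl
    exacts [hx, inv_mem hx]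
  have hqK : q ∈ K z := by
    rcases hq with rfl | rfl
    exacts [hy, inv_mem hy]
  have h1 := QEight.k7_third_aux _ _ (e2 hx hxx) (e2 hy hyy)
    (fun h3 => hne (h.e_inj hz _ _ h3)) (fun h3 => hne' (by
      rw [← h.e_inv hz hx] at h3
      exact h.e_inj hz _ _ h3)) (h.e hz ⟨p, hpK⟩) (by
      rw [← h.e_inv hz hx]
      rcases hp with hp | hp
      · left; congr 1; exact Subtype.ext hp
      · right; congr 1; exact Subtype.ext hp) (h.e hz ⟨q, hqK⟩) (by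
      rw [← h.e_inv hz hy]
      rcases hq with hq | hq
      · left; congr 1; exact Subtype.ext hq
      · right; congr 1; exact Subtype.ext hq)
  rw [← h.e_mul hz hx hy, ← h.e_mul hz hpK hqK, ← h.e_mul hz hqK hpK, ← h.e_inv hz (mul_mem hx hy)] at h1
  exact ⟨h1.1.imp (fun h3 => h.e_inj hz _ _ h3) (fun h3 => h.e_inj hz _ _ h3),
    h1.2.imp (fun h3 => h.e_inj hz _ _ h3) (fun h3 => h.e_inj hz _ _ h3)⟩

end W

/-! ### Products of elements of a clique -/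

theorem ts_of (A : Set G) (hA : A ⊆ Z) (hc : ∀ u ∈ A, ∀ v ∈ A, u ≠ v → CP K u v) (hs : s ∈ closure A) (h1 : s ≠ 1) :
    Ts Z K s := ⟨h1, A, hA, hc, hs⟩

theorem ts_one (hu : u ∈ Z) (h1 : u ≠ 1) : Ts Z K u := by
  refine ts_of {u} (Set.singleton_subset_iff.2 hu) ?_ (subset_closure rfl) h1
  rintro a rfl b rfl hne
  exact absurd rfl hne

theorem ts_two (hu : u ∈ Z) (hv : v ∈ Z) (c : CP K u v) (h1 : u * v ≠ 1) : Ts Z K (u * v) := by
  refine ts_of {u, v} ?_ ?_ (mul_mem (subset_closure (Or.inl rfl)) (subset_closure (Or.inr rfl))) h1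
  · rintro a (rfl | rfl)
    exacts [hu, hv]
  · rintro a (rfl | rfl) b (rfl | rfl) hne
    exacts [absurd rfl hne, c, c.symm, absurd rfl hne]

theorem ts_three {w : G} (hu : u ∈ Z) (hv : v ∈ Z) (hw : w ∈ Z) (c : CP K u v) (c' : CP K v w) (c'' : CP K u w)
    (h1 : u * v * w ≠ 1) : Ts Z K (u * v * w) := by
  refine ts_of {u, v, w} ?_ ?_ (mul_mem (mul_mem (subset_closure (Or.inl rfl)) (subset_closure (Or.inr (Or.inl rfl))))
    (subset_closure (Or.inr (Or.inr rfl)))) h1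
  · rintro a (rfl | rfl | rfl)
    exacts [hu, hv, hw]
  · rintro a (rfl | rfl | rfl) b (rfl | rfl | rfl) hne
    exacts [absurd rfl hne, c, c'', c.symm, absurd rfl hne, c', c''.symm, c'.symm, absurd rfl hne]

/-- a product of elements of a clique lies in some `T_S` -/
theorem Ts.exists_sylow [Finite G] (h : W Z K) (ts : Ts Z K s) : ∃ S : Sylow 2 G, s ∈ TT Z K (S : Subgroup G) := by
  classical
  obtain ⟨-, A, hA, hc, hs⟩ := ts
  have hfin : A.Finite := Set.toFinite _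
  have h1 := h.isPGroup_clique hfin.toFinset (fun z hz => hA (hfin.mem_toFinset.1 hz))
    (fun z hz u hu hne => hc z (hfin.mem_toFinset.1 hz) u (hfin.mem_toFinset.1 hu) hne)
  obtain ⟨S, hS⟩ := h1.exists_le_sylow
  refine ⟨S, ?_⟩
  refine closure_mono ?_ hs
  intro z hz
  exact ⟨hA hz, (le_iSup₂ (f := fun z (_ : z ∈ hfin.toFinset) => K z) z (hfin.mem_toFinset.2 hz)).trans hS⟩

/-- the inputs of this section from `AN`, the absence of C-swaps, and `κ = 1` -/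
theorem KIn.of [Finite G] (h : W Z K) (c3 : C3 Z K)
    (an : ∀ S : Sylow 2 G, ∀ s ∈ TT Z K (S : Subgroup G), s ≠ 1 → AN Z K s)
    (ns : ∀ a ∈ Z, ∀ b ∈ Z, ¬ CSw K a b)
    (kap : ∀ z ∈ Z, ∀ u ∈ Z, CP K z u →
      ∃ g, Cen K g z ∧ g * u = u * g ∧ ¬ ∃ t ∈ K u, ∀ k ∈ K u, g * k * g⁻¹ = t * k * t⁻¹) : KIn Z K := by
  have an' : ∀ s, Ts Z K s → AN Z K s := fun s ts => by
    obtain ⟨S, hS⟩ := ts.exists_sylow h
    exact an S s hS ts.1
  refine ⟨h, c3, ?_, ?_, kap⟩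
  · intro y₁ h₁ y₂ h₂ x hx c n₁ n₂
    refine ⟨h.ttriple hx h₁ h₂ c n₁ n₂, h.ttriple_ti hx h₁ h₂ c n₁ n₂ (an' _ (ts_two h₁ h₂ c ?_))⟩
    intro h1
    apply c.1
    rw [← h.inv h₂]
    exact eq_inv_of_mul_eq_one_left h1
  · intro s ts x hx y hy hsx hsy
    rcases h.nc_in_or (an' s ts) ⟨hx, hsx⟩ ⟨hy, hsy⟩ with h1 | h1
    · exact (S2.mk h (an' s ts) ⟨hx, hsx⟩).comm_of_no_csw (fun v hv => ns x hx v hv) x self_mem_NC y h1
    · exact h1 x self_mem_NC y (h.mem y hy)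

/-! ### Linked triples -/

/-- `(u, e; x)` is a linked triple, `x` acts on `K e` as `k` -/
structure Lk (Z : Set G) (K : G → Subgroup G) (u e x k : G) : Prop where
  hu : u ∈ Z
  he : e ∈ Z
  hx : x ∈ Z
  c : CP K u e
  nu : NP K x u
  ne : NP K x e
  inn : Inn K x e k

namespace KIn

variable (h : KIn Z K)

include h

theorem triple (y₁ : G) (h₁ : y₁ ∈ Z) (y₂ : G) (h₂ : y₂ ∈ Z) (x : G) (hx : x ∈ Z) (c : CP K y₁ y₂) (n₁ : NP K x y₁)
    (n₂ : NP K x y₂) : Cen K (y₁ * y₂) x ∧ (∃ k, Inn K x y₁ k) ∧ ∃ k, Inn K x y₂ k := by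
  obtain ⟨h1, ⟨-, k₁, -, i₁⟩, -, k₂, -, i₂⟩ := h.tri y₁ h₁ y₂ h₂ x hx c n₁ n₂
  exact ⟨h1, ⟨k₁, i₁⟩, k₂, i₂⟩

theorem flip (z : G) (hz : z ∈ Z) (u : G) (hu : u ∈ Z) (n : NP K z u) : ∃ a ∈ K z, a * u * a⁻¹ = u * z := by
  obtain ⟨c, hc, -, -, h1, -⟩ := h.w.flip hz hu n
  exact ⟨c, hc, by rw [h1, n.2.1]⟩

theorem ne_one_of_cp (_hu : u ∈ Z) (he : e ∈ Z) (c : CP K u e) : u * e ≠ 1 := by
  intro h1
  apply c.1
  rw [← h.w.inv he]
  exact eq_inv_of_mul_eq_one_left h1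

theorem cen_of_cp (hu : u ∈ Z) (c : CP K u e) : Cen K u e := fun k hk => c.2 u (h.w.mem u hu) k hk

theorem cen_of_cp' (he : e ∈ Z) (c : CP K u e) : Cen K e u := h.cen_of_cp he c.symm

/-- `s = u e` centralises `K u` -/
theorem cen_mul_left (hu : u ∈ Z) (he : e ∈ Z) (c : CP K u e) : Cen K (u * e) u :=
  (h.w.k7_cen_self hu).mul (h.cen_of_cp' he c)

theorem cen_mul_right (hu : u ∈ Z) (he : e ∈ Z) (c : CP K u e) : Cen K (u * e) e :=
  (h.cen_of_cp hu c).mul (h.w.k7_cen_self he)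

/-- `u`, `y` commute, `y` does not centralise `K u`: an N-pair -/
theorem np_of (hu : u ∈ Z) (hy : y ∈ Z) (hc : u * y = y * u) (hn : ¬ Cen K y u) : NP K u y := by
  refine ⟨fun h1 => hn ?_, hc, fun c => hn (h.cen_of_cp' hy c)⟩
  rw [← h1]
  exact h.w.k7_cen_self hu

theorem cen_symm (hu : u ∈ Z) (hy : y ∈ Z) (hc : Cen K y u) : Cen K u y := by
  by_cases h1 : u = y
  · rw [h1]
    exact h.w.k7_cen_self hy
  · exact h.cen_of_cp hu (h.w.csymm hu hy h1 hc)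

/-- (7.1) -/
theorem cen_iff (hu : u ∈ Z) (he : e ∈ Z) (_c : CP K u e) (hy : y ∈ Z) (hs : Cen K (u * e) y) (hyu : Cen K y u) :
    Cen K y e := by
  have h1 := h.cen_symm hu hy hyu
  refine h.cen_symm hy he ?_
  have h2 := h1.mul hs
  rwa [← mul_assoc, h.w.sq u hu, one_mul] at h2

/-- (7.2) -/
theorem same_iff (hu : u ∈ Z) (he : e ∈ Z) (c : CP K u e) {y₁ y₂ : G} (hy₁ : y₁ ∈ Z) (hs₁ : Cen K (u * e) y₁)
    (hy₂ : y₂ ∈ Z) (hs₂ : Cen K (u * e) y₂) (hsame : Same K y₁ y₂ u) : Same K y₁ y₂ e := by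
  have ts := ts_two hu he c (h.ne_one_of_cp hu he c)
  by_cases h1 : Cen K y₁ u
  · exact same_of_cen (h.cen_iff hu he c hy₁ hs₁ h1) (h.cen_iff hu he c hy₂ hs₂ (hsame.cen h1))
  have c' : CP K e u := c.symm
  have hcom : u * e = e * u := c.2 u (h.w.mem u hu) e (h.w.mem e he)
  have h2 : ¬ Cen K y₂ u := fun h3 => h1 (hsame.symm.cen h3)
  have h3 : ¬ Cen K y₁ e := fun h4 => h1 (h.cen_iff he hu c' hy₁ (hcom ▸ hs₁) h4)
  have h4 : ¬ Cen K y₂ e := fun h5 => h2 (h.cen_iff he hu c' hy₂ (hcom ▸ hs₂) h5)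
  have hes := h.cen_mul_right hu he c
  have n1 : NP K e y₁ := h.np_of he hy₁ (h.lam _ ts e he y₁ hy₁ hes hs₁) h3
  have n2 : NP K e y₂ := h.np_of he hy₂ (h.lam _ ts e he y₂ hy₂ hes hs₂) h4
  have hsub : ∀ {w t : G}, w ∈ Z → t ∈ Z → w * t = t * w → ∀ k ∈ K t, w * k * w⁻¹ ∈ K t := fun _ ht hwt k hk =>
    h.w.norm_mem ht hwt hk
  by_cases h5 : y₁ = y₂
  · rw [h5]
    exact fun k _ => rfl
  by_cases h6 : CP K y₁ y₂
  · exact same_of_mul (h.w.sq y₂ hy₂) (hsub hy₂ he n2.2.1.symm) (h.triple y₁ hy₁ y₂ hy₂ e he h6 n1 n2).1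
  · -- an N-pair
    have h7 := h.lam _ ts y₁ hy₁ y₂ hy₂ hs₁ hs₂
    obtain ⟨a, ha, hay⟩ := h.flip y₁ hy₁ y₂ hy₂ ⟨h5, h7, h6⟩
    have hus := h.cen_mul_left hu he c
    have hyZ : y₂ * y₁ ∈ Z := by
      rw [← hay]
      exact h.w.conjZ y₂ hy₂ a
    have hys : Cen K (u * e) (y₂ * y₁) := by
      rw [← hay]
      exact h.w.k7_cen_conj hy₂ hs₂ (hs₁ a ha).symm
    have hyu : Cen K (y₂ * y₁) u :=
      hsame.symm.mul (h.w.sq y₁ hy₁) (hsub hy₁ hu (h.lam _ ts y₁ hy₁ u hu hs₁ hus))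
    have h8 := h.cen_iff hu he c hyZ hys hyu
    exact (same_of_mul (h.w.sq y₁ hy₁) (hsub hy₁ he n1.2.1.symm) h8).symm

/-- two witnesses of a linked pair act in the same way: (7.1) - (7.4) -/
theorem same_of_linked (hu : u ∈ Z) (he : e ∈ Z) (c : CP K u e) {x₁ x₂ : G} (hx₁ : x₁ ∈ Z) (hx₂ : x₂ ∈ Z)
    (nu₁ : NP K x₁ u) (ne₁ : NP K x₁ e) (nu₂ : NP K x₂ u) (ne₂ : NP K x₂ e) : Same K x₁ x₂ e := by
  by_contra hcon
  have hcom : u * e = e * u := c.2 u (h.w.mem u hu) e (h.w.mem e he)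
  have c' : CP K e u := c.symm
  -- T-TRIPLE
  obtain ⟨s1, ⟨k₁, i1⟩, -⟩ := h.triple u hu e he x₁ hx₁ c nu₁ ne₁
  obtain ⟨s2, ⟨k₂, i2⟩, -⟩ := h.triple u hu e he x₂ hx₂ c nu₂ ne₂
  have hnu : ¬ Same K x₁ x₂ u := fun h1 => hcon (h.same_iff hu he c hx₁ s1 hx₂ s2 h1)
  have hk : k₂ ≠ k₁ := by
    rintro rfl
    exact hnu (i1.same_of i2)
  have hk' : k₂ ≠ k₁⁻¹ := by
    rintro rfl
    exact hnu ((h.w.k7_inn_inv hu i1).same_of i2)
  obtain ⟨g, hge, hgu, hng⟩ := h.kap e he u hu c'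
  apply hng
  have hgE : g * e = e * g := hge e (h.w.mem e he)
  have hgs : g * (e * u) = e * u * g := by rw [← mul_assoc, hgE, mul_assoc, hgu, mul_assoc]
  have key : ∀ {x k : G}, x ∈ Z → x * e = e * x → Cen K (u * e) x → Inn K x u k → g * k * g⁻¹ = k ∨ g * k * g⁻¹ = k⁻¹ := by
    intro x k hx hxe hsx i
    have h1 : Same K x (g * x * g⁻¹) e := by
      intro t ht
      have h2 : g⁻¹ * t * g = t := by
        rw [mul_assoc, ← hge t ht, inv_mul_cancel_left]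
      have h3 : x * t * x⁻¹ ∈ K e := h.w.norm_mem he hxe ht
      calc x * t * x⁻¹ = g * (x * t * x⁻¹) * g⁻¹ := by rw [hge _ h3, mul_inv_cancel_right]
        _ = g * (x * (g⁻¹ * t * g) * x⁻¹) * g⁻¹ := by rw [h2]
        _ = g * x * g⁻¹ * t * (g * x * g⁻¹)⁻¹ := by group
    have hsx' : Cen K (e * u) x := hcom ▸ hsx
    have h2 := h.same_iff he hu c' hx hsx' (h.w.conjZ x hx g) (h.w.k7_cen_conj hx hsx' hgs) h1
    have h3 := h.w.inn_conj hu g i
    have h4 : g * u * g⁻¹ = u := by rw [hgu, mul_inv_cancel_right]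
    rw [h4] at h3
    exact h.w.k7_inn_axis hu (i.same h2) h3
  exact h.w.k7_inner hu hgu i1.mem i1.sq i2.mem i2.sq hk hk' (key hx₁ ne₁.2.1 s1 i1) (key hx₂ ne₂.2.1 s2 i2)

/-- Statement A for `Lk` -/
theorem lk_axis {x₁ x₂ k₁ k₂ : G} (l₁ : Lk Z K u e x₁ k₁) (l₂ : Lk Z K u e x₂ k₂) : k₂ = k₁ ∨ k₂ = k₁⁻¹ := by
  have h1 := h.same_of_linked l₁.hu l₁.he l₁.c l₁.hx l₂.hx l₁.nu l₁.ne l₂.nu l₂.ne
  exact h.w.k7_inn_axis l₁.he (l₁.inn.same h1) l₂.inn

theorem lk_conj (l : Lk Z K u e x k) (hg : g * e = e * g) : Lk Z K (g * u * g⁻¹) e (g * x * g⁻¹) (g * k * g⁻¹) := by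
  have h4 : g * e * g⁻¹ = e := by rw [hg, mul_inv_cancel_right]
  have h1 := h.w.cp_conj l.hu l.he l.c g
  have h2 := h.w.np_conj l.hx l.he g l.ne
  have h3 := h.w.inn_conj l.he g l.inn
  rw [h4] at h1 h2 h3
  exact ⟨h.w.conjZ u l.hu g, l.he, h.w.conjZ x l.hx g, h1, h.w.np_conj l.hx l.hu g l.nu, h2, h3⟩

/-- conjugation by an element centralising `K e` -/
theorem lk_conj_cen (l : Lk Z K u e x k) (hg : Cen K g e) : Lk Z K (g * u * g⁻¹) e (g * x * g⁻¹) k := by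
  have h1 := h.lk_conj l (hg e (h.w.mem e l.he))
  rwa [hg k l.inn.mem, mul_inv_cancel_right] at h1

/-- (7.5) (i), (ii): two linked pairs `(u, e)`, `(v, e)` with different axes -/
theorem two {k₁ k₂ : G} (l₁ : Lk Z K u e x k₁) (l₂ : Lk Z K v e y k₂) (hk : k₂ ≠ k₁) (hk' : k₂ ≠ k₁⁻¹) :
    CP K u v ∧ CP K x v ∧ CP K y u ∧ x * y ≠ y * x := by
  have hu := l₁.hu
  have hv := l₂.hu
  have he := l₁.he
  have hx := l₁.hx
  have hy := l₂.hx
  have hbad : ¬ (k₂ = k₁ ∨ k₂ = k₁⁻¹) := fun h1 => h1.elim hk hk'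
  have hsame : ¬ Same K x y e := fun h1 => hbad (h.w.k7_inn_axis he (l₁.inn.same h1) l₂.inn)
  have huv : u ≠ v := by
    rintro rfl
    exact hbad (h.lk_axis l₁ l₂)
  have hcuv : u * v = v * u := h.lam e (ts_one he (h.w.ne e he)) u hu v hv (h.cen_of_cp' he l₁.c) (h.cen_of_cp' he l₂.c)
  have cuv : CP K u v := by
    by_contra hcon
    have n : NP K u v := ⟨huv, hcuv, hcon⟩
    obtain ⟨a, ha, hav⟩ := h.flip u hu v hv n
    obtain ⟨b, hb, hbu⟩ := h.flip v hv u hu n.symm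
    have l₃ := h.lk_conj_cen l₂ (g := a) (fun t ht => l₁.c.2 a ha t ht)
    have l₄ := h.lk_conj_cen l₁ (g := b) (fun t ht => l₂.c.2 b hb t ht)
    rw [hav] at l₃
    rw [hbu, hcuv] at l₄
    exact hbad (h.lk_axis l₄ l₃)
  obtain ⟨s1, -, -⟩ := h.triple u hu e he x hx l₁.c l₁.nu l₁.ne
  obtain ⟨s2, -, -⟩ := h.triple v hv e he y hy l₂.c l₂.nu l₂.ne
  have t1 := ts_two hu he l₁.c (h.ne_one_of_cp hu he l₁.c)
  have t2 := ts_two hv he l₂.c (h.ne_one_of_cp hv he l₂.c)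
  have cxv : CP K x v := by
    by_contra hcon
    have h1 := h.lam _ t1 x hx v hv s1 ((h.cen_of_cp hu cuv).mul (h.cen_of_cp' he l₂.c))
    have h2 : x ≠ v := by
      rintro rfl
      exact l₁.nu.2.2 cuv.symm
    exact hbad (h.lk_axis ⟨hv, he, hx, l₂.c, ⟨h2, h1, hcon⟩, l₁.ne, l₁.inn⟩ l₂)
  have cyu : CP K y u := by
    by_contra hcon
    have h1 := h.lam _ t2 y hy u hu s2 ((h.cen_of_cp hv cuv.symm).mul (h.cen_of_cp' he l₁.c))
    have h2 : y ≠ u := by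
      rintro rfl
      exact l₂.nu.2.2 cuv
    exact hbad (h.lk_axis l₁ ⟨hu, he, hy, l₁.c, ⟨h2, h1, hcon⟩, l₂.ne, l₂.inn⟩)
  refine ⟨cuv, cxv, cyu, fun hxy => ?_⟩
  have hxy' : x ≠ y := by
    rintro rfl
    exact hsame (fun t _ => rfl)
  have hact : ∀ {w : G}, w * e = e * w → ∀ t ∈ K e, w * t * w⁻¹ ∈ K e := fun hw t ht => h.w.norm_mem he hw ht
  by_cases cxy : CP K x y
  · exact hsame (same_of_mul (h.w.sq y hy) (hact l₂.ne.2.1) (h.triple x hx y hy e he cxy l₁.ne.symm l₂.ne.symm).1)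
  · have nxy : NP K x y := ⟨hxy', hxy, cxy⟩
    -- `v`, `x` act in the same way on `K y`, and `e`, `v`
    have h1 := (h.triple v hv x hx y hy cxv.symm l₂.nu nxy.symm).1
    have h2 := (h.triple e he v hv y hy l₂.c.symm l₂.ne l₂.nu).1
    have h3 : Cen K (e * x) y := by
      have h4 := h2.mul h1
      have h5 : e * v * (v * x) = e * x := by
        rw [mul_assoc, ← mul_assoc v, h.w.sq v hv, one_mul]
      rwa [h5] at h4
    obtain ⟨a, ha, hax⟩ := h.flip e he x hx l₁.ne.symm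
    have hae : a * e = e * a := h.w.cent he ha
    have hex : e * x = a * x * a⁻¹ := by rw [hax, l₁.ne.2.1]
    have hexZ : e * x ∈ Z := by
      rw [hex]
      exact h.w.conjZ x hx a
    have nex : NP K e (e * x) := by
      have h4 := h.w.np_conj he hx a l₁.ne.symm
      rwa [hae, mul_inv_cancel_right, ← hex] at h4
    have hsx : Same K (e * x) x e := by
      intro t ht
      have h5 : x * t * x⁻¹ ∈ K e := hact l₁.ne.2.1 t ht
      have h6 := h.w.k7_cen_self he _ h5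
      calc e * x * t * (e * x)⁻¹ = e * (x * t * x⁻¹) * e⁻¹ := by group
        _ = x * t * x⁻¹ := by rw [h6, mul_inv_cancel_right]
    by_cases h4 : e * x = y
    · rw [h4] at hsx
      exact hsame hsx.symm
    · have h5 : CP K (e * x) y := (h.w.csymm hy hexZ (Ne.symm h4) h3).symm
      have h6 := (h.triple (e * x) hexZ y hy e he h5 nex l₂.ne.symm).1
      exact hsame (hsx.symm.trans (same_of_mul (h.w.sq y hy) (hact l₂.ne.2.1) h6))

/-- the product `u v e` is trivial -/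
theorem uve {k₁ k₂ : G} (l₁ : Lk Z K u e x k₁) (l₂ : Lk Z K v e y k₂) (hk : k₂ ≠ k₁) (hk' : k₂ ≠ k₁⁻¹) :
    u * v * e = 1 := by
  obtain ⟨cuv, cxv, cyu, hxy⟩ := h.two l₁ l₂ hk hk'
  obtain ⟨s1, -, -⟩ := h.triple u l₁.hu e l₁.he x l₁.hx l₁.c l₁.nu l₁.ne
  obtain ⟨s2, -, -⟩ := h.triple v l₂.hu e l₂.he y l₂.hx l₂.c l₂.nu l₂.ne
  by_contra h1
  apply hxy
  refine h.lam _ (ts_three l₁.hu l₂.hu l₁.he cuv l₂.c l₁.c h1) x l₁.hx y l₂.hx ?_ ?_
  · have h2 := (h.cen_of_cp' l₂.hu cxv).mul s1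
    have h3 : v * (u * e) = u * v * e := by
      rw [← mul_assoc, (h.cen_of_cp l₂.hu cuv.symm) u (h.w.mem u l₁.hu)]
    rwa [h3] at h2
  · have h2 := (h.cen_of_cp' l₁.hu cyu).mul s2
    rwa [← mul_assoc] at h2

/-- no fourth member of the clique -/
theorem no_fourth {k₁ k₂ w : G} (l₁ : Lk Z K u e x k₁) (l₂ : Lk Z K v e y k₂) (hk : k₂ ≠ k₁) (hk' : k₂ ≠ k₁⁻¹)
    (hw : w ∈ Z) (cwu : CP K w u) (cwv : CP K w v) (cwe : CP K w e) : False := by
  obtain ⟨cuv, cxv, cyu, hxy⟩ := h.two l₁ l₂ hk hk'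
  have hu := l₁.hu
  have hv := l₂.hu
  have he := l₁.he
  have hx := l₁.hx
  have hy := l₂.hx
  obtain ⟨s1, -, -⟩ := h.triple u hu e he x hx l₁.c l₁.nu l₁.ne
  obtain ⟨s2, -, -⟩ := h.triple v hv e he y hy l₂.c l₂.nu l₂.ne
  -- `w` or `e w` centralises `K x`
  have hcx : ∀ {u' x' k' : G}, Lk Z K u' e x' k' → CP K w u' → Cen K w x' ∨ Cen K (e * w) x' := by
    intro u' x' k' l c
    have t1 := ts_two l.hu he l.c (h.ne_one_of_cp l.hu he l.c)
    have h1 := (h.triple u' l.hu e he x' l.hx l.c l.nu l.ne).1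
    have h2 := h.lam _ t1 x' l.hx w hw h1 ((h.cen_of_cp' l.hu c).mul (h.cen_of_cp' he cwe))
    by_cases h3 : CP K x' w
    · exact Or.inl (h.cen_of_cp' hw h3)
    · right
      have h4 : x' ≠ w := by
        rintro rfl
        exact l.nu.2.2 c
      exact (h.triple e he w hw x' l.hx cwe.symm l.ne ⟨h4, h2, h3⟩).1
  have hee := h.w.sq e he
  have hwe : w * e = e * w := (h.cen_of_cp' he cwe w (h.w.mem w hw)).symm
  have hue : u * e = e * u := (h.cen_of_cp' he l₁.c u (h.w.mem u hu)).symm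
  have hve : v * e = e * v := (h.cen_of_cp' he l₂.c v (h.w.mem v hv)).symm
  have hwu : w * u = u * w := (h.cen_of_cp' hu cwu w (h.w.mem w hw)).symm
  have hwv : w * v = v * w := (h.cen_of_cp' hv cwv w (h.w.mem w hw)).symm
  have fin : ∀ s, Ts Z K s → Cen K s x → Cen K s y → False := fun s ts a b => hxy (h.lam s ts x hx y hy a b)
  have cvx := h.cen_of_cp' hv cxv
  have cuy := h.cen_of_cp' hu cyu
  rcases hcx l₁ cwu with h1 | h1 <;> rcases hcx l₂ cwv with h2 | h2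
  · exact fin w (ts_one hw (h.w.ne w hw)) h1 h2
  · refine fin (w * v) (ts_two hw hv cwv (h.ne_one_of_cp hw hv cwv)) (h1.mul cvx) ?_
    have h3 := h2.mul s2
    have h4 : e * w * (v * e) = w * v := by
      calc e * w * (v * e) = e * w * (e * v) := by rw [hve]
        _ = w * e * (e * v) := by rw [hwe]
        _ = w * (e * e) * v := by group
        _ = w * v := by rw [hee, mul_one]
    rwa [h4] at h3
  · refine fin (w * u) (ts_two hw hu cwu (h.ne_one_of_cp hw hu cwu)) ?_ (h2.mul cuy)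
    have h3 := h1.mul s1
    have h4 : e * w * (u * e) = w * u := by
      calc e * w * (u * e) = e * w * (e * u) := by rw [hue]
        _ = w * e * (e * u) := by rw [hwe]
        _ = w * (e * e) * u := by group
        _ = w * u := by rw [hee, mul_one]
    rwa [h4] at h3
  · exact fin (e * w) (ts_two he hw cwe.symm (h.ne_one_of_cp he hw cwe.symm)) h1 h2

theorem not_comm_K (hz : z ∈ Z) (hc : K z ≤ centralizer (K z : Set G)) : False := by
  obtain ⟨i, hi, j, hj, -, -, hji, -⟩ := h.w.exists_ij hz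
  have h1 := mem_centralizer_iff.1 (hc hi) j hj
  rw [h1] at hji
  exact h.w.ne z hz (mul_eq_right.1 hji.symm)

/-- **(NL)** : no linked pairs -/
theorem no_linked [Finite G] (hu : u ∈ Z) (he : e ∈ Z) (hx : x ∈ Z) (c : CP K u e) (nu : NP K x u)
    (ne : NP K x e) : False := by
  haveI : Fact (Nat.Prime 2) := ⟨Nat.prime_two⟩
  obtain ⟨-, -, k₁, i₁⟩ := h.triple u hu e he x hx c nu ne
  have l₁ : Lk Z K u e x k₁ := ⟨hu, he, hx, c, nu, ne, i₁⟩
  obtain ⟨g, hg, hgk, hgk'⟩ := h.c3 e he k₁ i₁.mem i₁.sq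
  have l₂ := h.lk_conj l₁ hg
  set v := g * u * g⁻¹ with hv_def
  set y := g * x * g⁻¹ with hy_def
  set k₂ := g * k₁ * g⁻¹ with hk_def
  obtain ⟨cuv, -, -, -⟩ := h.two l₁ l₂ hgk hgk'
  have hv := l₂.hu
  -- a Sylow subgroup of `C(K e)` containing `K u`, `K v`
  set D := centralizer (K e : Set G) with hD
  have hle : ∀ {t : G}, CP K t e → K t ≤ D := fun ct a ha => mem_centralizer_iff.2 fun b hb => (ct.2 a ha b hb).symm
  have hP : IsPGroup 2 (K u ⊔ K v : Subgroup G) := by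
    refine IsPGroup.to_sup_of_normal_right' (h.w.two hu) (h.w.two hv) ?_
    refine le_trans ?_ (centralizer_le_normalizer (K v : Set G))
    exact fun a ha => mem_centralizer_iff.2 fun b hb => (cuv.2 a ha b hb).symm
  obtain ⟨R, hR, hPR⟩ := LB.exists_syl_ge hP (sup_le (hle c) (hle l₂.c))
  have huR : K u ≤ R := le_sup_left.trans hPR
  have hvR : K v ≤ R := le_sup_right.trans hPR
  have mem : ∀ w ∈ Z, K w ≤ R → w = u ∨ w = v := by
    intro w hw hwR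
    by_contra hcon
    rw [not_or] at hcon
    have hwe : w ≠ e := by
      rintro rfl
      exact h.not_comm_K hw (hwR.trans hR.1)
    refine h.no_fourth l₁ l₂ hgk hgk' hw (h.w.com hw hu hR.2.1 hwR huR hcon.1)
      (h.w.com hw hv hR.2.1 hwR hvR hcon.2) ⟨hwe, fun a ha b hb => ?_⟩
    exact (mem_centralizer_iff.1 (hR.1 (hwR ha)) b hb).symm
  -- Frattini
  obtain ⟨g', hg', hm, hm'⟩ := h.c3 e he (k₁ * k₂) (mul_mem i₁.mem l₂.inn.mem)
    (h.w.k7_third_sq he i₁.mem i₁.sq l₂.inn.mem l₂.inn.sq hgk hgk')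
  have hDg : cj g' D = D := by
    have h1 : cj g' (K e) = K e := h.w.norm he hg'
    ext t
    rw [mem_cj, hD, mem_centralizer_iff, mem_centralizer_iff]
    constructor
    · intro h2 b hb
      have h3 := h2 _ (h.w.norm_mem' he hg' hb)
      calc b * t = g' * (g'⁻¹ * b * g' * (g'⁻¹ * t * g')) * g'⁻¹ := by group
        _ = g' * (g'⁻¹ * t * g' * (g'⁻¹ * b * g')) * g'⁻¹ := by rw [h3]
        _ = t * b := by group
    · intro h2 b hb
      have h3 := h2 _ (h.w.norm_mem he hg' hb)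
      calc b * (g'⁻¹ * t * g') = g'⁻¹ * (g' * b * g'⁻¹ * t) * g' := by group
        _ = g'⁻¹ * (t * (g' * b * g'⁻¹)) * g' := by rw [h3]
        _ = g'⁻¹ * t * g' * b := by group
  have hR' : Syl (cj g' R) D := by
    have h1 := hR.cj g'
    rwa [hDg] at h1
  obtain ⟨d, hd, hdR⟩ := hR'.exists_conj hR
  set c' := d * g' with hc'
  have hcR : cj c' R = R := by rw [hc', cj_mul]; exact hdR
  have hde : d * e = e * d := (mem_centralizer_iff.1 hd e (h.w.mem e he)).symm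
  have hce : c' * e = e * c' := by rw [hc', mul_assoc, hg', ← mul_assoc, hde, mul_assoc]
  have hck : ∀ t ∈ K e, c' * t * c'⁻¹ = g' * t * g'⁻¹ := by
    intro t ht
    have h1 := mem_centralizer_iff.1 hd _ (h.w.norm_mem he hg' ht)
    calc c' * t * c'⁻¹ = d * (g' * t * g'⁻¹) * d⁻¹ := by rw [hc']; group
      _ = g' * t * g'⁻¹ := by rw [← h1, mul_inv_cancel_right]
  have hmv : ∀ w ∈ Z, K w ≤ R → c' * w * c'⁻¹ = u ∨ c' * w * c'⁻¹ = v := by
    intro w hw hwR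
    refine mem _ (h.w.conjZ w hw c') ?_
    rw [h.w.conjK w hw, ← hcR]
    exact cj_mono c' hwR
  have l₃ := h.lk_conj l₁ hce
  have l₄ := h.lk_conj l₂ hce
  have hk12 : c' * (k₁ * k₂) * c'⁻¹ = c' * k₁ * c'⁻¹ * (c' * k₂ * c'⁻¹) := by group
  have hbad : ¬ (c' * (k₁ * k₂) * c'⁻¹ = k₁ * k₂ ∨ c' * (k₁ * k₂) * c'⁻¹ = (k₁ * k₂)⁻¹) := by
    rw [hck _ (mul_mem i₁.mem l₂.inn.mem)]
    exact fun h1 => h1.elim hm hm'
  rw [hk12] at hbad
  rcases hmv u hu huR with h1 | h1 <;> rcases hmv v hv hvR with h2 | h2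
  · exact cuv.1 (mul_left_cancel (mul_right_cancel (h1.trans h2.symm)))
  · rw [h1] at l₃
    rw [h2] at l₄
    exact hbad (h.w.k7_third he i₁.mem i₁.sq l₂.inn.mem l₂.inn.sq hgk hgk' (h.lk_axis l₁ l₃) (h.lk_axis l₂ l₄)).1
  · rw [h1] at l₃
    rw [h2] at l₄
    exact hbad (h.w.k7_third he i₁.mem i₁.sq l₂.inn.mem l₂.inn.sq hgk hgk' (h.lk_axis l₁ l₄) (h.lk_axis l₂ l₃)).2
  · exact cuv.1 (mul_left_cancel (mul_right_cancel (h1.trans h2.symm)))

end KIn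

end Cfsg.Agent.Cit.Nil.ROne
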