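import Cfsg.Agent.Cit.Nil.ROne.Base

/-!
# `r = 1`: (5.6), (5.7), (5.8) and the two worlds

`blueprints/R18-6b-r1-helper545.md`, section 5. `SwIn Z K` collects the inputs: (0.1)(a), sections 2 and 3 for the
`s = w(a, b)`, and (5.5).

* `SwIn.move` (5.6): `(u, v)` a C-swap, `y ∈ [u]`: `v y v⁻¹ = y w(u, v)`;
* `SwIn.wt_eq` (5.7): `w(u, v)` depends on `u` only; `tt Z K u` is the common value;
* `SwIn.tt_conj`, `tt_comm`, `tt_tw`, `tt_swap`, `tt_cen`, `tt_cen_of`;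
* `SwIn.tt_not_mem` (5.8): `t_u ∉ Z`.
-/

set_option autoImplicit false
set_option linter.unusedSectionVars false

namespace Cfsg.Agent.Cit.Nil.ROne

open Subgroup Cfsg Cit

variable {G : Type*} [Group G] {Z : Set G} {K : G → Subgroup G} {z u v x y g s n : G}

/-- inputs of (5.6) - (5.8) -/
structure SwIn (Z : Set G) (K : G → Subgroup G) : Prop where
  w : W Z K
  com : ∀ u ∈ Z, ∀ v ∈ Z, u ≠ v → Cen K v u → CP K u v
  symm : ∀ u ∈ Z, ∀ v ∈ Z, CSw K u v → CSw K v u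
  mem_or : ∀ u ∈ Z, ∀ v ∈ Z, CSw K u v → ∀ x ∈ Z, Cen K (wt u v) x →
    x ∈ NC (wt u v) u ∨ ∀ n ∈ NC (wt u v) u, Cen K n x
  act : ∀ u ∈ Z, ∀ v ∈ Z, CSw K u v → ∀ n ∈ NC (wt u v) u, n * u * n⁻¹ = u ∨ n * u * n⁻¹ = u * wt u v
  cent : ∀ u ∈ Z, ∀ v ∈ Z, CSw K u v → ∀ n ∈ NC (wt u v) u, (∀ m ∈ NC (wt u v) u, n * m = m * n) → Cen K n u
  inn : ∀ u ∈ Z, ∀ v ∈ Z, CSw K u v → ∀ n ∈ NC (wt u v) u, n * u = u * n → Cen K n u ∨ ∃ y, Inn K n u y
  tri : ∀ a ∈ Z, ∀ b ∈ Z, CSw K a b → ∀ u ∈ Z, ∀ v ∈ Z, ∀ v' ∈ Z, CSw K u v → CSw K u v' →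
    Cen K (wt a b) u → Cen K (wt a b) v → Cen K (wt a b) v' → wt u v = wt u v'
  twin : ∀ u ∈ Z, ∀ v ∈ Z, CSw K u v → Tw Z K u (v * u * v⁻¹)

theorem CP.cen (w : W Z K) (hv : v ∈ Z) (h : CP K u v) : Cen K v u :=
  fun k hk => (h.2 k hk v (w.mem v hv)).symm

theorem W.cen_self (w : W Z K) (hu : u ∈ Z) : Cen K u u := fun _ hk => (w.cent hu hk).symm

/-- `g` commutes with `z` if it centralises `K z` -/
theorem Cen.comm (w : W Z K) (hz : z ∈ Z) (h : Cen K g z) : g * z = z * g := h z (w.mem z hz)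

/-- `w(u, v)` centralises `K u` -/
theorem CSw.cen_left (w : W Z K) (hu : u ∈ Z) (h : CSw K u v) : Cen K (wt u v) u :=
  (w.cen_self hu).mul (CP.cen w (w.conjZ u hu v) h)

theorem CSw.ne (_w : W Z K) (h : CSw K u v) : v * u * v⁻¹ ≠ u := fun h1 => h.1 h1.symm

theorem CSw.wt_ne (w : W Z K) (hu : u ∈ Z) (h : CSw K u v) : wt u v ≠ 1 := by
  intro h1
  apply h.1
  have h2 := eq_inv_of_mul_eq_one_right h1
  rw [w.inv hu] at h2
  exact h2.symm

/-- `v u v⁻¹ = u w(u, v)` -/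
theorem conj_eq_mul_wt (w : W Z K) (hu : u ∈ Z) : v * u * v⁻¹ = u * wt u v := by
  unfold wt
  rw [← mul_assoc, w.sq u hu, one_mul]

/-- `w(u, v)² = 1` -/
theorem CSw.wt_sq (w : W Z K) (hu : u ∈ Z) (h : CSw K u v) : wt u v * wt u v = 1 := by
  have h1 := CP.comm w hu (w.conjZ u hu v) h
  unfold wt
  calc u * (v * u * v⁻¹) * (u * (v * u * v⁻¹)) = u * (v * u * v⁻¹) * ((v * u * v⁻¹) * u) := by rw [h1]
    _ = u * ((v * u * v⁻¹) * (v * u * v⁻¹)) * u := by group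
    _ = 1 := by rw [w.sq _ (w.conjZ u hu v), mul_one, w.sq u hu]

theorem CSw.wt_comm (w : W Z K) (hu : u ∈ Z) (h : CSw K u v) : wt u v * u = u * wt u v :=
  Cen.comm w hu (h.cen_left w hu)

/-- `w(v, u) = w(u, v)` -/
theorem CSw.wt_symm (w : W Z K) (hu : u ∈ Z) (hv : v ∈ Z) (h : CSw K u v) : wt v u = wt u v := by
  have h1 : wt v u * wt u v = 1 := by
    unfold wt
    rw [w.inv hu, w.inv hv]
    calc v * (u * v * u) * (u * (v * u * v)) = v * u * v * (u * u) * v * u * v := by group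
      _ = v * u * (v * v) * u * v := by rw [w.sq u hu]; group
      _ = v * (u * u) * v := by rw [w.sq v hv]; group
      _ = 1 := by rw [w.sq u hu, mul_one, w.sq v hv]
  have h2 := h.wt_sq w hu
  rw [← h2] at h1
  exact mul_right_cancel h1

/-- a C-swap with the same partner -/
theorem CSw.of_twin (_w : W Z K) (hu : u ∈ Z) (hy : Tw Z K u y) (hy' : Tw Z K u (v * y * v⁻¹)) (hne : v * y * v⁻¹ ≠ y) :
    CSw K y v :=
  Tw.cp hy.1 ((hy.symm hu).trans hy') hne.symm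

/-- `K y` centralises a product of two twins of `z` if `y ∈ [z]` -/
theorem Tw.cen (w : W Z K) (hz : z ∈ Z) (hu : Tw Z K z u) (hy : Tw Z K z y) : Cen K u y := by
  by_cases h : y = u
  · rw [h]; exact w.cen_self hu.1
  · exact CP.cen w hu.1 (Tw.cp hy.1 ((hy.symm hz).trans hu) h)

theorem NC_self (s y : G) : y ∈ NC s y := subset_closure ⟨1, by simp, by simp⟩

namespace SwIn

variable (h : SwIn Z K)

include h

theorem wt_cen_left (hu : u ∈ Z) (hs : CSw K u v) : Cen K (wt u v) u := hs.cen_left h.w hu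

theorem wt_cen_right (hu : u ∈ Z) (hv : v ∈ Z) (hs : CSw K u v) : Cen K (wt u v) v := by
  rw [← hs.wt_symm h.w hu hv]
  exact (h.symm u hu v hv hs).cen_left h.w hv

/-- `v ∈ ⟨u ^ C(w)⟩` -/
theorem right_mem (hu : u ∈ Z) (hv : v ∈ Z) (hs : CSw K u v) : v ∈ NC (wt u v) u := by
  rcases h.mem_or u hu v hv hs v hv (h.wt_cen_right hu hv hs) with h1 | h1
  · exact h1
  · exfalso
    have h2 := (h1 u (NC_self _ _)).comm h.w hv
    apply hs.ne h.w
    rw [← h2, mul_inv_cancel_right]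

theorem NC_le_of_mem {a b : G} (hb : b ∈ NC s a) : NC s b ≤ NC s a := by
  rw [NC, closure_le]
  rintro _ ⟨g, hg, rfl⟩
  have h1 : ∀ c ∈ NC s a, g * c * g⁻¹ ∈ NC s a := by
    intro c hc
    induction hc using closure_induction with
    | mem c hc =>
      obtain ⟨k, hk, rfl⟩ := hc
      refine subset_closure ⟨g * k, ?_, by group⟩
      rw [mul_assoc, hk, ← mul_assoc, hg, mul_assoc]
    | one => simp
    | mul c d _ _ hc hd =>
      have := mul_mem hc hd
      have h2 : g * c * g⁻¹ * (g * d * g⁻¹) = g * (c * d) * g⁻¹ := by group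
      rwa [h2] at this
    | inv c _ hc =>
      have := inv_mem hc
      have h2 : (g * c * g⁻¹)⁻¹ = g * c⁻¹ * g⁻¹ := by group
      rwa [h2] at this
  exact h1 b hb

/-- `⟨u ^ C(w)⟩ = ⟨v ^ C(w)⟩` -/
theorem NC_eq (hu : u ∈ Z) (hv : v ∈ Z) (hs : CSw K u v) : NC (wt u v) v = NC (wt u v) u := by
  apply le_antisymm
  · exact h.NC_le_of_mem (h.right_mem hu hv hs)
  · apply h.NC_le_of_mem
    have h1 := h.right_mem hv hu (h.symm u hu v hv hs)
    rwa [hs.wt_symm h.w hu hv] at h1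

/-- (5.6), the inverse direction `v ∉ C(y)` -/
theorem move_ne (hu : u ∈ Z) (hv : v ∈ Z) (hs : CSw K u v) (hy : Tw Z K u y) : v * y * v⁻¹ ≠ y := by
  intro hvy
  have hvy' : v * y = y * v := mul_inv_eq_iff_eq_mul.1 hvy
  have hyZ := hy.1
  -- `v` does not commute with `u`
  have hnc : v * u ≠ u * v := by
    intro h1
    apply hs.ne h.w
    rw [h1, mul_inv_cancel_right]
  have hcl : ∀ x ∈ cl Z K y, x * u = u * x := by
    intro x hx
    rw [← hy.2] at hx
    rcases hx.2 with h1 | h1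
    · rw [h1]
    · exact (CP.comm h.w hu hx.1 h1).symm
  have hyv : y ≠ v := by
    intro h1
    exact hnc (hcl v (by rw [h1]; exact self_mem_cl hv))
  have hncp : ¬ CP K y v := fun h1 => hnc (hcl v ⟨hv, Or.inr h1⟩)
  have hu' := h.twin u hu v hv hs
  have hwy : Cen K (wt u v) y := (Tw.cen h.w hu (Tw.refl hu) hy).mul (Tw.cen h.w hu hu' hy)
  -- `y ∈ N`
  have hyN : y ∈ NC (wt u v) u := by
    rcases h.mem_or u hu v hv hs y hyZ hwy with h1 | h1
    · exact h1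
    · exact absurd (h.com y hyZ v hv hyv (h1 v (h.right_mem hu hv hs))) hncp
  have hs' := h.symm u hu v hv hs
  have hws := hs.wt_symm h.w hu hv
  have hyN' : y ∈ NC (wt v u) v := by rw [hws, h.NC_eq hu hv hs]; exact hyN
  rcases h.inn v hv u hu hs' y hyN' hvy'.symm with h1 | ⟨l, hl⟩
  · exact hncp (h.com v hv y hyZ hyv.symm h1).symm
  -- `l ∈ K v ∩ C(y)`
  have hly : l * y * l⁻¹ = y := by
    have h2 := hl.act l hl.mem
    rw [mul_inv_cancel_right] at h2
    have h3 : y * l = l * y := mul_inv_eq_iff_eq_mul.1 h2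
    rw [← h3, mul_inv_cancel_right]
  -- `l u l⁻¹ ∈ c[y] = c[u]`
  have h2 : l * u * l⁻¹ ∈ cl Z K y := by
    have h3 : u ∈ cl Z K y := by rw [← hy.2]; exact self_mem_cl hu
    have h4 := (h.w.mem_cl_conj (x := u) hyZ l).2 h3
    rwa [hly] at h4
  have h3 := hcl _ h2
  -- `(l u l⁻¹ u)² = w`
  have hsq : (l * (u * l⁻¹ * u)) * (l * (u * l⁻¹ * u)) = 1 := by
    have h4 : l * (u * l⁻¹ * u) = (l * u * l⁻¹) * u := by group
    rw [h4]
    calc (l * u * l⁻¹) * u * ((l * u * l⁻¹) * u) = (l * u * l⁻¹) * u * (u * (l * u * l⁻¹)) := by rw [h3]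
      _ = (l * u * l⁻¹) * (u * u) * (l * u * l⁻¹) := by group
      _ = 1 := by rw [h.w.sq u hu, mul_one, h.w.sq _ (h.w.conjZ u hu l)]
  -- `l` commutes with `u l⁻¹ u ∈ K (u v u⁻¹)`
  have hcomm : l * (u * l⁻¹ * u) = (u * l⁻¹ * u) * l := by
    have h4 : u * l⁻¹ * u ∈ K (u * v * u⁻¹) := by
      rw [h.w.conjK v hv u, mem_cj]
      have : u⁻¹ * (u * l⁻¹ * u) * u = l⁻¹ * (u * u) := by group
      rw [this, h.w.sq u hu, mul_one]
      exact inv_mem hl.mem
    exact hs'.2 l hl.mem _ h4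
  have hl2 : l⁻¹ * l⁻¹ = v := by
    have := congrArg (fun t => t⁻¹) hl.sq
    simp only [mul_inv_rev] at this
    rw [this, h.w.inv hv]
  have h5 : (l * (u * l⁻¹ * u)) * (l * (u * l⁻¹ * u)) = v * (u * v * u) := by
    calc (l * (u * l⁻¹ * u)) * (l * (u * l⁻¹ * u)) = l * ((u * l⁻¹ * u) * l) * (u * l⁻¹ * u) := by group
      _ = l * (l * (u * l⁻¹ * u)) * (u * l⁻¹ * u) := by rw [hcomm]
      _ = (l * l) * (u * (l⁻¹ * (u * u) * l⁻¹) * u) := by group
      _ = v * (u * v * u) := by rw [h.w.sq u hu, mul_one, hl2, hl.sq]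
  rw [h5] at hsq
  apply hs'.wt_ne h.w hv
  unfold wt
  rw [h.w.inv hu]
  exact hsq

/-- (5.6) : `(u, v)` a C-swap, `y ∈ [u]` -/
theorem move (hu : u ∈ Z) (hv : v ∈ Z) (hs : CSw K u v) (hy : Tw Z K u y) :
    CSw K y v ∧ wt y v = wt u v ∧ v * y * v⁻¹ = y * wt u v := by
  have hne := h.move_ne hu hv hs hy
  have hu' := h.twin u hu v hv hs
  have h1 : Tw Z K u (v * y * v⁻¹) := hu'.trans (h.w.tw_conj hu hy v)
  have h2 : CSw K y v := CSw.of_twin h.w hu hy h1 hne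
  have h3 : Cen K (wt u v) y := (Tw.cen h.w hu (Tw.refl hu) hy).mul (Tw.cen h.w hu hu' hy)
  have h4 : wt y v = wt u v := by
    rw [← h2.wt_symm h.w hy.1 hv, ← hs.wt_symm h.w hu hv]
    exact h.tri u hu v hv hs v hv y hy.1 u hu (h.symm y hy.1 v hv h2) (h.symm u hu v hv hs)
      (h.wt_cen_right hu hv hs) h3 (h.wt_cen_left hu hs)
  exact ⟨h2, h4, by rw [conj_eq_mul_wt h.w hy.1, h4]⟩

/-- (5.7) -/
theorem wt_eq (hu : u ∈ Z) (hv : v ∈ Z) {v' : G} (hv' : v' ∈ Z) (hs : CSw K u v) (hs' : CSw K u v') :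
    wt u v = wt u v' := by
  set u1 := v' * u * v'⁻¹ with hu1
  have hu1T : Tw Z K u u1 := h.twin u hu v' hv' hs'
  have hu1Z := hu1T.1
  obtain ⟨hs1, hw1, hm1⟩ := h.move hu hv hs hu1T
  -- `u1 ∈ N`
  have hN : ∀ {a : G}, a ∈ Z → CSw K a v → wt a v = wt u v → a ∈ NC (wt u v) v := by
    intro a ha hsa hwa
    have h1 := h.right_mem hv ha (h.symm a ha v hv hsa)
    rwa [hsa.wt_symm h.w ha hv, hwa] at h1
  have huN : u ∈ NC (wt u v) v := hN hu hs rfl
  have hu1N : u1 ∈ NC (wt u v) v := hN hu1Z hs1 hw1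
  -- every conjugate `x` of `v` under `C(w)` commutes with `u * u1`
  have hx : ∀ g, g * wt u v = wt u v * g → (g * v * g⁻¹) * (u * u1) = (u * u1) * (g * v * g⁻¹) := by
    intro g hg
    set x := g * v * g⁻¹ with hxdef
    have hxZ : x ∈ Z := h.w.conjZ v hv g
    have hxN : x ∈ NC (wt u v) v := subset_closure ⟨g, hg, rfl⟩
    have hxN1 : x ∈ NC (wt u v) u := by rw [← h.NC_eq hu hv hs]; exact hxN
    have hxN2 : x ∈ NC (wt u1 v) u1 := by rw [← h.NC_eq hu1Z hv hs1, hw1]; exact hxN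
    by_cases hxu : x * u * x⁻¹ = u
    · by_cases hxu1 : x * u1 * x⁻¹ = u1
      · have h1 : Commute x u := mul_inv_eq_iff_eq_mul.1 hxu
        have h2 : Commute x u1 := mul_inv_eq_iff_eq_mul.1 hxu1
        exact (h1.mul_right h2).eq
      · exfalso
        rcases h.act u1 hu1Z v hv hs1 x hxN2 with h1 | h1
        · exact hxu1 h1
        have h2 : CSw K u1 x := by
          unfold CSw
          rw [h1, ← conj_eq_mul_wt h.w hu1Z]
          exact hs1
        exact h.move_ne hu1Z hxZ h2 (hu1T.symm hu) hxu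
    · rcases h.act u hu v hv hs x hxN1 with h1 | h1
      · exact absurd h1 hxu
      have h2 : CSw K u x := by
        unfold CSw
        rw [h1, ← conj_eq_mul_wt h.w hu]
        exact hs
      have h3 : wt u x = wt u v := by
        have h4 : u * wt u x = u * wt u v := by rw [← conj_eq_mul_wt h.w hu, h1]
        exact mul_left_cancel h4
      have h4 := (h.move hu hxZ h2 hu1T).2.2
      rw [h3] at h4
      have h5 : x * (u * u1) * x⁻¹ = u * u1 := by
        calc x * (u * u1) * x⁻¹ = (x * u * x⁻¹) * (x * u1 * x⁻¹) := by group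
          _ = u * (wt u v * u1) * wt u v := by rw [h1, h4]; group
          _ = u * (u1 * wt u v) * wt u v := by
            have h6 := hs1.wt_comm h.w hu1Z
            rw [hw1] at h6
            rw [h6]
          _ = u * u1 * (wt u v * wt u v) := by group
          _ = u * u1 := by rw [hs.wt_sq h.w hu, mul_one]
      exact mul_inv_eq_iff_eq_mul.1 h5
  -- `w1 = u * u1` is central in `N`
  have hcen : ∀ m ∈ NC (wt u v) v, (u * u1) * m = m * (u * u1) := by
    intro m hm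
    induction hm using closure_induction with
    | mem c hc =>
      obtain ⟨g, hg, rfl⟩ := hc
      exact (hx g hg).symm
    | one => simp
    | mul c d _ _ hc hd => rw [← mul_assoc, hc, mul_assoc, hd, mul_assoc]
    | inv c _ hc =>
      rw [eq_inv_mul_iff_mul_eq, ← mul_assoc, ← hc, mul_inv_cancel_right]
  have hw1N : u * u1 ∈ NC (wt u v) u := by
    rw [← h.NC_eq hu hv hs]; exact mul_mem huN hu1N
  have hcu : Cen K (u * u1) u := h.cent u hu v hv hs _ hw1N (by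
    intro m hm; rw [← h.NC_eq hu hv hs] at hm; exact hcen m hm)
  have hcv : Cen K (u * u1) v := by
    have hs2 := h.symm u hu v hv hs
    have hws := hs.wt_symm h.w hu hv
    refine h.cent v hv u hu hs2 _ ?_ ?_
    · rw [hws]; exact mul_mem huN hu1N
    · intro m hm; rw [hws] at hm; exact hcen m hm
  have e : wt u v' = u * u1 := rfl
  exact h.tri u hu v' hv' hs' u hu v hv v' hv' hs hs' (by rw [e]; exact hcu) (by rw [e]; exact hcv)
    (h.wt_cen_right hu hv' hs')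

end SwIn

open Classical in
/-- `t_u` : the common value of the `w(u, v)`, `(u, v)` a C-swap (`1` if there is none) -/
noncomputable def tt (Z : Set G) (K : G → Subgroup G) (u : G) : G :=
  if h : ∃ v ∈ Z, CSw K u v then wt u h.choose else 1

theorem tt_of_not (h : ¬ ∃ v ∈ Z, CSw K u v) : tt Z K u = 1 := by rw [tt, dif_neg h]

namespace SwIn

variable (h : SwIn Z K)

include h

theorem tt_eq (hu : u ∈ Z) (hv : v ∈ Z) (hs : CSw K u v) : tt Z K u = wt u v := by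
  have h1 : ∃ v ∈ Z, CSw K u v := ⟨v, hv, hs⟩
  rw [tt, dif_pos h1]
  exact h.wt_eq hu h1.choose_spec.1 hv h1.choose_spec.2 hs

theorem tt_conj (hu : u ∈ Z) (g : G) : tt Z K (g * u * g⁻¹) = g * tt Z K u * g⁻¹ := by
  by_cases h1 : ∃ v ∈ Z, CSw K u v
  · obtain ⟨v, hv, hs⟩ := h1
    rw [h.tt_eq hu hv hs, h.tt_eq (h.w.conjZ u hu g) (h.w.conjZ v hv g) (h.w.csw_conj hu hs g), wt_conj]
  · have h2 : ¬ ∃ v ∈ Z, CSw K (g * u * g⁻¹) v := by
      rintro ⟨v, hv, hs⟩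
      apply h1
      refine ⟨g⁻¹ * v * g, ?_, ?_⟩
      · have := h.w.conjZ v hv g⁻¹
        rwa [inv_inv] at this
      · have := h.w.csw_conj (h.w.conjZ u hu g) hs g⁻¹
        have e1 : g⁻¹ * (g * u * g⁻¹) * g⁻¹⁻¹ = u := by group
        have e2 : g⁻¹ * v * g⁻¹⁻¹ = g⁻¹ * v * g := by group
        rwa [e1, e2] at this
    rw [tt_of_not h1, tt_of_not h2]
    group

/-- `C(u) ≤ C(t_u)` -/
theorem tt_comm (hu : u ∈ Z) (hg : g * u = u * g) : g * tt Z K u = tt Z K u * g := by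
  have h1 := h.tt_conj hu g
  rw [hg, mul_inv_cancel_right] at h1
  exact (eq_mul_inv_iff_mul_eq.1 h1).symm

/-- `t` is constant on twins -/
theorem tt_tw (hu : u ∈ Z) (hy : Tw Z K u y) : tt Z K y = tt Z K u := by
  by_cases h1 : ∃ v ∈ Z, CSw K u v
  · obtain ⟨v, hv, hs⟩ := h1
    obtain ⟨h2, h3, -⟩ := h.move hu hv hs hy
    rw [h.tt_eq hu hv hs, h.tt_eq hy.1 hv h2, h3]
  · have h2 : ¬ ∃ v ∈ Z, CSw K y v := by
      rintro ⟨v, hv, hs⟩
      exact h1 ⟨v, hv, (h.move hy.1 hv hs (hy.symm hu)).1⟩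
    rw [tt_of_not h1, tt_of_not h2]

/-- `t_u = t_v` on C-swaps -/
theorem tt_swap (hu : u ∈ Z) (hv : v ∈ Z) (hs : CSw K u v) : tt Z K u = tt Z K v := by
  rw [h.tt_eq hu hv hs, h.tt_eq hv hu (h.symm u hu v hv hs), hs.wt_symm h.w hu hv]

/-- `[K u, t_u] = 1` -/
theorem tt_cen (hu : u ∈ Z) : Cen K (tt Z K u) u := by
  by_cases h1 : ∃ v ∈ Z, CSw K u v
  · obtain ⟨v, hv, hs⟩ := h1
    rw [h.tt_eq hu hv hs]
    exact h.wt_cen_left hu hs
  · rw [tt_of_not h1]
    intro k _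
    simp

/-- if `K x` centralises all twins of `u`, it centralises `t_u` -/
theorem tt_cen_of (hu : u ∈ Z) (hx : ∀ y, Tw Z K u y → Cen K y x) : Cen K (tt Z K u) x := by
  by_cases h1 : ∃ v ∈ Z, CSw K u v
  · obtain ⟨v, hv, hs⟩ := h1
    rw [h.tt_eq hu hv hs]
    exact (hx u (Tw.refl hu)).mul (hx _ (h.twin u hu v hv hs))
  · rw [tt_of_not h1]
    intro k _
    simp

theorem tt_sq (hu : u ∈ Z) : tt Z K u * tt Z K u = 1 := by
  by_cases h1 : ∃ v ∈ Z, CSw K u v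
  · obtain ⟨v, hv, hs⟩ := h1
    rw [h.tt_eq hu hv hs]
    exact hs.wt_sq h.w hu
  · rw [tt, dif_neg h1, mul_one]

theorem tt_ne (hu : u ∈ Z) (hv : v ∈ Z) (hs : CSw K u v) : tt Z K u ≠ 1 := by
  rw [h.tt_eq hu hv hs]
  exact hs.wt_ne h.w hu

/-- `t_u = u · v u v⁻¹` with `v u v⁻¹ ∈ [u]` -/
theorem tt_prod (hu : u ∈ Z) (hv : v ∈ Z) (hs : CSw K u v) :
    tt Z K u = u * (v * u * v⁻¹) ∧ Tw Z K u (v * u * v⁻¹) :=
  ⟨h.tt_eq hu hv hs, h.twin u hu v hv hs⟩

/-- one C-swap: every `u` is in a C-swap -/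
theorem exists_swap (hc : OneCls Z) {a b : G} (ha : a ∈ Z) (hb : b ∈ Z) (hs : CSw K a b) (hu : u ∈ Z) :
    ∃ v ∈ Z, CSw K u v := by
  obtain ⟨g, rfl⟩ := hc a ha u hu
  exact ⟨_, h.w.conjZ b hb g, h.w.csw_conj ha hs g⟩

/-- (5.8) -/
theorem tt_not_mem [Finite G] (hc : OneCls Z) (hu : u ∈ Z) (hv : v ∈ Z) (hs : CSw K u v) : tt Z K u ∉ Z := by
  intro hsZ
  set s := tt Z K u with hsdef
  have hwe : s = wt u v := h.tt_eq hu hv hs
  have hcu : Cen K s u := h.tt_cen hu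
  have hsu : u ≠ s := by
    intro h1
    have h2 : u * wt u v = 1 := by rw [← hwe, ← h1, h.w.sq u hu]
    rw [← conj_eq_mul_wt h.w hu] at h2
    exact h.w.ne _ (h.w.conjZ u hu v) h2
  -- `C(u) = C(s)`
  have hle : centralizer {u} ≤ centralizer {s} := by
    intro g hg
    rw [mem_centralizer_singleton_iff] at hg ⊢
    exact h.tt_comm hu hg
  have heq : centralizer {u} = centralizer {s} := by
    obtain ⟨g, hg⟩ := hc u hu s hsZ
    refine eq_of_le_of_card_ge hle ?_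
    rw [← hg, ← cj_centralizer, card_cj]
  -- `c[u] ⊆ c[s]`
  have hsub : cl Z K u ⊆ cl Z K s := by
    intro y hy
    refine ⟨hy.1, ?_⟩
    by_cases hys : y = s
    · exact Or.inl hys
    right
    have h1 : Cen K s y := by
      intro k hk
      have h2 : k ∈ centralizer {u} := by
        rw [mem_centralizer_singleton_iff]
        rcases hy.2 with h3 | h3
        · rw [h3] at hk; exact h.w.cent hu hk
        · exact (h3.2 u (h.w.mem u hu) k hk).symm
      rw [heq, mem_centralizer_singleton_iff] at h2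
      exact h2.symm
    exact (h.com y hy.1 s hsZ hys h1).symm
  have hcl : cl Z K u = cl Z K s := by
    obtain ⟨g, hg⟩ := hc u hu s hsZ
    have h1 : cl Z K s = (fun x => g * x * g⁻¹) '' cl Z K u := by
      ext x
      constructor
      · intro hx
        refine ⟨g⁻¹ * x * g, ?_, by group⟩
        rw [← h.w.mem_cl_conj hu g, hg]
        have e : g * (g⁻¹ * x * g) * g⁻¹ = x := by group
        rwa [e]
      · rintro ⟨y, hy, rfl⟩
        rw [← hg]
        exact (h.w.mem_cl_conj hu g).2 hy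
    refine Set.eq_of_subset_of_ncard_le hsub ?_ (Set.toFinite _)
    rw [h1]
    exact Set.ncard_image_le (Set.toFinite _)
  have hT : Tw Z K u s := ⟨hsZ, hcl⟩
  apply h.move_ne hu hv hs hT
  have h2 := (h.wt_cen_right hu hv hs).comm h.w hv
  rw [← hwe] at h2
  rw [← h2, mul_inv_cancel_right]

end SwIn

end Cfsg.Agent.Cit.Nil.ROne
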