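import Cfsg.Agent.Cit.Nil.ROne.NPair
import Cfsg.Agent.Cit.Nil.ROne.TwinB

/-!
# `r = 1`, (6.5): `t_z = t_x` for N-pairs
-/

set_option autoImplicit false
set_option linter.unusedSectionVars false

namespace Cfsg.Agent.Cit.Nil.ROne

open Subgroup Cfsg Cit

variable {G : Type*} [Group G] {Z : Set G} {K : G → Subgroup G} {z x : G}

namespace SwIn

variable (h : SwIn Z K)

include h

theorem sw : Sw Z K := fun _ hu _ hv hs _ hy => h.move_ne hu hv hs hy

theorem tt_mem_Ep (hz : z ∈ Z) : tt Z K z ∈ Ep Z K z := by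
  by_cases h1 : ∃ v ∈ Z, CSw K z v
  · obtain ⟨v, hv, hs⟩ := h1
    obtain ⟨h2, h3⟩ := h.tt_prod hz hv hs
    rw [h2]
    exact mul_mem_Ep (Tw.refl hz) h3
  · rw [tt_of_not h1]
    exact one_mem _

/-- **(6.5)** -/
theorem tt_np [Finite G] (hz : z ∈ Z) (hx : x ∈ Z) (hn : NP K z x) : tt Z K z = tt Z K x :=
  h.w.t_eq h.sw (fun _ hz g => h.tt_conj hz g) (fun _ hz => h.tt_mem_Ep hz) hz hx hn

end SwIn

end Cfsg.Agent.Cit.Nil.ROne
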