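import Cfsg.Agent.Cit.Nil.ROne.TwinA
import Cfsg.Agent.Cit.Nil.ROne.TwinB
import Cfsg.Agent.Cit.Nil.ROne.SwapN

/-!
# `r = 1`: the inputs of `TwinB` are satisfied; the world without C-swaps

* `W.swIn` : `W Z K`, one class, CLAIM S, AN(s) for `s ∈ T_S#` give `SwIn Z K`;
* `W.dich_comm` : `x, y ∈ Z(s)` commute, or `(x, y)` is a C-swap (`(2.4)`, `(2.5)`);
* `W.comm_of_no_swap` : without C-swaps the elements of `Z(s)` commute;
* `W.comm_TT` : without C-swaps, `v ∈ Z` permuting `C_S` centralises `T_S`.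
-/

set_option autoImplicit false
set_option linter.unusedSectionVars false
set_option linter.unusedVariables false

namespace Cfsg.Agent.Cit.Nil.ROne

open Subgroup Cfsg Cit

variable {G : Type*} [Group G] [Finite G] {Z : Set G} {K : G → Subgroup G} {z u v x y g s n : G}

namespace W

theorem swIn (h : W Z K) (hone : OneCls Z) (cS : ClS Z K) (ha : ANT Z K) : SwIn Z K where
  w := h
  com u hu v hv hne hc := h.csymm hu hv hne hc
  symm u hu v hv hs := h.csw_symm hu hv hs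
  mem_or u hu v hv hs x hx hc := h.swap_or ha hu hv hs hx hc
  act u hu v hv hs n hn := h.swap_act ha hu hv hs hn
  cent u hu v hv hs n hn hc := h.swap_cent ha hu hv hs hn hc
  inn u hu v hv hs n hn hc := h.swap_inn ha hu hv hs hn hc
  tri a ha' b hb hab u hu v hv v' hv' hs hs' h1 h2 h3 :=
    h.swap_uniq (h.swap_an ha ha' hb hab) hu hv hv' hs hs' h1 h2 h3
  twin u hu v hv hs := h.tw_of_swap cS hone hu hv hs (h.an_Z ha hu) (h.swap_an ha hu hv hs) (h.swap_mem ha hu hv hs)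

/-- two elements of `Z(s)` commute or form a C-swap -/
theorem dich_comm (h : W Z K) (hAN : AN Z K s) (hx : x ∈ ZC Z K s) (hy : y ∈ ZC Z K s) :
    x * y = y * x ∨ CSw K x y := by
  by_cases hc : x * y = y * x
  · exact Or.inl hc
  right
  have c : S2 Z K s x := ⟨h, hAN, hx⟩
  have h1 : y * x ≠ x * y := fun h1 => hc h1.symm
  refine c.csw (c.mem_of_ne hy self_mem_NC h1) ?_
  rwa [Ne, mul_inv_eq_iff_eq_mul]

/-- (Λ0) : the elements of `Z(s)` commute -/
theorem comm_of_no_swap (h : W Z K) (hn : ∀ a ∈ Z, ∀ b ∈ Z, ¬ CSw K a b) (hAN : AN Z K s) (hx : x ∈ ZC Z K s)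
    (hy : y ∈ ZC Z K s) : x * y = y * x :=
  (h.dich_comm hAN hx hy).resolve_right (hn x hx.1 y hy.1)

/-- (Λ0) : `v ∈ Z` permuting `C_S` centralises `T_S` -/
theorem comm_TT (h : W Z K) (hn : ∀ a ∈ Z, ∀ b ∈ Z, ¬ CSw K a b) {S : Subgroup G} (hS : IsPGroup 2 S)
    (hv : v ∈ Z) (hp : ∀ z ∈ CS Z K S, v * z * v⁻¹ ∈ CS Z K S) (hx : x ∈ TT Z K S) : v * x = x * v := by
  refine closure_induction (p := fun x _ => v * x = x * v) ?_ (by simp) ?_ ?_ hx
  · intro z hz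
    by_contra hc
    have h1 : v * z * v⁻¹ ≠ z := by rwa [Ne, mul_inv_eq_iff_eq_mul]
    have h2 := hp z hz
    exact hn z hz.1 v hv (h.com hz.1 h2.1 hS hz.2 h2.2 h1.symm)
  · intro a b _ _ h1 h2
    rw [← mul_assoc, h1, mul_assoc, h2, mul_assoc]
  · intro a _ h1
    rw [eq_inv_mul_iff_mul_eq, ← mul_assoc, ← h1, mul_inv_cancel_right]

/-- the two worlds -/
theorem worlds (h : W Z K) (hone : OneCls Z) :
    (∀ a ∈ Z, ∀ b ∈ Z, ¬ CSw K a b) ∨ ∀ u ∈ Z, ∃ v ∈ Z, CSw K u v := by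
  by_cases h1 : ∃ a ∈ Z, ∃ b ∈ Z, CSw K a b
  · right
    obtain ⟨a, ha, b, hb, hs⟩ := h1
    intro u hu
    obtain ⟨g, rfl⟩ := hone a ha u hu
    exact ⟨_, h.conjZ b hb g, h.csw_conj ha hs g⟩
  · left
    intro a ha b hb hs
    exact h1 ⟨a, ha, b, hb, hs⟩

end W

end Cfsg.Agent.Cit.Nil.ROne
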