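import Cfsg.Agent.Cit.Nil.ROne.GraphC
import Cfsg.Agent.Cit.Nil.ROne.TwinEnd
import Cfsg.Agent.Cit.Nil.ROne.NPairT
import Cfsg.Agent.Cit.Nil.ROne.KapOne
import Cfsg.Agent.Cit.Nil.ROne.EndG0

/-!
# (6b), `r = 1`: the three worlds, sections 2 - 9 of helper545's text together

`W Z K`, one class, (C3), CLAIM S (`ClS`), AN(s) for `s ∈ T_S#` (`ANT`):

* `W.gd` : `GD Z K`;
* `W.wone_tt` (C-swaps exist), `W.wone_Ep` (no C-swaps, `κ ≥ 2`), `W.wtwo` (no C-swaps, `κ = 1`);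
* `W.exists_closed` : a nontrivial commutative subgroup of `⟨Z⟩`, strongly closed in `S`, if `|C_S| ≥ 2`;
* `W.false_of_ant` : **THEOREM R1** (CLAIM S assumed): `F*(G) = G0` simple, `|C_S| ≥ 2`: contradiction.
-/

set_option autoImplicit false
set_option linter.style.haveILetI false
set_option linter.unusedSectionVars false

namespace Cfsg.Agent.Cit.Nil.ROne

open Subgroup Cfsg Cit

variable {G : Type*} [Group G] [Finite G] {Z : Set G} {K : G → Subgroup G} {z u v g x y s : G}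

namespace W

variable (h : W Z K) (hone : OneCls Z) (cS : ClS Z K) (ha : ANT Z K)

include h hone cS ha

/-- the input of section 8 -/
theorem gd : GD Z K where
  w := h
  two_four s hs y hy x hx h1 h2 := by
    obtain ⟨hs1, S, hS⟩ := hs
    exact h.nc_in_or (ha S s hS hs1) ⟨hy, h1⟩ ⟨hx, h2⟩
  two_five s hs y hy h1 n hn := by
    obtain ⟨hs1, S, hS⟩ := hs
    by_cases h2 : n * y * n⁻¹ = y
    · exact Or.inl h2
    · exact Or.inr (h.nc_csw (ha S s hS hs1) ⟨hy, h1⟩ hn h2)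
  twin u hu v hv hs := (h.swIn hone cS ha).twin u hu v hv hs
  five_eight u hu v hv hs := by
    rw [← (h.swIn hone cS ha).tt_eq hu hv hs]
    exact (h.swIn hone cS ha).tt_not_mem hone hu hv hs

/-- C-swaps exist -/
theorem wone_tt (hsw : ∀ u ∈ Z, ∃ v ∈ Z, CSw K u v) : WOne Z K fun z => zpowers (tt Z K z) where
  eqv z hz g := by
    rw [(h.swIn hone cS ha).tt_conj hz g]
    exact (MonoidHom.map_zpowers (MulAut.conj g).toMonoidHom _).symm
  ne z hz := by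
    obtain ⟨v, hv, hs⟩ := hsw z hz
    rw [Ne, zpowers_eq_bot]
    exact (h.swIn hone cS ha).tt_ne hz hv hs
  le z hz := by
    obtain ⟨v, hv, hs⟩ := hsw z hz
    obtain ⟨h1, h2⟩ := (h.swIn hone cS ha).tt_prod hz hv hs
    rw [zpowers_le, h1]
    exact mul_mem (subset_closure (Tw.refl hz)) (subset_closure h2)
  np z hz x hx hn := by rw [(h.swIn hone cS ha).tt_np hz hx hn]
  tw z hz x hn := by rw [(h.swIn hone cS ha).tt_tw hz hn]
  sw z hz x hx hn := by rw [(h.swIn hone cS ha).tt_swap hz hx hn]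

/-- no C-swaps, `κ ≥ 2` -/
theorem wone_Ep (hsw : ∀ u ∈ Z, ∀ v ∈ Z, ¬ CSw K u v) (htw : ∃ a ∈ Z, ∃ b, Tw Z K a b ∧ b ≠ a) :
    WOne Z K (Ep Z K) where
  eqv z hz g := h.Ep_conj hz g
  ne z hz := by
    obtain ⟨a, ha', b, hb, hab⟩ := htw
    obtain ⟨g, rfl⟩ := hone a ha' z hz
    have h1 := h.tw_conj ha' hb g
    intro h2
    have h3 : g * a * g⁻¹ * (g * b * g⁻¹) ∈ Ep Z K (g * a * g⁻¹) := mul_mem_Ep (Tw.refl hz) h1
    rw [h2, mem_bot] at h3
    have h4 := eq_inv_of_mul_eq_one_right h3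
    rw [h.inv hz] at h4
    exact hab (mul_left_cancel (mul_right_cancel h4))
  le z _ := by
    refine (closure_le _).2 ?_
    rintro _ ⟨y₁, y₂, h1, h2, rfl⟩
    exact mul_mem (subset_closure h1) (subset_closure h2)
  np z hz x hx hn := h.Ep_eq (h.swIn hone cS ha).sw hz hx hn
  tw z _ x hn := Ep_tw hn
  sw z hz x hx hn := absurd hn (hsw z hz x hx)

/-- `κ = 1` : (R)(z,u) never holds -/
theorem kap (htw : ∀ a ∈ Z, ∀ b, Tw Z K a b → b = a) (hz : z ∈ Z) (hu : u ∈ Z) (hzu : CP K z u) :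
    ∃ g, Cen K g z ∧ g * u = u * g ∧ ¬ ∃ t ∈ K u, ∀ k ∈ K u, g * k * g⁻¹ = t * k * t⁻¹ := by
  by_contra hcon
  push Not at hcon
  have hR : RR K z u := fun g h1 h2 => hcon g h1 h2
  exact hzu.1 (htw z hz u (h.tw_of_RR cS hone (h.an_Z ha hz) hz hu hzu hR)).symm

/-- no C-swaps, `κ = 1` -/
theorem wtwo (c3 : C3 Z K) (hsw : ∀ u ∈ Z, ∀ v ∈ Z, ¬ CSw K u v) (htw : ∀ a ∈ Z, ∀ b, Tw Z K a b → b = a) :
    WTwo Z K where
  sw := hsw
  tw := htw
  nl _ hu _ he _ hx hc h1 h2 :=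
    (KIn.of h c3 ha hsw (fun _ hz _ hu hzu => h.kap hone cS ha htw hz hu hzu)).no_linked hu he hx hc h1.symm h2.symm

/-- **sections 2 - 9** : a strongly closed commutative subgroup -/
theorem exists_closed (c3 : C3 Z K) (S : Sylow 2 G) (hz : z ∈ CS Z K S) (hu : u ∈ CS Z K S) (hzu : z ≠ u) :
    ∃ A : Subgroup G, A ≠ ⊥ ∧ (∀ x ∈ A, ∀ y ∈ A, x * y = y * x) ∧ A ≤ closure Z ∧
      IsStronglyClosed A (S : Subgroup G) := by
  have hgd := h.gd hone cS ha
  have key : ∀ E : G → Subgroup G, WOne Z K E → ∃ A : Subgroup G, A ≠ ⊥ ∧ (∀ x ∈ A, ∀ y ∈ A, x * y = y * x) ∧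
      A ≤ closure Z ∧ IsStronglyClosed A (S : Subgroup G) := by
    intro E o
    obtain ⟨A, hA1, hAT, hA2, -⟩ := o.exists_closed hgd hone S hz
    refine ⟨A, hA1, fun x hx y hy => h.TT_comm S.isPGroup' (hAT hx) (hAT hy), hAT.trans ?_, hA2⟩
    exact closure_mono fun x hx => hx.1
  rcases h.worlds hone with hsw | hsw
  · by_cases htw : ∃ a ∈ Z, ∃ b, Tw Z K a b ∧ b ≠ a
    · exact key _ (h.wone_Ep hone cS ha hsw htw)
    · push Not at htw
      obtain ⟨A, hA, hA1, hAc, -, hA2⟩ := (h.wtwo hone cS ha c3 hsw htw).exists_closed hgd hone S hz hu hzu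
      refine ⟨A, hA1, hAc, ?_, hA2⟩
      rw [hA]
      exact closure_mono fun x hx => hx.1
  · exact key _ (h.wone_tt hone cS ha hsw)

/-- **THEOREM R1** of helper545's text (CLAIM S assumed) -/
theorem false_of_ant {G0 : Subgroup G} (c3 : C3 Z K) (f : FSimp G0) (hZ : ∀ z ∈ Z, z ∈ G0) (gold : Cit.ROne.Gold G0)
    (hB : CloEnd.Bend G0) (S : Sylow 2 G) (hz : z ∈ CS Z K S) (hu : u ∈ CS Z K S) (hzu : z ≠ u) : False := by
  obtain ⟨A, hA, hAc, hAZ, hsc⟩ := h.exists_closed hone cS ha c3 S hz hu hzu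
  exact h.false_of_closed hone c3 f hZ S hz hu hzu gold hB hA (hAZ.trans ((closure_le _).2 hZ)) hAc hsc

end W

end Cfsg.Agent.Cit.Nil.ROne
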