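import Cfsg.Agent.Cit.Nil.Comp.ProdAll
import Cfsg.Agent.Cit.Nil.AN.Main
import Cfsg.Agent.Cit.Nil.ROne.Worlds
import Cfsg.Agent.Cit.Nil.ROne.ClaimS

/-!
# S1309 (6b), `r = 1`: the world without the hypothesis `¬ Cl G`

`WorldN Z K` : `ROne.World` without the field `ncl`.

* `WorldN.noCl`, `WorldN.three_of_nil` (`m ≥ 3` for nil C-pairs), `WorldN.false_of_nil` (all C-pairs nil and `T'` :
  contradiction), `WorldN.false_of_frames` (frames, the product situation: contradiction);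
* `WorldN.allOne` : what is left: `AllOne Z K`.
-/

set_option autoImplicit false
set_option linter.style.haveILetI false
set_option linter.unusedSectionVars false

namespace Cfsg.Agent.Cit.Nil.ROne

open Subgroup Cfsg Cfsg.Agent.Cit Cfsg.Agent.OddOrderLocal.NilParts
open Cfsg.Agent.Cit.Nil.Comp (TP AllOne PW PE Fram klOf sgOf)

/-- `World` without `ncl` -/
structure WorldN {G : Type*} [Group G] [Finite G] (Z : Set G) (K : G → Subgroup G) : Prop extends AssemblyNil.FS G where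
  w : W Z K
  c3 : C3 Z K
  one : OneCls Z
  free : ∀ t : G, orderOf t = 2 → centralizerPPrimeCore 2 t = ⊥
  /-- `|Om(S)| ≥ 2` -/
  two : ∃ S : Sylow 2 G, ∃ z ∈ Z, ∃ u ∈ Z, z ≠ u ∧ K z ≤ S ∧ K u ≤ S

namespace WorldN

variable {G : Type*} [Group G] [Finite G] {Z : Set G} {K : G → Subgroup G} {z x g s : G}

section

variable (w : WorldN Z K)

include w

theorem fsimp : FSimp (generalizedFittingSubgroup G) := FSimp.of_fs w.toFS

theorem mem_fstar (hz : z ∈ Z) : z ∈ generalizedFittingSubgroup G := w.w.mem_fstar w.toFS hz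

/-- two members in every Sylow subgroup -/
theorem exists_two (S : Sylow 2 G) : ∃ z ∈ CS Z K (S : Subgroup G), ∃ u ∈ CS Z K (S : Subgroup G), z ≠ u := by
  haveI : Fact (Nat.Prime 2) := ⟨Nat.prime_two⟩
  obtain ⟨S', z, hz, u, hu, hne, h1, h2⟩ := w.two
  obtain ⟨g, hg⟩ := MulAction.exists_smul_eq G S' S
  have hS : (S : Subgroup G) = cj g (S' : Subgroup G) := by
    rw [← hg]
    rfl
  refine ⟨g * z * g⁻¹, ?_, g * u * g⁻¹, ?_, fun he => hne (by simpa using he)⟩
  · rw [hS]; exact (w.w.cj_CS g S' hz).2 ⟨hz, h1⟩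
  · rw [hS]; exact (w.w.cj_CS g S' hu).2 ⟨hu, h2⟩

theorem false_of_closed (gold : Cit.ROne.Gold ↥(generalizedFittingSubgroup G))
    (hB : CloEnd.Bend ↥(generalizedFittingSubgroup G)) (S : Sylow 2 G) {A : Subgroup G} (hA : A ≠ ⊥)
    (hAZ : A ≤ closure Z) (hc : ∀ x ∈ A, ∀ y ∈ A, x * y = y * x) (hsc : IsStronglyClosed A (S : Subgroup G)) :
    False := by
  have hsub : ∀ z ∈ Z, z ∈ generalizedFittingSubgroup G := fun z hz => w.mem_fstar hz
  obtain ⟨z, hz, u, hu, hne⟩ := w.exists_two S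
  exact w.w.false_of_closed w.one w.c3 w.fsimp hsub S hz hu hne gold hB hA (hAZ.trans ((closure_le _).2 hsub)) hc hsc

theorem noCl (gold : Cit.ROne.Gold ↥(generalizedFittingSubgroup G))
    (hB : CloEnd.Bend ↥(generalizedFittingSubgroup G)) (S : Sylow 2 G) : AN.NoCl Z (S : Subgroup G) :=
  fun _ hA hAZ hc hsc => w.false_of_closed gold hB S hA hAZ hc hsc

/-- `O(C(t)) = 1` -/
theorem oddCore_cent {t : G} (ht : orderOf t = 2) : oddCore (centralizer {t}) = ⊥ := by
  have h1 := w.free t ht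
  unfold centralizerPPrimeCore at h1
  exact (Subgroup.map_eq_bot_iff_of_injective _ (Subgroup.subtype_injective _)).1 h1

/-- `O(G) = 1` -/
theorem oddCore_eq_bot : oddCore G = ⊥ := by
  haveI : Fact (Nat.Prime 2) := ⟨Nat.prime_two⟩
  by_contra hne
  have hn : (oddCore G).Normal := inferInstance
  have h1 := w.fsimp.le (N := oddCore G) (fun g _ n hn' => hn.conj_mem n hn' g) hne
  have h2 : (Nat.card (oddCore G)).Coprime 2 := Lib.Cores.pPrimeCore_coprime 2
  have h3 := w.even.trans (card_dvd_of_le h1)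
  have h4 := Nat.dvd_gcd h3 (dvd_refl 2)
  rw [h2] at h4
  omega

/-- **`m = 2` with nil C-pairs is impossible** -/
theorem mtwo_false (hnil : NilP Z K) (h2 : ∃ S : Sylow 2 G, (CS Z K (S : Subgroup G)).ncard = 2)
    (hstr : CloEnd.Crit1174 ↥(generalizedFittingSubgroup G)) : False := by
  obtain ⟨S0, hS0⟩ := h2
  have hM := w.w.toMTwo w.one hnil w.c3 fun S => (w.w.ncard_CS S S0).trans hS0
  obtain ⟨-, z, hz, -⟩ := w.two
  refine hM.false_of ⟨z, hz⟩ (X := generalizedFittingSubgroup G) w.fsimp.nor w.simple w.na w.fsimp.cen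
    (fun z hz => w.mem_fstar hz) hstr w.oddCore_eq_bot fun z u he => w.oddCore_cent ?_
  exact orderOf_eq_prime (by rw [pow_two]; exact hM.prod_sq he) (hM.prod_ne he)

/-- **`m ≥ 3`** -/
theorem three_of_nil (hnil : NilP Z K) (hstr : CloEnd.Crit1174 ↥(generalizedFittingSubgroup G))
    (S : Sylow 2 G) : 3 ≤ (CS Z K (S : Subgroup G)).ncard := by
  by_contra hcon
  obtain ⟨T, z, hz, u, hu, hne, h1, h2⟩ := w.two
  have h3 : ({z, u} : Set G) ⊆ CS Z K (T : Subgroup G) := by
    intro x hx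
    rcases hx with rfl | rfl
    · exact ⟨hz, h1⟩
    · exact ⟨hu, h2⟩
  have h4 := Set.ncard_le_ncard h3 (Set.toFinite _)
  rw [Set.ncard_pair hne, w.w.ncard_CS T S] at h4
  exact w.mtwo_false hnil ⟨S, by omega⟩ hstr

/-- an odd normal subgroup of `C(t)` is trivial -/
theorem odd_eq_bot {t : G} (ht : orderOf t = 2) {N : Subgroup G} (hN : N ≤ centralizer {t})
    (hn : centralizer {t} ≤ normalizer (N : Set G)) (ho : Odd (Nat.card N)) : N = ⊥ := by
  have h1 := w.oddCore_cent ht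
  have h2 : (N.subgroupOf (centralizer {t})).Normal := (normal_subgroupOf_iff_le_normalizer hN).2 hn
  have h3 : Nat.card (N.subgroupOf (centralizer {t})) = Nat.card N :=
    Nat.card_congr (subgroupOfEquivOfLe hN).toEquiv
  have h4 : N.subgroupOf (centralizer {t}) ≤ oddCore (centralizer {t}) :=
    Lib.Cores.le_pPrimeCore h2 (by rw [h3]; exact Nat.Coprime.symm (Nat.coprime_two_left.2 ho))
  rw [h1, le_bot_iff, subgroupOf_eq_bot] at h4
  exact (disjoint_iff.1 h4).symm ▸ (inf_eq_left.2 hN).symm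

theorem pw (tp : TP Z K) (fr : ∀ z ∈ Z, ∃ F, Comp.Frm Z K F ∧ ∃ A ∈ F, z ∈ A) : PW Z K where
  w := w.w
  tp := tp
  fr := fr
  cf _ hz _ h1 h2 h3 := w.odd_eq_bot (w.w.ord hz) h1 h2 h3

/-- **the product situation is impossible** -/
theorem false_of_frames (tp : TP Z K) (fr : ∀ z ∈ Z, ∃ F, Comp.Frm Z K F ∧ ∃ A ∈ F, z ∈ A)
    (gold : Cit.ROne.Gold ↥(generalizedFittingSubgroup G)) (hB : CloEnd.Bend ↥(generalizedFittingSubgroup G))
    (h75 : CloEnd.Crit1175 ↥(generalizedFittingSubgroup G)) : False := by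
  have p := w.pw tp fr
  have f := p.fram w.c3
  have m2 : ∀ S : Sylow 2 G, Comp.MTwo Z K (S : Subgroup G) := fun S =>
    f.mTwo p.w S fun z hz u hu hc N h1 h2 h3 => by
      refine w.odd_eq_bot ?_ h1 h2 h3
      have hcm := p.w.comm_of_cp hz hu hc
      refine orderOf_eq_prime ?_ (p.w.cp_mul_ne hu hc)
      rw [pow_two]
      calc z * u * (z * u) = z * (u * z) * u := by group
        _ = z * (z * u) * u := by rw [hcm]
        _ = (z * z) * (u * u) := by group
        _ = 1 := by rw [p.w.sq z hz, p.w.sq u hu, one_mul]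
  obtain ⟨S, z, hz, -⟩ := w.two
  exact (PE.of_fram p f hz m2).false_of w.one w.c3 w.fsimp (fun z hz => w.mem_fstar hz) gold hB h75

/-- **all C-pairs nil: impossible** -/
theorem false_of_nil (tp : TP Z K) (hnil : NilP Z K) (gold : Cit.ROne.Gold ↥(generalizedFittingSubgroup G))
    (hB : CloEnd.Bend ↥(generalizedFittingSubgroup G)) (h74 : CloEnd.Crit1174 ↥(generalizedFittingSubgroup G)) :
    False := by
  have ant : ANT Z K := AN.ant w.w w.one hnil (w.three_of_nil hnil h74) (fun S s hs hs1 z hz =>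
    tp S s hs hs1 z ⟨hz.1, w.w.TT_cen S.isPGroup' hz hs⟩) (w.noCl gold hB)
  obtain ⟨S, z0, hz0, -⟩ := w.two
  obtain ⟨z, hz, u, hu, hne⟩ := w.exists_two S
  exact w.w.false_of_ant w.one (w.w.cl_s ant) ant w.c3 w.fsimp (fun z hz => w.mem_fstar hz) gold hB S hz hu hne

/-- the trichotomy, two branches closed -/
theorem allOne (tp : TP Z K) (gold : Cit.ROne.Gold ↥(generalizedFittingSubgroup G))
    (hB : CloEnd.Bend ↥(generalizedFittingSubgroup G)) (h74 : CloEnd.Crit1174 ↥(generalizedFittingSubgroup G))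
    (h75 : CloEnd.Crit1175 ↥(generalizedFittingSubgroup G)) : AllOne Z K := by
  rcases Comp.trich w.w w.one tp with h1 | h1 | h1
  · exfalso
    refine w.false_of_nil tp (fun z hz u hu hc => ?_) gold hB h74
    exact ⟨oP 2 (centralizer {z}), oP_le 2 _, le_normalizer_oP 2 _, isPGroup_oP 2 _, h1 z hz u hu hc⟩
  · exact (w.false_of_frames tp h1 gold hB h75).elim
  · exact h1

end

end WorldN

end Cfsg.Agent.Cit.Nil.ROne
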