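import Cfsg.Agent.Cit.Nil.ROne.StrongCount
import Cfsg.Agent.Cit.Defs
import Cfsg.Prelude.Def_TwoFusion

/-!
# (6b), `r = 1`: the strongly closed subgroup (helper545, section 9)

`strong` : `S ≤ M`, `S` a Sylow 2-subgroup of `G`; `CS` a nonempty set of involutions `z` in quaternion subgroups
`K z ≤ S` of order 8, pairwise commuting, permuted by `S`;

* (P1) `z ∈ CS`, `x z x⁻¹ ∈ M`, then `x ∈ M`;
* (P2) `C(h) ≤ M` for `1 ≠ h ∈ ⟨CS⟩`;
* `A ≤ S` normal in `M`, with `a² = 1` for `a ∈ A`, and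
* (P3) for `1 ≠ a ∈ A`, every 2-subgroup of `C(a)` has a `C(a)`-conjugate in `M`.

Then `A` is strongly closed in `S`.
-/

set_option autoImplicit false
set_option linter.style.haveILetI false
set_option linter.unusedSectionVars false

namespace Cfsg.Agent.Cit.Nil.ROne.Strong

open Subgroup Cfsg Cit QuaternionGroup QEight StrongCount

variable {G : Type*} [Group G]

/-- the index of a stabiliser -/
theorem index_le {P : Type*} [Group P] [Finite G] (Φ : P →* G) (z : G) (CS : Set G)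
    (h : ∀ p, Φ p * z * (Φ p)⁻¹ ∈ CS) : ((centralizer {z}).comap Φ).index ≤ Nat.card CS := by
  have hrel : ∀ p q : P, (QuotientGroup.leftRel ((centralizer {z}).comap Φ)) p q →
      (⟨Φ p * z * (Φ p)⁻¹, h p⟩ : CS) = ⟨Φ q * z * (Φ q)⁻¹, h q⟩ := by
    intro p q hpq
    rw [QuotientGroup.leftRel_apply, mem_comap, mem_centralizer_singleton_iff, map_mul, map_inv] at hpq
    refine Subtype.ext ?_
    change Φ p * z * (Φ p)⁻¹ = Φ q * z * (Φ q)⁻¹
    have h1 : Φ q * z = Φ p * z * ((Φ p)⁻¹ * Φ q) := by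
      rw [mul_assoc (Φ p), ← hpq]; group
    rw [h1]; group
  have hinj : Function.Injective (Quotient.lift (fun p => (⟨Φ p * z * (Φ p)⁻¹, h p⟩ : CS)) hrel :
      (P ⧸ (centralizer {z}).comap Φ) → CS) := by
    rintro ⟨p⟩ ⟨q⟩ hpq
    refine Quotient.sound ?_
    change (QuotientGroup.leftRel ((centralizer {z}).comap Φ)) p q
    rw [QuotientGroup.leftRel_apply, mem_comap, mem_centralizer_singleton_iff, map_mul, map_inv]
    have h1 : Φ p * z * (Φ p)⁻¹ = Φ q * z * (Φ q)⁻¹ := congrArg Subtype.val hpq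
    have h2 : z * ((Φ p)⁻¹ * Φ q) = (Φ p)⁻¹ * (Φ p * z * (Φ p)⁻¹) * Φ q := by group
    rw [h2, h1]; group
  exact Nat.card_le_card_of_injective _ hinj

/-- evaluation on central elements -/
theorem pi_coe {T ι : Type*} [CommGroup T] [Fintype ι] (f : T →* G) (δ : ι → Q →* G)
    (hcom : Pairwise fun i j : ι => ∀ (x y : Q), Commute (δ i x) (δ j y)) (τ : ι → T)
    (h : ∀ i, δ i (a 2) = f (τ i)) (x : ι → ℕ) :
    MonoidHom.noncommPiCoprod δ hcom (fun i => (a 2 : Q) ^ x i) = f (∏ i, τ i ^ x i) := by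
  rw [MonoidHom.noncommPiCoprod_apply, ← Finset.noncommProd_eq_prod]
  have h1 : ∀ i ∈ Finset.univ, δ i ((a 2 : Q) ^ x i) = f (τ i ^ x i) := fun i _ => by
    rw [map_pow, map_pow, h]
  exact (Finset.noncommProd_congr rfl h1 _).trans
    (Finset.map_noncommProd Finset.univ (fun i => τ i ^ x i) (fun _ _ _ _ _ => Commute.all _ _) f).symm

/-- Sylow's theorem in `M ≥ S` -/
theorem exists_cj_le [Finite G] (S : Sylow 2 G) {M : Subgroup G} (hSM : (S : Subgroup G) ≤ M) {R : Subgroup G}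
    (hR : IsPGroup 2 R) (hRM : R ≤ M) : ∃ m ∈ M, cj m R ≤ (S : Subgroup G) := by
  haveI : Fact (Nat.Prime 2) := ⟨Nat.prime_two⟩
  have h1 : IsPGroup 2 (R.subgroupOf M) := hR.comap_subtype
  obtain ⟨P, hP⟩ := h1.exists_le_sylow
  obtain ⟨m, hm⟩ := MulAction.exists_smul_eq M P (S.subtype hSM)
  refine ⟨m, m.2, fun y hy => ?_⟩
  rw [mem_cj] at hy
  have h2 : (⟨(m : G)⁻¹ * y * m, hRM hy⟩ : M) ∈ (P : Subgroup M) := hP (mem_subgroupOf.2 hy)
  have h3 : m * (⟨(m : G)⁻¹ * y * m, hRM hy⟩ : M) * m⁻¹ ∈ ((m • P : Sylow 2 M) : Subgroup M) := by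
    rw [Sylow.coe_subgroup_smul]
    exact ⟨_, h2, rfl⟩
  rw [hm] at h3
  have h4 : ((m * (⟨(m : G)⁻¹ * y * m, hRM hy⟩ : M) * m⁻¹ : M) : G) = y := by
    change (m : G) * ((m : G)⁻¹ * y * m) * (m : G)⁻¹ = y
    group
  rw [← h4]
  exact h3

/-- representatives of the pairs of a fixed point free involution -/
theorem exists_reps [Finite G] (CS : Set G) (σ : G → G) (hσ : ∀ z ∈ CS, σ z ∈ CS) (hσσ : ∀ z ∈ CS, σ (σ z) = z)
    (hne : ∀ z ∈ CS, σ z ≠ z) : ∃ I : Set G, I ⊆ CS ∧ (∀ z ∈ I, ∀ u ∈ I, z ≠ σ u) ∧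
      Nat.card CS ≤ 2 * Nat.card I := by
  classical
  let e : G → ℕ := fun g => (Finite.equivFin G g : ℕ)
  have he : ∀ x y : G, e x = e y → x = y := fun x y hxy => (Finite.equivFin G).injective (Fin.ext hxy)
  refine ⟨{z | z ∈ CS ∧ e z < e (σ z)}, fun z hz => hz.1, ?_, ?_⟩
  · rintro z ⟨hz, hz1⟩ u ⟨hu, hu1⟩ hzu
    have h1 : σ z = u := by rw [hzu, hσσ u hu]
    rw [h1] at hz1
    rw [← hzu] at hu1
    omega
  · let I : Set G := {z | z ∈ CS ∧ e z < e (σ z)}
    have hcov : CS ⊆ I ∪ σ '' I := by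
      intro z hz
      rcases lt_trichotomy (e z) (e (σ z)) with h1 | h1 | h1
      · exact Or.inl ⟨hz, h1⟩
      · exact absurd (he _ _ h1).symm (hne z hz)
      · exact Or.inr ⟨σ z, ⟨hσ z hz, by rwa [hσσ z hz]⟩, hσσ z hz⟩
    rw [Nat.card_coe_set_eq, Nat.card_coe_set_eq]
    calc CS.ncard ≤ (I ∪ σ '' I).ncard := Set.ncard_le_ncard hcov (Set.toFinite _)
      _ ≤ I.ncard + (σ '' I).ncard := Set.ncard_union_le _ _
      _ ≤ I.ncard + I.ncard := Nat.add_le_add_left (Set.ncard_image_le (Set.toFinite _)) _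
      _ = 2 * I.ncard := by ring

/-- the data on `CS` -/
structure Data (S : Subgroup G) (CS : Set G) (K : G → Subgroup G) : Prop where
  sq : ∀ z ∈ CS, z * z = 1
  ne : ∀ z ∈ CS, z ≠ 1
  mem : ∀ z ∈ CS, z ∈ K z
  le : ∀ z ∈ CS, K z ≤ S
  q8 : ∀ z ∈ CS, Nonempty (K z ≃* QuaternionGroup 2)
  comm : ∀ z ∈ CS, ∀ u ∈ CS, z ≠ u → ∀ a ∈ K z, ∀ b ∈ K u, a * b = b * a
  conjZ : ∀ s ∈ S, ∀ z ∈ CS, s * z * s⁻¹ ∈ CS
  conjK : ∀ s ∈ S, ∀ z ∈ CS, K (s * z * s⁻¹) = cj s (K z)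

namespace Data

variable {S : Subgroup G} {CS : Set G} {K : G → Subgroup G} (d : Data S CS K)

include d

theorem e_z {z : G} (hz : z ∈ CS) (e : K z ≃* Q) : e ⟨z, d.mem z hz⟩ = a 2 := by
  have h1 : ∀ x : Q, x * x = 1 → x ≠ 1 → x = a 2 := by decide
  apply h1
  · rw [← map_mul, ← map_one e]
    exact congrArg e (Subtype.ext (d.sq z hz))
  · intro h2
    rw [← map_one e] at h2
    exact d.ne z hz (congrArg Subtype.val (e.injective h2))

/-- `CS` centralises all `K z` -/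
theorem cen {z u : G} (hz : z ∈ CS) (hu : u ∈ CS) {k : G} (hk : k ∈ K u) : z * k = k * z := by
  by_cases h : z = u
  · subst h
    obtain ⟨e⟩ := d.q8 z hz
    have h1 : ∀ x : Q, a 2 * x = x * a 2 := by decide
    have h2 := h1 (e ⟨k, hk⟩)
    rw [← d.e_z hz e, ← map_mul, ← map_mul] at h2
    exact congrArg Subtype.val (e.injective h2)
  · exact d.comm z hz u hu h z (d.mem z hz) k hk

theorem cenT {t u : G} (ht : t ∈ closure CS) (hu : u ∈ CS) {k : G} (hk : k ∈ K u) : t * k = k * t := by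
  induction ht using closure_induction with
  | mem x hx => exact d.cen hx hu hk
  | one => rw [one_mul, mul_one]
  | mul x y _ _ hx hy => rw [mul_assoc, hy, ← mul_assoc, hx, mul_assoc]
  | inv x _ hx =>
    rw [inv_mul_eq_iff_eq_mul, ← mul_assoc, hx, mul_inv_cancel_right]

theorem commT {t t' : G} (ht : t ∈ closure CS) (ht' : t' ∈ closure CS) : t * t' = t' * t := by
  induction ht' using closure_induction with
  | mem x hx => exact d.cenT ht hx (d.mem x hx)
  | one => rw [one_mul, mul_one]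
  | mul x y _ _ hx hy => rw [← mul_assoc, hx, mul_assoc, hy, mul_assoc]
  | inv x _ hx =>
    rw [eq_inv_mul_iff_mul_eq, ← mul_assoc, ← hx, mul_inv_cancel_right]

theorem sqT {t : G} (ht : t ∈ closure CS) : t * t = 1 := by
  induction ht using closure_induction with
  | mem x hx => exact d.sq x hx
  | one => rw [one_mul]
  | mul x y hx' hy' hx hy =>
    have h1 := d.commT hx' hy'
    calc x * y * (x * y) = x * (y * x) * y := by group
      _ = (x * x) * (y * y) := by rw [← h1]; group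
      _ = 1 := by rw [hx, hy, one_mul]
  | inv x _ hx => rw [← mul_inv_rev, hx, inv_one]

theorem T_le : closure CS ≤ S := (closure_le S).2 fun z hz => d.le z hz (d.mem z hz)

/-- **the count** -/
theorem false_of {b w : G} (hne : CS.Nonempty) [Finite G] (hbS : b ∈ S) (hbb : b * b = 1)
    (hmove : ∀ z ∈ CS, b * z * b⁻¹ ≠ z)
    (hw : ∀ s ∈ S, s * b = b * s → w * s * w⁻¹ ∈ S)
    (hfree : ∀ h ∈ closure CS, h * b = b * h → h ≠ 1 → ∀ z ∈ CS, (w * h * w⁻¹) * z ≠ z * (w * h * w⁻¹)) :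
    False := by
  classical
  have hb1 : b⁻¹ = b := inv_eq_of_mul_eq_one_right hbb
  obtain ⟨I, hI, hIσ, hcard⟩ := exists_reps CS (fun z => b * z * b⁻¹) (fun z hz => d.conjZ b hbS z hz)
    (fun z _ => by
      have h1 : b * (b * z * b⁻¹) * b⁻¹ = (b * b) * z * (b * b)⁻¹ := by group
      rw [h1, hbb, one_mul, inv_one, mul_one])
    hmove
  haveI : Fintype I := Fintype.ofFinite _
  haveI : Nonempty I := by
    obtain ⟨z, hz⟩ := hne
    haveI : Nonempty CS := ⟨⟨z, hz⟩⟩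
    have h1 : 0 < Nat.card CS := Nat.card_pos
    by_contra h
    rw [not_nonempty_iff] at h
    have h2 : Nat.card I = 0 := Nat.card_of_isEmpty
    omega
  -- the group `T₀`
  let T₀ : Subgroup G := closure CS ⊓ centralizer {b}
  have hT₀ : ∀ t : T₀, (t : G) ∈ closure CS ∧ (t : G) * b = b * t := fun t =>
    ⟨t.2.1, mem_centralizer_singleton_iff.1 t.2.2⟩
  letI : CommGroup T₀ :=
    { (inferInstance : Group T₀) with
      mul_comm := fun x y => Subtype.ext (d.commT (hT₀ x).1 (hT₀ y).1) }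
  -- the diagonal maps
  have hK : ∀ i : I, ∀ k ∈ K i, b * k * b⁻¹ ∈ K (b * i * b⁻¹) := fun i k hk => by
    rw [d.conjK b hbS i (hI i.2)]
    exact conj_mem_cj hk
  have hcomK : ∀ i : I, ∀ k ∈ K i, ∀ l ∈ K i, (b * k * b⁻¹) * l = l * (b * k * b⁻¹) := fun i k hk l hl =>
    d.comm _ (d.conjZ b hbS i (hI i.2)) i (hI i.2) (hmove i (hI i.2)) _ (hK i k hk) l hl
  let e : ∀ i : I, Q ≃* K (i : G) := fun i => (d.q8 i (hI i.2)).some.symm
  let δ : ∀ _ : I, Q →* G := fun i =>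
    { toFun := fun q => (e i q : G) * (b * (e i q : G) * b⁻¹)
      map_one' := by simp
      map_mul' := fun p q => by
        have h1 := hcomK i (e i p) (e i p).2 (e i q) (e i q).2
        rw [map_mul]
        change ((e i p : G) * (e i q : G)) * (b * ((e i p : G) * (e i q : G)) * b⁻¹) = _
        calc ((e i p : G) * (e i q : G)) * (b * ((e i p : G) * (e i q : G)) * b⁻¹) =
            (e i p : G) * ((e i q : G) * (b * (e i p : G) * b⁻¹)) * (b * (e i q : G) * b⁻¹) := by group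
          _ = (e i p : G) * ((b * (e i p : G) * b⁻¹) * (e i q : G)) * (b * (e i q : G) * b⁻¹) := by rw [h1]
          _ = _ := by group }
  have hδ : ∀ i q, δ i q = (e i q : G) * (b * (e i q : G) * b⁻¹) := fun i q => rfl
  have hcom4 : ∀ i j : I, i ≠ j → ∀ k ∈ K i, ∀ l ∈ K j, Commute (k * (b * k * b⁻¹)) (l * (b * l * b⁻¹)) := by
    intro i j hij k hk l hl
    have hij' : (i : G) ≠ j := fun h => hij (Subtype.ext h)
    have c1 : Commute k l := d.comm i (hI i.2) j (hI j.2) hij' k hk l hl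
    have c2 : Commute k (b * l * b⁻¹) :=
      d.comm i (hI i.2) _ (d.conjZ b hbS j (hI j.2)) (hIσ i i.2 j j.2) k hk _ (hK j l hl)
    have c3 : Commute (b * k * b⁻¹) l :=
      d.comm _ (d.conjZ b hbS i (hI i.2)) j (hI j.2) (fun h => hIσ j j.2 i i.2 h.symm) _ (hK i k hk) l hl
    have c4 : Commute (b * k * b⁻¹) (b * l * b⁻¹) := by
      refine d.comm _ (d.conjZ b hbS i (hI i.2)) _ (d.conjZ b hbS j (hI j.2)) (fun h => hij' ?_) _ (hK i k hk)
        _ (hK j l hl)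
      exact mul_left_cancel (mul_right_cancel h)
    exact (c1.mul_right c2).mul_left (c3.mul_right c4)
  have hcomδ : Pairwise fun i j : I => ∀ (x y : Q), Commute (δ i x) (δ j y) := fun i j hij x y =>
    hcom4 i j hij _ (e i x).2 _ (e j y).2
  let Δ : (I → Q) →* G := MonoidHom.noncommPiCoprod δ hcomδ
  -- the `δ` lie in `C_S(b)` and commute with `T₀`
  have hδS : ∀ i q, δ i q ∈ S ⊓ centralizer {b} := by
    intro i q
    rw [hδ]
    have h1 : (e i q : G) ∈ S := d.le i (hI i.2) (e i q).2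
    refine ⟨S.mul_mem h1 (S.mul_mem (S.mul_mem hbS h1) (S.inv_mem hbS)), mem_centralizer_singleton_iff.2 ?_⟩
    have h2 := hcomK i (e i q) (e i q).2 (e i q) (e i q).2
    calc (e i q : G) * (b * (e i q : G) * b⁻¹) * b = (b * (e i q : G) * b⁻¹) * (e i q : G) * b := by rw [h2]
      _ = b * ((e i q : G) * (b * (e i q : G) * b⁻¹)) := by rw [hb1]; simp only [mul_assoc]
  have hΔS : ∀ x, Δ x ∈ S ⊓ centralizer {b} := by
    intro x
    rw [MonoidHom.noncommPiCoprod_apply]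
    exact Subgroup.noncommProd_mem _ _ fun i _ => hδS i (x i)
  have hΔT : ∀ (t : T₀) (x : I → Q), Commute (t : G) (Δ x) := by
    intro t x
    have h1 : Δ x ∈ centralizer {(t : G)} := by
      rw [MonoidHom.noncommPiCoprod_apply]
      refine Subgroup.noncommProd_mem _ _ fun i _ => mem_centralizer_singleton_iff.2 ?_
      have h2 : Commute (t : G) (e i (x i) : G) := d.cenT (hT₀ t).1 (hI i.2) (e i (x i)).2
      have h3 : Commute (t : G) (b * (e i (x i) : G) * b⁻¹) :=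
        d.cenT (hT₀ t).1 (d.conjZ b hbS i (hI i.2)) (hK i _ (e i (x i)).2)
      exact (h2.mul_right h3).symm
    exact (mem_centralizer_singleton_iff.1 h1).symm
  let f₀ : T₀ →* G := { toFun := Subtype.val, map_one' := rfl, map_mul' := fun _ _ => rfl }
  let Φ : T₀ × (I → Q) →* G := f₀.noncommCoprod Δ hΔT
  have hΦ : ∀ p, Φ p = (p.1 : G) * Δ p.2 := fun p => rfl
  have hΦS : ∀ p, Φ p ∈ S ⊓ centralizer {b} := by
    intro p
    rw [hΦ]
    exact mul_mem ⟨d.T_le (hT₀ p.1).1, p.1.2.2⟩ (hΔS p.2)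
  let Ψ : T₀ × (I → Q) →* G := (MulAut.conj w).toMonoidHom.comp Φ
  have hΨ : ∀ p, Ψ p = w * Φ p * w⁻¹ := fun p => rfl
  have hΨS : ∀ p, Ψ p ∈ S := fun p => hw _ (hΦS p).1 (mem_centralizer_singleton_iff.1 (hΦS p).2)
  obtain ⟨z, hz⟩ := hne
  -- the elements `τ`
  have hτm : ∀ i : I, (i : G) * (b * i * b⁻¹) ∈ T₀ := by
    intro i
    have hi := hI i.2
    have h1 := hcomK i i (d.mem i hi) i (d.mem i hi)
    refine ⟨mul_mem (subset_closure hi) (subset_closure (d.conjZ b hbS i hi)), mem_centralizer_singleton_iff.2 ?_⟩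
    calc (i : G) * (b * i * b⁻¹) * b = (b * i * b⁻¹) * i * b := by rw [h1]
      _ = b * ((i : G) * (b * i * b⁻¹)) := by rw [hb1]; simp only [mul_assoc]
  let τ : I → T₀ := fun i => ⟨(i : G) * (b * i * b⁻¹), hτm i⟩
  have hτ : ∀ i, τ i ≠ 1 := by
    intro i h
    have hi := hI i.2
    have h1 : (i : G) * (b * i * b⁻¹) = 1 := congrArg Subtype.val h
    apply hmove i hi
    have h2 := d.sq i hi
    exact mul_left_cancel (h1.trans h2.symm)
  have hea : ∀ i : I, (e i (a 2) : G) = i := by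
    intro i
    have h1 := d.e_z (hI i.2) (d.q8 i (hI i.2)).some
    change (((d.q8 i (hI i.2)).some.symm (a 2) : K (i : G)) : G) = i
    rw [← h1, MulEquiv.symm_apply_apply]
  refine count (fun t => Subtype.ext (d.sqT (hT₀ t).1)) τ hτ ((centralizer {z}).comap Ψ) ?_ ?_
  · intro t x hx
    rw [mem_comap, mem_centralizer_singleton_iff, hΨ] at hx
    have h1 : Φ (t, fun i => (a 2 : Q) ^ x i) = ((t * ∏ i, τ i ^ x i : T₀) : G) := by
      rw [hΦ]
      change (t : G) * Δ (fun i => (a 2 : Q) ^ x i) = (t : G) * ((∏ i, τ i ^ x i : T₀) : G)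
      congr 1
      refine pi_coe f₀ δ hcomδ τ (fun i => ?_) x
      rw [hδ, hea]
      rfl
    rw [h1] at hx
    by_contra h3
    refine hfree _ (hT₀ (t * ∏ i, τ i ^ x i)).1 (hT₀ (t * ∏ i, τ i ^ x i)).2 (fun h4 => h3 (Subtype.ext h4)) z hz hx
  · refine (index_le Ψ z CS fun p => d.conjZ _ (hΨS p) z hz).trans ?_
    rwa [Nat.card_eq_fintype_card (α := I)] at hcard

end Data

/-- **section 9** -/
theorem strong [Finite G] (S : Sylow 2 G) {M : Subgroup G} (hSM : (S : Subgroup G) ≤ M) {CS : Set G}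
    {K : G → Subgroup G} (d : Data (S : Subgroup G) CS K) (hne : CS.Nonempty)
    (P1 : ∀ z ∈ CS, ∀ x, x * z * x⁻¹ ∈ M → x ∈ M)
    (P2 : ∀ h ∈ closure CS, h ≠ 1 → ∀ c, c * h = h * c → c ∈ M)
    {A : Subgroup G} (hAS : A ≤ S) (hAM : M ≤ normalizer (A : Set G)) (hA2 : ∀ x ∈ A, x * x = 1)
    (P3 : ∀ x ∈ A, x ≠ 1 → ∀ R : Subgroup G, IsPGroup 2 R → (∀ r ∈ R, r * x = x * r) →
      ∃ c, c * x = x * c ∧ cj c R ≤ M) : IsStronglyClosed A (S : Subgroup G) := by
  haveI : Fact (Nat.Prime 2) := ⟨Nat.prime_two⟩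
  refine ⟨hAS, fun x hx g hg => ?_⟩
  by_contra hb
  set b := g * x * g⁻¹ with hbdef
  have hx1 : x ≠ 1 := by
    rintro rfl
    apply hb
    rw [hbdef, mul_one, mul_inv_cancel]
    exact A.one_mem
  have hbb : b * b = 1 := by
    have h1 : b * b = g * (x * x) * g⁻¹ := by rw [hbdef]; group
    rw [h1, hA2 x hx, mul_one, mul_inv_cancel]
  have hgb : g⁻¹ * b * g = x := by rw [hbdef]; group
  -- the 2-subgroup of `C(x)`
  let R : Subgroup G := cj g⁻¹ ((S : Subgroup G) ⊓ centralizer {b})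
  have hR : ∀ r ∈ R, g * r * g⁻¹ ∈ (S : Subgroup G) ⊓ centralizer {b} := by
    intro r hr
    rw [mem_cj, inv_inv] at hr
    exact hr
  have hR2 : IsPGroup 2 R := (S.isPGroup'.to_le inf_le_left).map _
  obtain ⟨c, hc, hcR⟩ := P3 x hx hx1 R hR2 (fun r hr => by
    have h1 := mem_centralizer_singleton_iff.1 (hR r hr).2
    rw [← hgb]
    calc r * (g⁻¹ * b * g) = g⁻¹ * ((g * r * g⁻¹) * b) * g := by group
      _ = g⁻¹ * (b * (g * r * g⁻¹)) * g := by rw [h1]
      _ = _ := by group)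
  -- into `S`
  obtain ⟨m, hm, hmS⟩ := exists_cj_le S hSM (R := cj c R) (hR2.map _) hcR
  have hkey : ∀ s ∈ (S : Subgroup G), s * b = b * s → (m * c * g⁻¹) * s * (m * c * g⁻¹)⁻¹ ∈ (S : Subgroup G) := by
    intro s hs hsb
    have h1 : g⁻¹ * s * g⁻¹⁻¹ ∈ R := conj_mem_cj ⟨hs, mem_centralizer_singleton_iff.2 hsb⟩
    have h2 := hmS (conj_mem_cj (g := m) (conj_mem_cj (g := c) h1))
    have h3 : (m * c * g⁻¹) * s * (m * c * g⁻¹)⁻¹ = m * (c * (g⁻¹ * s * g⁻¹⁻¹) * c⁻¹) * m⁻¹ := by group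
    rw [h3]
    exact h2
  have hwM : m * c * g⁻¹ ∉ M := by
    intro h1
    have h2 : b = (m * c * g⁻¹)⁻¹ * (m * x * m⁻¹) * (m * c * g⁻¹)⁻¹⁻¹ := by
      have h3 : c⁻¹ * x * c = x := by
        rw [mul_assoc, ← hc, inv_mul_cancel_left]
      calc b = g * x * g⁻¹ := hbdef
        _ = g * (c⁻¹ * x * c) * g⁻¹ := by rw [h3]
        _ = _ := by group
    apply hb
    rw [h2]
    have h3 : m * x * m⁻¹ ∈ A := (mem_normalizer_iff.1 (hAM hm) x).1 hx
    exact (mem_normalizer_iff.1 (hAM (M.inv_mem h1)) _).1 h3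
  set w := m * c * g⁻¹ with hwdef
  refine d.false_of (b := b) (w := w) hne hg hbb ?_ hkey ?_
  · intro z hz h1
    have h2 : z * b = b * z := by
      conv_lhs => rw [← h1]
      group
    exact hwM (P1 z hz w (hSM (hkey z (d.le z hz (d.mem z hz)) h2)))
  · intro h hh hhb hh1 z hz hcomm
    have h1 : w⁻¹ * z * w ∈ M := by
      refine P2 h hh hh1 _ ?_
      calc w⁻¹ * z * w * h = w⁻¹ * (z * (w * h * w⁻¹)) * w := by group
        _ = w⁻¹ * ((w * h * w⁻¹) * z) * w := by rw [hcomm]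
        _ = _ := by group
    have h2 := P1 z hz w⁻¹ (by rwa [inv_inv])
    exact hwM (by simpa using M.inv_mem h2)

end Cfsg.Agent.Cit.Nil.ROne.Strong
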