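import Cfsg.Agent.Cit.Nil.ROne.EndG0
import Cfsg.Agent.Cit.Nil.ROne.Bridge
import Cfsg.Agent.Cit.Nil.AN.Four
import Cfsg.Agent.Lib.GenFitting
import Cfsg.Agent.Cit.NilComp

/-!
# `r = 1`: the end for `F*(G)` simple, glue

* `FSimp.of_fs` : `FSimp (F*(G))` from `FS G`;
* `W.mem_fstar` : `Z ⊆ F*(G)`;
* `World.false_of_closed` : there is no strongly closed commutative subgroup in `F*(G)`;
* `World.noCl` : the form of helper117.
-/

set_option autoImplicit false
set_option linter.style.haveILetI false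
set_option linter.unusedSectionVars false

namespace Cfsg.Agent.Cit.Nil.ROne

open Subgroup Cfsg Cfsg.Agent.Cit

variable {G : Type*} [Group G] {Z : Set G} {K : G → Subgroup G} {z u : G}

theorem FSimp.of_fs [Finite G] (fs : AssemblyNil.FS G) : FSimp (generalizedFittingSubgroup G) := by
  have hn : (generalizedFittingSubgroup G).Normal := Lib.GenFitting.genFitting_normal
  have hna : ¬ ∀ x ∈ generalizedFittingSubgroup G, ∀ y ∈ generalizedFittingSubgroup G, x * y = y * x := fun h =>
    fs.na ⟨⟨fun a b => Subtype.ext (h a a.2 b b.2)⟩⟩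
  refine ⟨hn, fs.simple, hna, ?_⟩
  haveI := fs.simple
  have h1 : centralizer (generalizedFittingSubgroup G : Set G) ≤ generalizedFittingSubgroup G :=
    Lib.GenFitting.centralizer_genFitting_le
  have h2 : (center ↥(generalizedFittingSubgroup G)).Normal := inferInstance
  rw [eq_bot_iff]
  intro x hx
  rcases h2.eq_bot_or_eq_top with h3 | h3
  · have h4 : (⟨x, h1 hx⟩ : ↥(generalizedFittingSubgroup G)) ∈ center ↥(generalizedFittingSubgroup G) := by
      rw [mem_center_iff]
      intro g
      exact Subtype.ext (mem_centralizer_iff.1 hx g g.2)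
    rw [h3, mem_bot] at h4
    exact congrArg Subtype.val h4
  · exfalso
    apply hna
    intro a ha b hb
    have h4 : (⟨b, hb⟩ : ↥(generalizedFittingSubgroup G)) ∈ center ↥(generalizedFittingSubgroup G) := by
      rw [h3]; exact mem_top _
    exact congrArg Subtype.val (mem_center_iff.1 h4 ⟨a, ha⟩)

/-- `Z ⊆ F*(G)` -/
theorem W.mem_fstar [Finite G] (w : W Z K) (fs : AssemblyNil.FS G) (hz : z ∈ Z) :
    z ∈ generalizedFittingSubgroup G := by
  have f := FSimp.of_fs fs
  haveI := f.nor
  haveI := fs.simple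
  set F := generalizedFittingSubgroup G with hF
  by_contra hzF
  have hO : OO F = ⊥ := by
    have h1 : ((OO F).subgroupOf F).Normal := (normal_subgroupOf_iff_le_normalizer (OO_le F)).2 (le_normalizer_OO F)
    rcases h1.eq_bot_or_eq_top with h2 | h2
    · rw [← map_subgroupOf_eq_of_le (OO_le F), h2, Subgroup.map_bot]
    · exfalso
      have h3 : F ≤ OO F := subgroupOf_eq_top.1 h2
      have h4 : OO F = F := le_antisymm (OO_le F) h3
      apply odd_OO F
      rw [h4]
      exact fs.even
  have h1 := w.hyp.lemma_two (M := F) (fun L hL => by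
    obtain ⟨v, hv, rfl⟩ := hL
    exact w.two hv) (K := K z) ⟨z, hz, rfl⟩ (by rw [normalizer_eq_top]; exact le_top) hO (by
    rw [w.zz_K hz]
    exact hzF)
  rw [w.zz_K hz] at h1
  have h2 : z ∈ centralizer (F : Set G) := by
    rw [mem_centralizer_iff]
    exact fun x hx => mem_centralizer_singleton_iff.1 (h1 hx)
  rw [f.cen, mem_bot] at h2
  exact w.ne z hz h2

/-- **there is no strongly closed commutative subgroup** -/
theorem World.false_of_closed [Finite G] (h : World Z K) (gold : Cit.ROne.Gold ↥(generalizedFittingSubgroup G))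
    (hB : CloEnd.Bend ↥(generalizedFittingSubgroup G)) (S : Sylow 2 G) {A : Subgroup G} (hA : A ≠ ⊥)
    (hAZ : A ≤ closure Z) (hc : ∀ x ∈ A, ∀ y ∈ A, x * y = y * x) (hsc : IsStronglyClosed A (S : Subgroup G)) :
    False := by
  have hsub : ∀ z ∈ Z, z ∈ generalizedFittingSubgroup G := fun z hz => h.w.mem_fstar h.toFS hz
  -- two members in `S`
  obtain ⟨S', z, hz, u, hu, hne, h1, h2⟩ := h.two
  obtain ⟨g, hg⟩ := MulAction.exists_smul_eq G S' S
  have hS : (S : Subgroup G) = cj g (S' : Subgroup G) := by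
    rw [← hg]
    rfl
  have hz' : g * z * g⁻¹ ∈ CS Z K (S : Subgroup G) := by rw [hS]; exact (h.w.cj_CS g S' hz).2 ⟨hz, h1⟩
  have hu' : g * u * g⁻¹ ∈ CS Z K (S : Subgroup G) := by rw [hS]; exact (h.w.cj_CS g S' hu).2 ⟨hu, h2⟩
  exact h.w.false_of_closed h.one h.c3 (FSimp.of_fs h.toFS) hsub S hz' hu' (fun he => hne (by simpa using he)) gold hB
    hA (hAZ.trans ((closure_le _).2 hsub)) hc hsc

/-- the form of helper117 -/
theorem World.noCl [Finite G] (h : World Z K) (gold : Cit.ROne.Gold ↥(generalizedFittingSubgroup G))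
    (hB : CloEnd.Bend ↥(generalizedFittingSubgroup G)) (S : Sylow 2 G) : AN.NoCl Z (S : Subgroup G) :=
  fun _ hA hAZ hc hsc => h.false_of_closed gold hB S hA hAZ hc hsc

end Cfsg.Agent.Cit.Nil.ROne
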