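import Cfsg.Agent.Cit.Nil.ROne.MTwoEnd
import Cfsg.Agent.Cit.Nil.ROne.FStar
import Cfsg.Agent.Cit.CloEnd
import Cfsg.Agent.OddOrderLocal.NilParts

/-!
# (6b), `r = 1`, `m = 2`, nil C-pairs: no such group (bb #12195, helper454)

* `W.toMTwo` : `W Z K`, one class, nil C-pairs, (C3), `m = 2` for one Sylow subgroup: the world `MTwo.W Z K`;
* `World.mtwo_false` : `World Z K`, nil C-pairs, `m = 2` : contradiction, with S1174 for `F*(G)`
  (`CloEnd.Crit1174`);
* `World.three_of_nil` : `World Z K`, nil C-pairs : `m ≥ 3` (for all Sylow subgroups).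
-/

set_option autoImplicit false
set_option linter.style.haveILetI false
set_option linter.unusedSectionVars false

namespace Cfsg.Agent.Cit.Nil.ROne

open Subgroup Cfsg Cit Cfsg.Agent.OddOrderLocal.NilParts

variable {G : Type*} [Group G] [Finite G] {Z : Set G} {K : G → Subgroup G} {z u v g s : G}

namespace W

variable (h : W Z K)

include h

theorem ed_iff : MTwo.Ed Z K z u ↔ z ∈ Z ∧ u ∈ Z ∧ CP K z u := Iff.rfl

/-- an element of `S` permutes `C_S` -/
theorem conj_mem_CS {S : Subgroup G} (hs : s ∈ S) (hz : z ∈ CS Z K S) : s * z * s⁻¹ ∈ CS Z K S := by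
  have h1 : cj s S = S := mem_normalizer_iff_cj.1 (le_normalizer hs)
  have h2 := (h.cj_CS s S hz.1).2 hz
  rwa [h1] at h2

/-- a member whose involution is centralised by `S` is in `S` -/
theorem mem_CS_of_cent (S : Sylow 2 G) (hz : z ∈ Z) (hc : ∀ s ∈ S, s * z = z * s) : z ∈ CS Z K S := by
  have h1 : IsPGroup 2 (K z ⊔ S : Subgroup G) := IsPGroup.to_sup_of_normal_left' (h.two hz) S.isPGroup'
    fun s hs => h.mem_norm hz (hc s hs)
  have h2 := S.is_maximal' h1 le_sup_right
  refine ⟨hz, ?_⟩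
  rw [← h2]
  exact le_sup_left

/-- the numbers `|C_S|` are equal -/
theorem ncard_CS (S T : Sylow 2 G) : (CS Z K (S : Subgroup G)).ncard = (CS Z K (T : Subgroup G)).ncard := by
  haveI : Fact (Nat.Prime 2) := ⟨Nat.prime_two⟩
  obtain ⟨g, hg⟩ := MulAction.exists_smul_eq G T S
  have hgS : (S : Subgroup G) = cj g T := by
    rw [← hg]
    rfl
  rw [hgS]
  exact h.ncard_CS_cj g T

theorem CS_eq (S : Sylow 2 G) (h2 : (CS Z K (S : Subgroup G)).ncard = 2) (hz : z ∈ CS Z K S) (hu : u ∈ CS Z K S)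
    (hne : z ≠ u) (hv : v ∈ CS Z K S) : v = z ∨ v = u := by
  by_contra hcon
  rw [not_or] at hcon
  have h3 : ({v, z, u} : Set G) ⊆ CS Z K S := by
    intro x hx
    rcases hx with rfl | rfl | rfl
    · exact hv
    · exact hz
    · exact hu
  have h4 := Set.ncard_le_ncard h3 (Set.toFinite _)
  rw [h2, Set.ncard_insert_of_notMem (by
    rintro (h5 | h5)
    · exact hcon.1 h5
    · exact hcon.2 h5), Set.ncard_pair hne] at h4
  omega

/-- the neighbours of `z` generate a 2-group -/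
theorem two_A (hnil : NilP Z K) (hz : z ∈ Z) : IsPGroup 2 (MTwo.A Z K z) := by
  refine (isPGroup_oP 2 (centralizer {z})).to_le ((closure_le _).2 fun u hu => ?_)
  obtain ⟨N, hN1, hN2, hN3, huN⟩ := hnil z hz u hu.right hu.2.2
  exact le_oP hN1 hN3 hN2 huN

/-- **the world of `m = 2`** -/
theorem toMTwo (hcls : OneCls Z) (hnil : NilP Z K) (h3 : C3 Z K)
    (h2 : ∀ S : Sylow 2 G, (CS Z K (S : Subgroup G)).ncard = 2) : MTwo.W Z K where
  conj := h.conjZ
  conjK := h.conjK
  one := hcls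
  sq := h.sq
  ne := h.ne
  mem := h.mem
  card _ hz := h.card8 hz
  four _ hz _ hk h1 h2 := h.sq_eq hz hk h1 h2
  E z hz u hu hne hc := (h.csymm hz hu hne fun k hk => (hc k hk).symm).2
  three z hz u hu v hv T hT h1 h4 h5 := by
    obtain ⟨S, hS⟩ := hT.exists_le_sylow
    by_contra hcon
    rw [not_or, not_or] at hcon
    rcases h.CS_eq S (h2 S) ⟨hz, h1.trans hS⟩ ⟨hu, h4.trans hS⟩ hcon.1 ⟨hv, h5.trans hS⟩ with h6 | h6
    · exact hcon.2.1 h6.symm
    · exact hcon.2.2 h6.symm
  prod z u he ht := by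
    obtain ⟨S, hzS, huS⟩ := h.exists_sylow_of_cp he.left he.right he.2.2
    have hzu : z * u = u * z := he.2.2.2 z (h.mem z he.left) u (h.mem u he.right)
    have h4 : z * u ∈ CS Z K S := by
      refine h.mem_CS_of_cent S ht fun s hs => ?_
      rw [← mul_inv_eq_iff_eq_mul]
      have h5 : s * (z * u) * s⁻¹ = (s * z * s⁻¹) * (s * u * s⁻¹) := by group
      rw [h5]
      have hneq : s * z * s⁻¹ ≠ s * u * s⁻¹ := fun h6 => he.ne (mul_left_cancel (mul_right_cancel h6))
      rcases h.CS_eq S (h2 S) hzS huS he.ne (h.conj_mem_CS hs hzS) with h6 | h6 <;>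
        rcases h.CS_eq S (h2 S) hzS huS he.ne (h.conj_mem_CS hs huS) with h7 | h7
      · exact absurd (h6.trans h7.symm) hneq
      · rw [h6, h7]
      · rw [h6, h7, hzu]
      · exact absurd (h6.trans h7.symm) hneq
    rcases h.CS_eq S (h2 S) hzS huS he.ne h4 with h5 | h5
    · exact h.ne u he.right (mul_eq_left.1 h5)
    · exact h.ne z he.left (mul_eq_right.1 h5)
  syl z u he := by
    obtain ⟨S, hzS, huS⟩ := h.exists_sylow_of_cp he.left he.right he.2.2
    refine ⟨S, hzS.2, huS.2, fun s hs => ?_⟩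
    have hneq : s * z * s⁻¹ ≠ s * u * s⁻¹ := fun h6 => he.ne (mul_left_cancel (mul_right_cancel h6))
    rcases h.CS_eq S (h2 S) hzS huS he.ne (h.conj_mem_CS hs hzS) with h6 | h6 <;>
      rcases h.CS_eq S (h2 S) hzS huS he.ne (h.conj_mem_CS hs huS) with h7 | h7
    · exact absurd (h6.trans h7.symm) hneq
    · exact Or.inl ⟨h6, h7⟩
    · exact Or.inr ⟨h6, h7⟩
    · exact absurd (h6.trans h7.symm) hneq
  ex z hz := by
    obtain ⟨S, hzS⟩ := h.exists_sylow hz
    have h4 : ∃ u ∈ CS Z K (S : Subgroup G), u ≠ z := by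
      by_contra hcon
      push Not at hcon
      have h5 : CS Z K (S : Subgroup G) ⊆ {z} := fun u hu => hcon u hu
      have h6 := Set.ncard_le_ncard h5 (Set.toFinite _)
      rw [h2 S, Set.ncard_singleton] at h6
      omega
    obtain ⟨u, huS, hne⟩ := h4
    exact ⟨u, hz, huS.1, h.com hz huS.1 S.isPGroup' hzS.2 huS.2 hne.symm⟩
  two _ hz := h.two_A hnil hz
  c3 := h3

end W

/-! ### The end -/

namespace World

variable (w : World Z K)

include w

/-- `O(C(t)) = 1` -/
theorem oddCore_cent {t : G} (ht : orderOf t = 2) : oddCore (centralizer {t}) = ⊥ := by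
  have h1 := w.free t ht
  unfold centralizerPPrimeCore at h1
  exact (Subgroup.map_eq_bot_iff_of_injective _ (Subgroup.subtype_injective _)).1 h1

/-- `O(G) = 1` -/
theorem oddCore_eq_bot : oddCore G = ⊥ := by
  haveI : Fact (Nat.Prime 2) := ⟨Nat.prime_two⟩
  by_contra hne
  have hn : (oddCore G).Normal := inferInstance
  have h1 := w.fsimp.le (N := oddCore G) (fun g _ n hn' => hn.conj_mem n hn' g) hne
  have h2 : (Nat.card (oddCore G)).Coprime 2 := Lib.Cores.pPrimeCore_coprime 2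
  have h3 := w.even.trans (card_dvd_of_le h1)
  have h4 := Nat.dvd_gcd h3 (dvd_refl 2)
  rw [h2] at h4
  omega

/-- **`m = 2` with nil C-pairs is impossible** -/
theorem mtwo_false (hnil : NilP Z K) (h2 : ∃ S : Sylow 2 G, (CS Z K (S : Subgroup G)).ncard = 2)
    (hstr : CloEnd.Crit1174 ↥(generalizedFittingSubgroup G)) : False := by
  obtain ⟨S0, hS0⟩ := h2
  have hM := w.w.toMTwo w.one hnil w.c3 fun S => (w.w.ncard_CS S S0).trans hS0
  obtain ⟨-, z, hz, -⟩ := w.two
  refine hM.false_of ⟨z, hz⟩ (X := generalizedFittingSubgroup G) w.fsimp.nor w.simple w.na w.fsimp.cen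
    (fun z hz => w.mem_fstar hz) hstr w.oddCore_eq_bot fun z u he => w.oddCore_cent ?_
  exact orderOf_eq_prime (by rw [pow_two]; exact hM.prod_sq he) (hM.prod_ne he)

/-- **`m ≥ 3`** -/
theorem three_of_nil (hnil : NilP Z K) (hstr : CloEnd.Crit1174 ↥(generalizedFittingSubgroup G))
    (S : Sylow 2 G) : 3 ≤ (CS Z K (S : Subgroup G)).ncard := by
  by_contra hcon
  obtain ⟨T, z, hz, u, hu, hne, h1, h2⟩ := w.two
  have h3 : ({z, u} : Set G) ⊆ CS Z K (T : Subgroup G) := by
    intro x hx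
    rcases hx with rfl | rfl
    · exact ⟨hz, h1⟩
    · exact ⟨hu, h2⟩
  have h4 := Set.ncard_le_ncard h3 (Set.toFinite _)
  rw [Set.ncard_pair hne, w.w.ncard_CS T S] at h4
  exact w.mtwo_false hnil ⟨S, by omega⟩ hstr

end World

end Cfsg.Agent.Cit.Nil.ROne
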