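import Cfsg.Agent.Cit.Nil.ROne.Base

/-!
# (6b), `r = 1`, core-free: C-swaps, elementary part (helper194)

(3.1) of `blueprints/R18-6b-r1-helper545.md`: for a C-swap `(u, v)`, `w = wt u v`, `u' = v u v⁻¹ = u w`, `v' = u v u⁻¹ = v w`:
`w` centralises `K u` and `K v`, `(v, v')` is a C-pair, `w ∈ T_S#`.
`dg v k = k * (v k v⁻¹)` (`k ∈ K u`): `d_k`.
-/

set_option autoImplicit false
set_option linter.style.haveILetI false
set_option linter.unusedSectionVars false

namespace Cfsg.Agent.Cit.Nil.ROne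

open Subgroup Cfsg Cit

variable {G : Type*} [Group G]

/-- the diagonal element `k * (v k v⁻¹)` -/
def dg (v k : G) : G := k * (v * k * v⁻¹)

namespace W

variable {Z : Set G} {K : G → Subgroup G} {z u v g x y k l : G} (h : W Z K)

include h

section csw

variable (hu : u ∈ Z) (hv : v ∈ Z) (hs : CSw K u v)

include hu hv hs

theorem csw_comm : u * (v * u * v⁻¹) = (v * u * v⁻¹) * u := CP.comm h hu (h.conjZ u hu v) hs

theorem csw_conj_self : v * (v * u * v⁻¹) * v⁻¹ = u := by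
  have h1 := h.sq v hv
  calc v * (v * u * v⁻¹) * v⁻¹ = (v * v) * u * (v * v)⁻¹ := by group
    _ = u := by rw [h1]; group

theorem wt_sq : wt u v * wt u v = 1 := by
  have h1 := h.csw_comm hu hv hs
  have h2 := h.sq u hu
  have h3 := h.sq _ (h.conjZ u hu v)
  unfold wt
  calc u * (v * u * v⁻¹) * (u * (v * u * v⁻¹)) = u * ((v * u * v⁻¹) * u) * (v * u * v⁻¹) := by group
    _ = u * (u * (v * u * v⁻¹)) * (v * u * v⁻¹) := by rw [h1]
    _ = (u * u) * ((v * u * v⁻¹) * (v * u * v⁻¹)) := by group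
    _ = 1 := by rw [h2, h3, one_mul]

theorem wt_ne : wt u v ≠ 1 := h.cp_mul_ne (h.conjZ u hu v) hs

theorem wt_comm_u : wt u v * u = u * wt u v := by
  have h1 := h.csw_comm hu hv hs
  unfold wt
  rw [mul_assoc, ← h1]

/-- `v u v⁻¹ = u w` -/
theorem conj_u : v * u * v⁻¹ = u * wt u v := by
  unfold wt
  rw [← mul_assoc, h.sq u hu, one_mul]

/-- `w` commutes with `v` -/
theorem wt_comm_v : wt u v * v = v * wt u v := by
  have h1 := h.csw_comm hu hv hs
  have h2 := h.csw_conj_self hu hv hs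
  have h3 : v * wt u v * v⁻¹ = wt u v := by
    unfold wt
    calc v * (u * (v * u * v⁻¹)) * v⁻¹ = (v * u * v⁻¹) * (v * (v * u * v⁻¹) * v⁻¹) := by group
      _ = u * (v * u * v⁻¹) := by rw [h2, h1]
  rw [mul_inv_eq_iff_eq_mul] at h3
  exact h3.symm

/-- `u v u⁻¹ = v w` -/
theorem conj_v : u * v * u⁻¹ = v * wt u v := by
  have h1 := h.conj_u hu hv hs
  have h2 := h.inv hu
  have h3 := h.inv hv
  have h4 := h.csw_comm hu hv hs
  have h5 := h.wt_sq hu hv hs
  -- `w = u v u v`, `w⁻¹ = v u v u = w`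
  have h6 : wt u v = u * v * u * v := by unfold wt; rw [h3]; group
  have h7 : (wt u v)⁻¹ = wt u v := inv_eq_of_mul_eq_one_right h5
  calc u * v * u⁻¹ = v * (v * u * v * u) := by
        rw [h2]
        have := h.sq v hv
        calc u * v * u = (v * v) * (u * v * u) := by rw [this, one_mul]
          _ = v * (v * u * v * u) := by group
    _ = v * (wt u v)⁻¹ := by
        rw [h6]
        congr 1
        rw [mul_inv_rev, mul_inv_rev, mul_inv_rev, h2, h3]; group
    _ = v * wt u v := by rw [h7]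

/-- the diagonal elements are centralised by `v` -/
theorem dg_comm_v (hk : k ∈ K u) : dg v k * v = v * dg v k := by
  have h1 := hs.2 k hk (v * k * v⁻¹) (h.conj_mem_K hu v hk)
  have h2 := h.sq v hv
  have h3 : v * dg v k * v⁻¹ = dg v k := by
    unfold dg
    calc v * (k * (v * k * v⁻¹)) * v⁻¹ = (v * k * v⁻¹) * ((v * v) * k * (v * v)⁻¹) := by group
      _ = (v * k * v⁻¹) * k := by rw [h2]; group
      _ = k * (v * k * v⁻¹) := h1.symm
  rw [mul_inv_eq_iff_eq_mul] at h3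
  exact h3.symm

theorem dg_mul (hk : k ∈ K u) (hl : l ∈ K u) : dg v (k * l) = dg v k * dg v l := by
  have h1 := hs.2 l hl (v * k * v⁻¹) (h.conj_mem_K hu v hk)
  unfold dg
  calc k * l * (v * (k * l) * v⁻¹) = k * (l * (v * k * v⁻¹)) * (v * l * v⁻¹) := by group
    _ = k * ((v * k * v⁻¹) * l) * (v * l * v⁻¹) := by rw [h1]
    _ = _ := by group

theorem dg_u : dg v u = wt u v := rfl

omit h hu hv hs in
theorem dg_one : dg v (1 : G) = 1 := by unfold dg; group

theorem dg_sq (hk : k ∈ K u) (hkk : k * k = u) : dg v k * dg v k = wt u v := by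
  rw [← h.dg_mul hu hv hs hk hk, hkk]
  rfl

/-- **(3.1)** : `w` centralises `K v` -/
theorem wt_cen_v : Cen K (wt u v) v := by
  obtain ⟨i, hi, j, hj, hii, hjj, hji, -⟩ := h.exists_ij hu
  refine h.quat_act hv (h.dg_comm_v hu hv hs hi) (h.dg_comm_v hu hv hs hj) (h.dg_sq hu hv hs hi hii)
    (h.dg_sq hu hv hs hj hjj) ?_
  rw [← h.dg_mul hu hv hs hj hi, hji, h.dg_mul hu hv hs (h.mem u hu) (mul_mem hi hj), h.dg_mul hu hv hs hi hj]
  rfl

/-- **(3.1)** : `(v, u)` is a C-swap -/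
theorem csw_symm : CSw K v u := by
  unfold CSw
  have h1 := h.conj_v hu hv hs
  have h2 : u * v * u⁻¹ ∈ Z := h.conjZ v hv u
  refine h.csymm hv h2 ?_ ?_
  · intro h3
    rw [h1] at h3
    exact h.wt_ne hu hv hs (mul_eq_left.1 h3.symm)
  · rw [h1]
    exact Cen.mul (fun k hk => (h.cent hv hk).symm) (h.wt_cen_v hu hv hs)

theorem wt_symm : wt v u = wt u v := by
  have h1 := h.conj_v hu hv hs
  unfold wt
  rw [h1, ← mul_assoc, h.sq v hv, one_mul]
  rfl

/-- **(3.1)** : `w` centralises `K u` -/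
theorem wt_cen_u : Cen K (wt u v) u := by
  have h1 := h.wt_cen_v hv hu (h.csw_symm hu hv hs)
  rwa [h.wt_symm hu hv hs] at h1

/-- `w` centralises `K u'` -/
theorem wt_cen_u' : Cen K (wt u v) (v * u * v⁻¹) := by
  have h1 := h.cen_conj hu v (h.wt_cen_u hu hv hs)
  rwa [← h.wt_comm_v hu hv hs, mul_inv_cancel_right] at h1

theorem wt_cen_v' : Cen K (wt u v) (u * v * u⁻¹) := by
  have h1 := h.cen_conj hv u (h.wt_cen_v hu hv hs)
  rwa [← h.wt_comm_u hu hv hs, mul_inv_cancel_right] at h1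

/-- `v` does not commute with `u` -/
theorem csw_not_comm : u * v ≠ v * u := by
  intro h1
  apply hs.1
  rw [← h1, mul_inv_cancel_right]

theorem csw_ne : u ≠ v := fun h1 => h.csw_not_comm hu hv hs (by rw [h1])

/-- `w ∈ T_S` for a Sylow subgroup `S` -/
theorem wt_mem_TT [Finite G] : ∃ S : Sylow 2 G, u ∈ CS Z K S ∧ v * u * v⁻¹ ∈ CS Z K S ∧ wt u v ∈ TT Z K S := by
  obtain ⟨S, h1, h2⟩ := h.exists_sylow_of_cp hu (h.conjZ u hu v) hs
  exact ⟨S, h1, h2, mul_mem (subset_closure h1) (subset_closure h2)⟩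

theorem mem_ZC_u : u ∈ ZC Z K (wt u v) := ⟨hu, h.wt_cen_u hu hv hs⟩

theorem mem_ZC_v : v ∈ ZC Z K (wt u v) := ⟨hv, h.wt_cen_v hu hv hs⟩

/-! ### Formulas (3.4) -/

/-- `d_k` commutes with `u` -/
theorem dg_comm_u (hk : k ∈ K u) : dg v k * u = u * dg v k := by
  have h1 := h.cent hu hk
  have h2 := hs.2 u (h.mem u hu) (v * k * v⁻¹) (h.conj_mem_K hu v hk)
  unfold dg
  rw [mul_assoc, ← h2, ← mul_assoc, h1, mul_assoc]

/-- `d_k` commutes with `w` -/
theorem dg_comm_wt (hk : k ∈ K u) : dg v k * wt u v = wt u v * dg v k := by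
  have h1 := h.wt_cen_u hu hv hs k hk
  have h2 := h.wt_cen_u' hu hv hs (v * k * v⁻¹) (h.conj_mem_K hu v hk)
  unfold dg
  rw [mul_assoc, ← h2, ← mul_assoc, ← h1, mul_assoc]

theorem dg_comm_u' (hk : k ∈ K u) : dg v k * (v * u * v⁻¹) = (v * u * v⁻¹) * dg v k := by
  rw [h.conj_u hu hv hs, ← mul_assoc, h.dg_comm_u hu hv hs hk, mul_assoc, h.dg_comm_wt hu hv hs hk, mul_assoc]

theorem dg_comm_v' (hk : k ∈ K u) : dg v k * (u * v * u⁻¹) = (u * v * u⁻¹) * dg v k := by
  rw [h.conj_v hu hv hs, ← mul_assoc, h.dg_comm_v hu hv hs hk, mul_assoc, h.dg_comm_wt hu hv hs hk, mul_assoc]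

/-- `k v k⁻¹ = v d_k u` for `k` of order 4 -/
theorem conj_k_v (hk : k ∈ K u) (hkk : k * k = u) : k * v * k⁻¹ = v * dg v k * u := by
  have h1 := hs.2 k hk (v * k * v⁻¹) (h.conj_mem_K hu v hk)
  have h2 : k * k * (k * k) = 1 := by rw [hkk, h.sq u hu]
  have h3 := h.sq v hv
  have h4 : k⁻¹ = k * u := by
    rw [← hkk, inv_eq_iff_mul_eq_one]
    calc k * (k * (k * k)) = k * k * (k * k) := by group
      _ = 1 := h2
  unfold dg
  calc k * v * k⁻¹ = v * ((v * v)⁻¹ * v * k * v⁻¹ * (v * v)) * k⁻¹ := by group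
    _ = v * ((v * k * v⁻¹) * k⁻¹) := by rw [h3]; group
    _ = v * ((v * k * v⁻¹) * k) * u := by rw [h4]; group
    _ = v * (k * (v * k * v⁻¹)) * u := by rw [h1]

/-- `k⁻¹ v k = v d_k u'` for `k` of order 4 -/
theorem conj_k_v' (hk : k ∈ K u) (hkk : k * k = u) : k⁻¹ * v * k = v * dg v k * (v * u * v⁻¹) := by
  have h1 := h.conj_k_v hu hv hs (inv_mem hk) (by rw [← mul_inv_rev, hkk, h.inv hu])
  have h2 : dg v k⁻¹ = dg v k * wt u v := by
    have h3 : dg v k⁻¹ * dg v k = 1 := by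
      rw [← h.dg_mul hu hv hs (inv_mem hk) hk, inv_mul_cancel, dg_one]
    have h4 := h.dg_sq hu hv hs hk hkk
    have h5 := h.wt_sq hu hv hs
    rw [← h4] at h5
    rw [eq_inv_of_mul_eq_one_left h3, ← h4]
    rw [inv_eq_iff_mul_eq_one]
    calc dg v k * (dg v k * (dg v k * dg v k)) = dg v k * dg v k * (dg v k * dg v k) := by group
      _ = 1 := h5
  rw [inv_inv] at h1
  rw [h1, h2, h.conj_u hu hv hs, mul_assoc, mul_assoc, mul_assoc, h.wt_comm_u hu hv hs]

end csw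

end W

end Cfsg.Agent.Cit.Nil.ROne
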