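import Cfsg.Agent.Cit.Nil.ROne.SwapN

/-!
# (6b), `r = 1`, core-free: CLAIM S, common part and case (a) (helper194)

Section 4 of `blueprints/R18-6b-r1-helper545.md`: `(u, v)` a C-swap, `w = wt u v`, `N = NC w u`, `d_k = dg v k` (`k ∈ K u`),
`d'_l = dg u l` (`l ∈ K v`). `Bz u v k l` : `d'_l` commutes with `k` (`B(k, l) = 0`).

* `dgl_mem`, `dgl_in` : `d'_l ∈ N`, `d'_l k d'_l⁻¹ = k` or `k u`;
* `bz_or`, `bz_iff`, `bz_symm` : `Bz` iff `d_k`, `d'_l` commute iff `d_k` commutes with `l`;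
* `bz_mul`, `bz_mul'`, `nbz_mul`, `nbz_mul'` : bilinearity;
* `dg_act` : `d_k` acts on `K u` as `k`; `dg_act_of` : `d'_l` acts on `K u` as `k` if `B(k, l) = 0`, `B(., l) ≠ 0`;
* `f_one_of_move`, `f_one_of_all` : homomorphisms to `±1`;
* `claim_a` : case (a).
-/

set_option autoImplicit false
set_option linter.style.haveILetI false
set_option linter.unusedSectionVars false

namespace Cfsg.Agent.Cit.Nil.ROne

open Subgroup Cfsg Cit

variable {G : Type*} [Group G]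

/-- `B(k, l) = 0` -/
def Bz (u k l : G) : Prop := dg u l * k = k * dg u l

namespace W

variable {Z : Set G} {K : G → Subgroup G} {z u v g x y b k l n m s : G} (h : W Z K)

section quat

include h

theorem inv_eq_mul (hz : z ∈ Z) (hkk : k * k = z) : k⁻¹ = k * z := by
  have h2 : k * k * (k * k) = 1 := by rw [hkk, h.sq z hz]
  rw [← hkk, inv_eq_iff_mul_eq_one]
  calc k * (k * (k * k)) = k * k * (k * k) := by group
    _ = 1 := h2

/-- four elements of order 4 on three axes -/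
theorem third (hz : z ∈ Z) (hk : k ∈ K z) (hkk : k * k = z) (hb : b ∈ K z) (hbb : b * b = z) (hx : x ∈ K z)
    (hxx : x * x = z) (h1 : b ≠ k) (h2 : b ≠ k⁻¹) (h3 : x ≠ b) (h4 : x ≠ b⁻¹) (h5 : x ≠ k) (h6 : x ≠ k⁻¹) :
    x = k * b ∨ x = (k * b)⁻¹ := by
  have key : ∀ p q r : QEight.Q, p * p = QuaternionGroup.a 2 → q * q = QuaternionGroup.a 2 →
      r * r = QuaternionGroup.a 2 → q ≠ p → q ≠ p⁻¹ → r ≠ q → r ≠ q⁻¹ → r ≠ p → r ≠ p⁻¹ →
      r = p * q ∨ r = (p * q)⁻¹ := by decide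
  have hsq : ∀ {y : G} (hy : y ∈ K z), y * y = z → h.e hz ⟨y, hy⟩ * h.e hz ⟨y, hy⟩ = QuaternionGroup.a 2 := by
    intro y hy h4
    rw [← h.e_mul hz hy hy, ← h.e_z hz]
    exact congrArg (h.e hz) (Subtype.ext h4)
  have ne : ∀ {a c : G} (ha : a ∈ K z) (hc : c ∈ K z), a ≠ c → h.e hz ⟨a, ha⟩ ≠ h.e hz ⟨c, hc⟩ :=
    fun ha hc h7 h8 => h7 (h.e_inj hz ha hc h8)
  have ne' : ∀ {a c : G} (ha : a ∈ K z) (hc : c ∈ K z), a ≠ c⁻¹ → h.e hz ⟨a, ha⟩ ≠ (h.e hz ⟨c, hc⟩)⁻¹ :=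
    fun ha hc h7 h8 => h7 (h.e_inj hz ha (inv_mem hc) (by rw [h8, h.e_inv hz hc]))
  rcases key _ _ _ (hsq hk hkk) (hsq hb hbb) (hsq hx hxx) (ne hb hk h1) (ne' hb hk h2) (ne hx hb h3) (ne' hx hb h4)
    (ne hx hk h5) (ne' hx hk h6) with h7 | h7
  · left
    rw [← h.e_mul hz hk hb] at h7
    exact h.e_inj hz _ _ h7
  · right
    rw [← h.e_mul hz hk hb, ← h.e_inv hz (mul_mem hk hb)] at h7
    exact h.e_inj hz _ _ h7

/-- the product of two elements of order 4 on different axes has order 4 -/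
theorem mul_sq (hz : z ∈ Z) (hk : k ∈ K z) (hkk : k * k = z) (hb : b ∈ K z) (hbb : b * b = z) (h1 : b ≠ k)
    (h2 : b ≠ k⁻¹) : (k * b) * (k * b) = z := by
  have h3 := h.inv_of_ne hz hk hkk hb hbb h1 h2
  calc (k * b) * (k * b) = (k * b * k⁻¹) * (k * k) * b := by group
    _ = b⁻¹ * z * b := by rw [h3, hkk]
    _ = b⁻¹ * (z * b) := by group
    _ = z := by rw [← h.cent hz hb]; group

end quat

/-! ### Homomorphisms to `±1` -/


section hom

include h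

theorem units_inv (a : ℤˣ) : a⁻¹ = a := by
  rcases Int.units_eq_one_or a with h1 | h1 <;> rw [h1] <;> simp

/-- `c ∈ X` fixes `k` and moves the other axes of `K u`: `f k = 1` -/
theorem f_one_of_move (hu : u ∈ Z) {X : Subgroup G} (hX : K u ≤ X) (f : X →* ℤˣ) (hk : k ∈ K u) (hkk : k * k = u)
    {c : G} (hc : c ∈ X) (hcu : c * u = u * c) (hck : c * k * c⁻¹ = k)
    (hm : ∀ b ∈ K u, b * b = u → b ≠ k → b ≠ k⁻¹ → c * b * c⁻¹ ≠ b ∧ c * b * c⁻¹ ≠ b⁻¹) : f ⟨k, hX hk⟩ = 1 := by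
  obtain ⟨b, hb, hbb, h1, h2, -, -⟩ := h.exists_inv hu hk hkk
  obtain ⟨h3, h4⟩ := hm b hb hbb h1 h2
  have hxK : c * b * c⁻¹ ∈ K u := h.norm_mem hu hcu hb
  have hxx : c * b * c⁻¹ * (c * b * c⁻¹) = u := by
    calc c * b * c⁻¹ * (c * b * c⁻¹) = c * (b * b) * c⁻¹ := by group
      _ = u := by rw [hbb, hcu, mul_inv_cancel_right]
  have h5 : c * b * c⁻¹ ≠ k := by
    intro h6
    apply h1
    have h7 : c * b * c⁻¹ = c * k * c⁻¹ := h6.trans hck.symm
    exact mul_left_cancel (mul_right_cancel h7)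
  have h6 : c * b * c⁻¹ ≠ k⁻¹ := by
    intro h6
    apply h2
    have h7 : c * b * c⁻¹ = c * k⁻¹ * c⁻¹ := by
      rw [h6]
      have : c * k⁻¹ * c⁻¹ = (c * k * c⁻¹)⁻¹ := by group
      rw [this, hck]
    exact mul_left_cancel (mul_right_cancel h7)
  have h7 : f ⟨c * b * c⁻¹, hX hxK⟩ = f ⟨b, hX hb⟩ := by
    have h8 : (⟨c * b * c⁻¹, hX hxK⟩ : X) = ⟨c, hc⟩ * ⟨b, hX hb⟩ * ⟨c, hc⟩⁻¹ := rfl
    rw [h8, map_mul, map_mul, map_inv, mul_comm (f ⟨c, hc⟩), mul_inv_cancel_right]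
  have h8 : f ⟨k * b, hX (mul_mem hk hb)⟩ = f ⟨k, hX hk⟩ * f ⟨b, hX hb⟩ := by
    rw [← map_mul]; rfl
  rcases h.third hu hk hkk hb hbb hxK hxx h1 h2 h3 h4 h5 h6 with h9 | h9
  · have h10 : (⟨c * b * c⁻¹, hX hxK⟩ : X) = ⟨k * b, hX (mul_mem hk hb)⟩ := Subtype.ext h9
    rw [h10, h8] at h7
    exact mul_eq_right.1 h7
  · have h10 : (⟨c * b * c⁻¹, hX hxK⟩ : X) = ⟨k * b, hX (mul_mem hk hb)⟩⁻¹ := Subtype.ext h9
    rw [h10, map_inv, units_inv h, h8] at h7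
    exact mul_eq_right.1 h7

/-- `f` is trivial on `K u` if it is trivial on the elements of order 4 -/
theorem f_one_of_all (hu : u ∈ Z) {X : Subgroup G} (hX : K u ≤ X) (f : X →* ℤˣ)
    (hf : ∀ k (hk : k ∈ K u), k * k = u → f ⟨k, hX hk⟩ = 1) (hx : x ∈ K u) : f ⟨x, hX hx⟩ = 1 := by
  by_cases h1 : x = 1
  · have h2 : (⟨x, hX hx⟩ : X) = 1 := Subtype.ext h1
    rw [h2, map_one]
  by_cases h2 : x = u
  · obtain ⟨i, hi, -, -, hii, -⟩ := h.exists_ij hu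
    have h3 : (⟨x, hX hx⟩ : X) = ⟨i, hX hi⟩ * ⟨i, hX hi⟩ := Subtype.ext (h2.trans hii.symm)
    rw [h3, map_mul, hf i hi hii, one_mul]
  · exact hf x hx (h.sq_eq hu hx h1 h2)

end hom

/-! ### The form `B` -/

variable [Finite G] (ha : ANT Z K) (hu : u ∈ Z) (hv : v ∈ Z) (hs : CSw K u v)

include h ha hu hv hs

/-- `d'_l ∈ N` -/
theorem dgl_mem (hl : l ∈ K v) (hll : l * l = v) : dg u l ∈ NC (wt u v) u := by
  have h1 := h.dg_mem ha hv hu (h.csw_symm hu hv hs) hl hll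
  rwa [h.wt_symm hu hv hs, ← h.swap_NC ha hu hv hs] at h1

omit [Finite G] ha in
theorem dgl_comm_u (hl : l ∈ K v) : dg u l * u = u * dg u l := h.dg_comm_v hv hu (h.csw_symm hu hv hs) hl

omit [Finite G] ha in
theorem dgl_comm_v (hl : l ∈ K v) : dg u l * v = v * dg u l := h.dg_comm_u hv hu (h.csw_symm hu hv hs) hl

omit [Finite G] ha in
theorem dgl_comm_wt (hl : l ∈ K v) : dg u l * wt u v = wt u v * dg u l := by
  have h1 := h.dg_comm_wt hv hu (h.csw_symm hu hv hs) hl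
  rwa [h.wt_symm hu hv hs] at h1

omit [Finite G] ha in
theorem dgl_sq (hl : l ∈ K v) (hll : l * l = v) : dg u l * dg u l = wt u v := by
  have h1 := h.dg_sq hv hu (h.csw_symm hu hv hs) hl hll
  rwa [h.wt_symm hu hv hs] at h1

omit [Finite G] ha in
theorem dgl_mul {l' : G} (hl : l ∈ K v) (hl' : l' ∈ K v) : dg u (l * l') = dg u l * dg u l' :=
  h.dg_mul hv hu (h.csw_symm hu hv hs) hl hl'

/-- `d'_l` acts on `K u` as `1` or inner -/
theorem dgl_in (hl : l ∈ K v) (hll : l * l = v) (hk : k ∈ K u) :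
    dg u l * k * (dg u l)⁻¹ = k ∨ dg u l * k * (dg u l)⁻¹ = k * u :=
  h.swap_in ha hu hv hs (h.dgl_mem ha hu hv hs hl hll) (h.dgl_comm_u hu hv hs hl) hk

theorem nbz (hl : l ∈ K v) (hll : l * l = v) (hk : k ∈ K u) (hb : ¬ Bz u k l) :
    dg u l * k * (dg u l)⁻¹ = k * u := by
  refine (h.dgl_in ha hu hv hs hl hll hk).resolve_left fun h1 => hb ?_
  rwa [mul_inv_eq_iff_eq_mul] at h1

/-- `B(k, l) = 0` : `d_k` and `d'_l` commute -/
theorem bz_dg (hl : l ∈ K v) (hll : l * l = v) (hk : k ∈ K u) (hb : Bz u k l) :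
    dg u l * dg v k = dg v k * dg u l := by
  have h1 := h.dg_conj ha hu hv hs (h.dgl_mem ha hu hv hs hl hll) hk (by
    rw [mul_inv_eq_iff_eq_mul]; exact hb)
  rwa [mul_inv_eq_iff_eq_mul] at h1

/-- `B(k, l) = 1` : `d_k ^ d'_l = d_k w` -/
theorem nbz_dg (hl : l ∈ K v) (hll : l * l = v) (hk : k ∈ K u) (hb : ¬ Bz u k l) :
    dg u l * dg v k * (dg u l)⁻¹ = dg v k * wt u v :=
  h.dg_conj' ha hu hv hs (h.dgl_mem ha hu hv hs hl hll) hk (h.nbz ha hu hv hs hl hll hk hb)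

/-- `B(k, l) = 0` iff `d_k` and `d'_l` commute -/
theorem bz_iff (hl : l ∈ K v) (hll : l * l = v) (hk : k ∈ K u) : Bz u k l ↔ dg u l * dg v k = dg v k * dg u l := by
  refine ⟨h.bz_dg ha hu hv hs hl hll hk, fun h1 => ?_⟩
  by_contra hb
  have h2 := h.nbz_dg ha hu hv hs hl hll hk hb
  rw [h1, mul_inv_cancel_right] at h2
  exact h.wt_ne hu hv hs (mul_eq_left.1 h2.symm)

/-- **symmetry** : `B(k, l) = 0` iff `d_k` commutes with `l` -/
theorem bz_symm (hl : l ∈ K v) (hll : l * l = v) (hk : k ∈ K u) (hkk : k * k = u) : Bz u k l ↔ Bz v l k := by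
  rw [h.bz_iff ha hu hv hs hl hll hk, h.bz_iff ha hv hu (h.csw_symm hu hv hs) hk hkk hl]
  exact eq_comm

omit [Finite G] ha hu hv hs h in
theorem bz_mul {k' : G} (h1 : Bz u k l) (h2 : Bz u k' l) : Bz u (k * k') l := by
  unfold Bz at *
  rw [← mul_assoc, h1, mul_assoc, h2, mul_assoc]

omit [Finite G] ha in
theorem bz_mul' {l' : G} (hl : l ∈ K v) (hl' : l' ∈ K v) (h1 : Bz u k l) (h2 : Bz u k l') : Bz u k (l * l') := by
  unfold Bz at *
  rw [h.dgl_mul hu hv hs hl hl', mul_assoc, h2, ← mul_assoc, h1, mul_assoc]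

/-- `B(k, l) = B(k', l) = 1` gives `B(k k', l) = 0` -/
theorem nbz_mul {k' : G} (hl : l ∈ K v) (hll : l * l = v) (hk : k ∈ K u) (hk' : k' ∈ K u) (h1 : ¬ Bz u k l)
    (h2 : ¬ Bz u k' l) : Bz u (k * k') l := by
  have h3 := h.nbz ha hu hv hs hl hll hk h1
  have h4 := h.nbz ha hu hv hs hl hll hk' h2
  unfold Bz
  rw [← mul_inv_eq_iff_eq_mul]
  calc dg u l * (k * k') * (dg u l)⁻¹ = (dg u l * k * (dg u l)⁻¹) * (dg u l * k' * (dg u l)⁻¹) := by group
    _ = k * (u * k') * u := by rw [h3, h4]; group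
    _ = k * (k' * u) * u := by rw [h.cent hu hk']
    _ = k * k' * (u * u) := by group
    _ = k * k' := by rw [h.sq u hu, mul_one]

/-- `B(k, l) = B(k, l') = 1` gives `B(k, l l') = 0` -/
theorem nbz_mul' {l' : G} (hl : l ∈ K v) (hll : l * l = v) (hl' : l' ∈ K v) (hll' : l' * l' = v) (hk : k ∈ K u)
    (h1 : ¬ Bz u k l) (h2 : ¬ Bz u k l') : Bz u k (l * l') := by
  have h3 := h.nbz ha hu hv hs hl hll hk h1
  have h4 := h.nbz ha hu hv hs hl' hll' hk h2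
  unfold Bz
  rw [← mul_inv_eq_iff_eq_mul, h.dgl_mul hu hv hs hl hl']
  calc dg u l * dg u l' * k * (dg u l * dg u l')⁻¹ = dg u l * (dg u l' * k * (dg u l')⁻¹) * (dg u l)⁻¹ := by group
    _ = (dg u l * k * (dg u l)⁻¹) * (dg u l * u * (dg u l)⁻¹) := by rw [h4]; group
    _ = k * u * u := by rw [h3, h.dgl_comm_u hu hv hs hl, mul_inv_cancel_right]
    _ = k := by rw [mul_assoc, h.sq u hu, mul_one]

omit [Finite G] ha in
/-- `d_k` acts on `K u` as `k` -/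
theorem dg_act (hk : k ∈ K u) (hx : x ∈ K u) : dg v k * x * (dg v k)⁻¹ = k * x * k⁻¹ := by
  have h1 := hs.2 x hx (v * k * v⁻¹) (h.conj_mem_K hu v hk)
  unfold dg
  calc k * (v * k * v⁻¹) * x * (k * (v * k * v⁻¹))⁻¹ = k * ((v * k * v⁻¹) * x) * (v * k * v⁻¹)⁻¹ * k⁻¹ := by group
    _ = k * x * k⁻¹ := by rw [← h1]; group

/-- if `B(k, l) = 0` and `B(., l) ≠ 0` then `d'_l` acts on `K u` as `k` -/
theorem dgl_act (hl : l ∈ K v) (hll : l * l = v) (hk : k ∈ K u) (hkk : k * k = u) (hb : Bz u k l)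
    {k' : G} (hk' : k' ∈ K u) (hkk' : k' * k' = u) (hb' : ¬ Bz u k' l) (hx : x ∈ K u) :
    dg u l * x * (dg u l)⁻¹ = k * x * k⁻¹ := by
  have hkinv : Bz u k⁻¹ l := by
    unfold Bz at *
    rw [mul_inv_eq_iff_eq_mul, mul_assoc, hb, inv_mul_cancel_left]
  have hu' : Bz u u l := h.dgl_comm_u hu hv hs hl
  -- `x` on the axis of `k`
  have case1 : ∀ x, x = k ∨ x = k⁻¹ → dg u l * x * (dg u l)⁻¹ = k * x * k⁻¹ := by
    rintro x (rfl | rfl)
    · rw [show dg u l * x = x * dg u l from hb, mul_inv_cancel_right, mul_inv_cancel_right]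
    · rw [show dg u l * k⁻¹ = k⁻¹ * dg u l from hkinv, mul_inv_cancel_right, mul_inv_cancel, one_mul]
  by_cases h1 : x = 1
  · rw [h1]; group
  by_cases h2 : x = u
  · rw [h2, show dg u l * u = u * dg u l from hu', mul_inv_cancel_right, h.cent hu hk, mul_inv_cancel_right]
  have hxx := h.sq_eq hu hx h1 h2
  by_cases h3 : x = k
  · exact case1 x (Or.inl h3)
  by_cases h4 : x = k⁻¹
  · exact case1 x (Or.inr h4)
  -- `x` not on the axis of `k`: `k x k⁻¹ = x⁻¹ = x u`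
  rw [h.inv_of_ne hu hk hkk hx hxx h3 h4, h.inv_eq_mul hu hxx]
  refine h.nbz ha hu hv hs hl hll hx fun h5 => hb' ?_
  -- `B(x, l) = 0 = B(k, l)`, so `B(k', l) = 0`
  have hxinv : Bz u x⁻¹ l := by
    unfold Bz at *
    rw [mul_inv_eq_iff_eq_mul, mul_assoc, h5, inv_mul_cancel_left]
  by_cases h6 : k' = k
  · rw [h6]; exact hb
  by_cases h7 : k' = k⁻¹
  · rw [h7]; exact hkinv
  by_cases h8 : k' = x
  · rw [h8]; exact h5
  by_cases h9 : k' = x⁻¹
  · rw [h9]; exact hxinv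
  rcases h.third hu hk hkk hx hxx hk' hkk' h3 h4 h8 h9 h6 h7 with h10 | h10
  · rw [h10]; exact bz_mul hb h5
  · rw [h10, mul_inv_rev]; exact bz_mul hxinv hkinv

/-- `(l k) v (l k)⁻¹ = u w d_k d'_l` if `B(k, l) = 0` -/
theorem conj_lk (hl : l ∈ K v) (hll : l * l = v) (hk : k ∈ K u) (hkk : k * k = u) (hb : Bz u k l) :
    (l * k) * v * (l * k)⁻¹ = u * wt u v * (dg v k * dg u l) := by
  have h1 := h.conj_k_v hu hv hs hk hkk
  have h2 := h.conj_k_v hv hu (h.csw_symm hu hv hs) hl hll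
  have h3 : dg v k * l = l * dg v k := (h.bz_symm ha hu hv hs hl hll hk hkk).1 hb
  have h4 := h.cent hv hl
  have h5 := h.conj_u hu hv hs
  have h6 := h.dg_comm_u hu hv hs hk
  have h7 := h.dgl_comm_v hu hv hs hl
  have h8 := h.dg_comm_v hu hv hs hk
  have h9 := h.dgl_comm_u hu hv hs hl
  have hvv := h.inv hv
  calc (l * k) * v * (l * k)⁻¹ = l * (k * v * k⁻¹) * l⁻¹ := by group
    _ = (l * v) * dg v k * u * l⁻¹ := by rw [h1]; group
    _ = v * (l * dg v k) * u * l⁻¹ := by rw [h4]; group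
    _ = v * dg v k * (l * u * l⁻¹) := by rw [← h3]; group
    _ = v * (dg v k * u) * (dg u l * v) := by rw [h2]; group
    _ = v * u * (dg v k * v) * dg u l := by rw [h6, h7]; group
    _ = (v * u * v⁻¹) * (dg v k * dg u l) := by rw [h8, hvv]; group
    _ = u * wt u v * (dg v k * dg u l) := by rw [h5]

/-- **CLAIM S, case (a)** -/
theorem claim_a (hl : l ∈ K v) (hll : l * l = v) (hall : ∀ k ∈ K u, k * k = u → Bz u k l)
    (f : ↥(K u ⊔ K v) →* ℤˣ) {x : G} (hx : x ∈ K u) : f ⟨x, mem_sup_left hx⟩ = 1 := by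
  refine h.f_one_of_all hu le_sup_left f (fun k hk hkk => ?_) hx
  have hb := hall k hk hkk
  set q := (l * k) * v * (l * k)⁻¹ with hq
  have hqZ : q ∈ Z := h.conjZ v hv _
  have hqe := h.conj_lk ha hu hv hs hl hll hk hkk hb
  -- `q` acts on `K u` as `k`
  have hact : ∀ x ∈ K u, q * x * q⁻¹ = k * x * k⁻¹ := by
    intro x hx
    have h1 : dg u l * x * (dg u l)⁻¹ = x := by
      have h2 : dg u l * x = x * dg u l := by
        by_cases h3 : x = 1
        · rw [h3, one_mul, mul_one]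
        by_cases h4 : x = u
        · rw [h4]; exact h.dgl_comm_u hu hv hs hl
        exact hall x hx (h.sq_eq hu hx h3 h4)
      rw [h2, mul_inv_cancel_right]
    have h2 := h.dg_act hu hv hs hk hx
    have h3 := h.wt_cen_u hu hv hs (k * x * k⁻¹) (mul_mem (mul_mem hk hx) (inv_mem hk))
    have h4 := h.cent hu (mul_mem (mul_mem hk hx) (inv_mem hk))
    rw [hq, hqe]
    calc u * wt u v * (dg v k * dg u l) * x * (u * wt u v * (dg v k * dg u l))⁻¹
        = u * (wt u v * (dg v k * (dg u l * x * (dg u l)⁻¹) * (dg v k)⁻¹) * (wt u v)⁻¹) * u⁻¹ := by group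
      _ = u * (wt u v * (k * x * k⁻¹) * (wt u v)⁻¹) * u⁻¹ := by rw [h1, h2]
      _ = u * (k * x * k⁻¹) * u⁻¹ := by rw [h3, mul_inv_cancel_right]
      _ = k * x * k⁻¹ := by rw [← h4, mul_inv_cancel_right]
  have hinn : Inn K q u k := ⟨hk, hkk, hact⟩
  have hqu : q * u = u * q := by
    have h1 := hact u (h.mem u hu)
    rw [h.cent hu hk, mul_inv_cancel_right, mul_inv_eq_iff_eq_mul] at h1
    exact h1
  have hne : u ≠ q := by
    intro h1
    refine h.not_cen_of_inn hu hinn ?_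
    rw [← h1]
    exact fun k hk => (h.cent hu hk).symm
  have hti : TI K u q := by
    rcases h.tri hu hqZ hne hqu.symm with h1 | h1 | ⟨b, b', h1, -⟩
    · exact absurd (h.cen_of_cp hqZ h1) (h.not_cen_of_inn hu hinn)
    · exact h1
    · exact (h.not_inn_trn hu hinn h1).elim
  obtain ⟨c, hc, hcc, hcu⟩ := h.ti_four hti
  obtain ⟨h1, h2⟩ := h.ti_act hu hinn hcc hcu
  refine h.f_one_of_move hu le_sup_left f hk hkk (c := c) ?_ hcu h1 h2
  -- `K q ≤ X`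
  rw [hq, h.conjK v hv, mem_cj] at hc
  have h3 : c = (l * k) * ((l * k)⁻¹ * c * (l * k)) * (l * k)⁻¹ := by group
  have hlk : l * k ∈ K u ⊔ K v := mul_mem (mem_sup_right hl) (mem_sup_left hk)
  rw [h3]
  exact mul_mem (mul_mem hlk (mem_sup_right hc)) (inv_mem hlk)

end W

end Cfsg.Agent.Cit.Nil.ROne
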