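import Cfsg.Agent.Cit.Nil.ROne.ClaimA

/-!
# (6b), `r = 1`, core-free: CLAIM S, an element rotating the axes of `K u` (helper194)

`f_one_of_rot` : `d ∈ X` commutes with `u` and moves the three axes of `K u`: homomorphisms `X → ±1` are trivial on `K u`.
-/

set_option autoImplicit false
set_option linter.style.haveILetI false
set_option linter.unusedSectionVars false

namespace Cfsg.Agent.Cit.Nil.ROne

open Subgroup Cfsg Cit

variable {G : Type*} [Group G]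

namespace W

variable {Z : Set G} {K : G → Subgroup G} {z u v g x y b k l n m s d : G} (h : W Z K)

include h

theorem f_one_of_rot (hu : u ∈ Z) {X : Subgroup G} (hX : K u ≤ X) (f : X →* ℤˣ) (hd : d ∈ X) (hdu : d * u = u * d)
    (hm : ∀ y ∈ K u, y * y = u → d * y * d⁻¹ ≠ y ∧ d * y * d⁻¹ ≠ y⁻¹) (hx : x ∈ K u) : f ⟨x, hX hx⟩ = 1 := by
  refine h.f_one_of_all hu hX f (fun y hy hyy => ?_) hx
  have cj : ∀ {a : G} (_ : a ∈ K u), d * a * d⁻¹ ∈ K u := fun ha => h.norm_mem hu hdu ha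
  have sq : ∀ {a : G}, a * a = u → d * a * d⁻¹ * (d * a * d⁻¹) = u := by
    intro a haa
    calc d * a * d⁻¹ * (d * a * d⁻¹) = d * (a * a) * d⁻¹ := by group
      _ = u := by rw [haa, hdu, mul_inv_cancel_right]
  have fc : ∀ {a : G} (ha : a ∈ K u), f ⟨d * a * d⁻¹, hX (cj ha)⟩ = f ⟨a, hX ha⟩ := by
    intro a ha
    have h8 : (⟨d * a * d⁻¹, hX (cj ha)⟩ : X) = ⟨d, hd⟩ * ⟨a, hX ha⟩ * ⟨d, hd⟩⁻¹ := rfl
    rw [h8, map_mul, map_mul, map_inv, mul_comm (f ⟨d, hd⟩), mul_inv_cancel_right]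
  set x := d * y * d⁻¹ with hxdef
  have hxK : x ∈ K u := cj hy
  have hxx : x * x = u := sq hyy
  set x2 := d * x * d⁻¹ with hx2def
  have hx2K : x2 ∈ K u := cj hxK
  have hx2x : x2 * x2 = u := sq hxx
  obtain ⟨h1, h2⟩ := hm y hy hyy
  obtain ⟨h3, h4⟩ := hm x hxK hxx
  have hyu : y * x = x * y * u := by
    have h5 := h.inv_of_ne hu hy hyy hxK hxx h1 h2
    rw [h.inv_eq_mul hu hxx, mul_inv_eq_iff_eq_mul] at h5
    rw [h5, mul_assoc, ← h.cent hu hy, ← mul_assoc]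
  have hyxsq : (y * x) * (y * x) = u := h.mul_sq hu hy hyy hxK hxx h1 h2
  -- `x2` is not on the axis of `y`
  have key : x2 ≠ y ∧ x2 ≠ y⁻¹ := by
    obtain ⟨h6, h7⟩ := hm (y * x) (mul_mem hy hxK) hyxsq
    have h8 : d * (y * x) * d⁻¹ = x * x2 := by rw [hx2def, hxdef]; group
    have h9 : (y * x)⁻¹ = y * x * u := h.inv_eq_mul hu hyxsq
    rw [h8] at h6 h7
    have h10 : x * y = y * x * u := by
      rw [hyu, mul_assoc (x * y), h.sq u hu, mul_one]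
    constructor
    · intro h11
      rw [h11] at h7
      exact h7 (by rw [h9]; exact h10)
    · intro h11
      apply h6
      rw [h11, h.inv_eq_mul hu hyy, ← mul_assoc, h10, mul_assoc (y * x), h.sq u hu, mul_one]
  have e1 : f ⟨x, hX hxK⟩ = f ⟨y, hX hy⟩ := fc hy
  have e2 : f ⟨x2, hX hx2K⟩ = f ⟨y, hX hy⟩ := (fc hxK).trans e1
  have e3 : f ⟨y * x, hX (mul_mem hy hxK)⟩ = f ⟨y, hX hy⟩ * f ⟨x, hX hxK⟩ := by rw [← map_mul]; rfl
  have e4 : f ⟨y, hX hy⟩ * f ⟨x, hX hxK⟩ = 1 := by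
    rw [e1]
    rcases Int.units_eq_one_or (f ⟨y, hX hy⟩) with h5 | h5 <;> rw [h5] <;> simp
  rcases h.third hu hy hyy hxK hxx hx2K hx2x h1 h2 h3 h4 key.1 key.2 with h5 | h5
  · have h6 : (⟨x2, hX hx2K⟩ : X) = ⟨y * x, hX (mul_mem hy hxK)⟩ := Subtype.ext h5
    rw [h6, e3, e4] at e2
    exact e2.symm
  · have h6 : (⟨x2, hX hx2K⟩ : X) = ⟨y * x, hX (mul_mem hy hxK)⟩⁻¹ := Subtype.ext h5
    rw [h6, map_inv, e3, e4, inv_one] at e2
    exact e2.symm

end W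

end Cfsg.Agent.Cit.Nil.ROne
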