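import Cfsg.Agent.Cit.Commute
import Cfsg.Agent.Cit.Nil.ROne.QEight

/-!
# (6b), `r = 1`, core-free: the world (helper194)

`W Z K` : `Z` is an invariant set of involutions, `K z` (`z ∈ Z`) a quaternion group of order 8 with involution `z`,
`K (g z g⁻¹) = g (K z) g⁻¹` (so `K z` is normal in `C(z)`).

* `CP K u v` : `(u, v)` is a C-pair (`u ≠ v`, `[K u, K v] = 1`);
* `Inn K g z y` : `g` acts on `K z` as the inner automorphism by `y ∈ K z`, `y² = z`;
* `Trn K g z a` : `g` acts on `K z` as a transposition inverting `a`;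
* `C3 Z K`, `OneCls Z`, `NilP Z K` : additional hypotheses;
* `W.hyp` : `Hyp (K '' Z)`; `W.of_hyp` : `W` from `Hyp Om`.
-/

set_option autoImplicit false
set_option linter.style.haveILetI false
set_option linter.unusedSectionVars false

namespace Cfsg.Agent.Cit.Nil.ROne

open Subgroup Cfsg Cit QuaternionGroup

variable {G : Type*} [Group G]

/-- see the head of the file -/
structure W (Z : Set G) (K : G → Subgroup G) : Prop where
  sq : ∀ z ∈ Z, z * z = 1
  ne : ∀ z ∈ Z, z ≠ 1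
  mem : ∀ z ∈ Z, z ∈ K z
  conjZ : ∀ z ∈ Z, ∀ g, g * z * g⁻¹ ∈ Z
  conjK : ∀ z ∈ Z, ∀ g, K (g * z * g⁻¹) = cj g (K z)
  q8 : ∀ z ∈ Z, Nonempty (K z ≃* QuaternionGroup 2)

/-- `(u, v)` is a C-pair -/
def CP (K : G → Subgroup G) (u v : G) : Prop := u ≠ v ∧ ∀ a ∈ K u, ∀ b ∈ K v, a * b = b * a

/-- `g` centralises `K z` -/
def Cen (K : G → Subgroup G) (g z : G) : Prop := ∀ k ∈ K z, g * k = k * g

/-- `g` acts on `K z` as `y` -/
structure Inn (K : G → Subgroup G) (g z y : G) : Prop where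
  mem : y ∈ K z
  sq : y * y = z
  act : ∀ k ∈ K z, g * k * g⁻¹ = y * k * y⁻¹

/-- `g` acts on `K z` as a transposition inverting `a` -/
structure Trn (K : G → Subgroup G) (g z a : G) : Prop where
  mem : a ∈ K z
  sq : a * a = z
  inv : g * a * g⁻¹ = a⁻¹
  ne : ∀ b ∈ K z, b * b = z → b ≠ a → b ≠ a⁻¹ → g * b * g⁻¹ ≠ b ∧ g * b * g⁻¹ ≠ b⁻¹

/-- (C3) : no cyclic subgroup of order 4 of `K z` is normal in `C(z)` -/
def C3 (Z : Set G) (K : G → Subgroup G) : Prop :=
  ∀ z ∈ Z, ∀ y ∈ K z, y * y = z → ∃ g, g * z = z * g ∧ g * y * g⁻¹ ≠ y ∧ g * y * g⁻¹ ≠ y⁻¹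

/-- `Z` is a class -/
def OneCls (Z : Set G) : Prop := ∀ z ∈ Z, ∀ u ∈ Z, ∃ g, g * z * g⁻¹ = u

/-- all C-pairs are nil: `v ∈ O₂(C(u))` -/
def NilP (Z : Set G) (K : G → Subgroup G) : Prop :=
  ∀ u ∈ Z, ∀ v ∈ Z, CP K u v →
    ∃ N : Subgroup G, N ≤ centralizer {u} ∧ centralizer {u} ≤ normalizer (N : Set G) ∧ IsPGroup 2 N ∧ v ∈ N

namespace W

variable {Z : Set G} {K : G → Subgroup G} {z u v g x y b k : G}

section basic

variable (h : W Z K)

include h

theorem inv (hz : z ∈ Z) : z⁻¹ = z := inv_eq_of_mul_eq_one_right (h.sq z hz)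

theorem ord (hz : z ∈ Z) : orderOf z = 2 :=
  orderOf_eq_prime (by rw [pow_two]; exact h.sq z hz) (h.ne z hz)

/-- the model isomorphism -/
noncomputable def e (hz : z ∈ Z) : K z ≃* QEight.Q := (h.q8 z hz).some

theorem e_z (hz : z ∈ Z) : h.e hz ⟨z, h.mem z hz⟩ = a 2 := by
  have h1 : ∀ x : QEight.Q, x * x = 1 → x ≠ 1 → x = a 2 := by decide
  apply h1
  · rw [← map_mul, ← map_one (h.e hz)]
    exact congrArg (h.e hz) (Subtype.ext (h.sq z hz))
  · intro h2
    rw [← map_one (h.e hz)] at h2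
    exact h.ne z hz (congrArg Subtype.val ((h.e hz).injective h2))

/-- an element of `K z` with square `1` is `1` or `z` -/
theorem uniq (hz : z ∈ Z) (hx : x ∈ K z) (hxx : x * x = 1) : x = 1 ∨ x = z := by
  by_cases h1 : x = 1
  · exact Or.inl h1
  right
  have h2 : ∀ x : QEight.Q, x * x = 1 → x ≠ 1 → x = a 2 := by decide
  have h3 : h.e hz ⟨x, hx⟩ = a 2 := by
    apply h2
    · rw [← map_mul, ← map_one (h.e hz)]
      exact congrArg (h.e hz) (Subtype.ext hxx)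
    · intro h3
      rw [← map_one (h.e hz)] at h3
      exact h1 (congrArg Subtype.val ((h.e hz).injective h3))
  rw [← h.e_z hz] at h3
  exact congrArg Subtype.val ((h.e hz).injective h3)

/-- the other elements have square `z` -/
theorem sq_eq (hz : z ∈ Z) (hx : x ∈ K z) (h1 : x ≠ 1) (h2 : x ≠ z) : x * x = z := by
  have h3 : ∀ x : QEight.Q, x ≠ 1 → x ≠ a 2 → x * x = a 2 := by decide
  have h4 : h.e hz ⟨x, hx⟩ * h.e hz ⟨x, hx⟩ = a 2 := by
    apply h3
    · intro h3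
      rw [← map_one (h.e hz)] at h3
      exact h1 (congrArg Subtype.val ((h.e hz).injective h3))
    · intro h3
      rw [← h.e_z hz] at h3
      exact h2 (congrArg Subtype.val ((h.e hz).injective h3))
  rw [← map_mul, ← h.e_z hz] at h4
  exact congrArg Subtype.val ((h.e hz).injective h4)

theorem card8 (hz : z ∈ Z) : Nat.card (K z) = 8 := by
  rw [Nat.card_congr (h.e hz).toEquiv, Nat.card_eq_fintype_card]
  decide

theorem two (hz : z ∈ Z) : IsPGroup 2 (K z) := by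
  haveI : Fact (Nat.Prime 2) := ⟨Nat.prime_two⟩
  exact IsPGroup.of_card (n := 3) (h.card8 hz)

/-- `K z ≤ C(z)` -/
theorem cent (hz : z ∈ Z) (hx : x ∈ K z) : x * z = z * x := by
  have h3 : ∀ x : QEight.Q, x * a 2 = a 2 * x := by decide
  have h4 := h3 (h.e hz ⟨x, hx⟩)
  rw [← h.e_z hz, ← map_mul, ← map_mul] at h4
  exact congrArg Subtype.val ((h.e hz).injective h4)

theorem K_le (hz : z ∈ Z) : K z ≤ centralizer {z} := fun _ hx =>
  mem_centralizer_singleton_iff.2 (h.cent hz hx)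

/-- `C(z)` normalises `K z` -/
theorem norm (hz : z ∈ Z) (hg : g * z = z * g) : cj g (K z) = K z := by
  rw [← h.conjK z hz g, hg, mul_inv_cancel_right]

theorem mem_norm (hz : z ∈ Z) (hg : g * z = z * g) : g ∈ normalizer (K z : Set G) :=
  mem_normalizer_iff_cj.2 (h.norm hz hg)

theorem norm_mem (hz : z ∈ Z) (hg : g * z = z * g) (hx : x ∈ K z) : g * x * g⁻¹ ∈ K z := by
  have h1 := conj_mem_cj (g := g) hx
  rwa [h.norm hz hg] at h1

theorem norm_mem' (hz : z ∈ Z) (hg : g * z = z * g) (hx : x ∈ K z) : g⁻¹ * x * g ∈ K z := by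
  have h1 : g⁻¹ * z = z * g⁻¹ := by
    rw [inv_mul_eq_iff_eq_mul, ← mul_assoc, hg, mul_inv_cancel_right]
  have h2 := h.norm_mem hz h1 hx
  rwa [inv_inv] at h2

/-- elements `i`, `j` generating `K z` -/
theorem exists_ij (hz : z ∈ Z) : ∃ i ∈ K z, ∃ j ∈ K z, i * i = z ∧ j * j = z ∧ j * i = z * (i * j) ∧
    ∀ x ∈ K z, x = 1 ∨ x = z ∨ x = i ∨ x = z * i ∨ x = j ∨ x = z * j ∨ x = i * j ∨ x = z * (i * j) := by
  obtain ⟨e⟩ : Nonempty (K z ≃* QEight.Q) := ⟨h.e hz⟩
  have hez := h.e_z hz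
  set f := h.e hz with hf
  have lift : ∀ p q : K z, f p = f q → (p : G) = q := fun p q hpq => congrArg Subtype.val (f.injective hpq)
  refine ⟨(f.symm (a 1) : K z), (f.symm (a 1)).2, (f.symm (xa 0) : K z), (f.symm (xa 0)).2, ?_, ?_, ?_, ?_⟩
  · refine lift (f.symm (a 1) * f.symm (a 1)) ⟨z, h.mem z hz⟩ ?_
    rw [map_mul, hez, f.apply_symm_apply]; decide
  · refine lift (f.symm (xa 0) * f.symm (xa 0)) ⟨z, h.mem z hz⟩ ?_
    rw [map_mul, hez, f.apply_symm_apply]; decide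
  · refine lift (f.symm (xa 0) * f.symm (a 1)) (⟨z, h.mem z hz⟩ * (f.symm (a 1) * f.symm (xa 0))) ?_
    rw [map_mul, map_mul, map_mul, hez, f.apply_symm_apply, f.apply_symm_apply]; decide
  · intro x hx
    have h1 : ∀ x : QEight.Q, x = 1 ∨ x = a 2 ∨ x = a 1 ∨ x = a 2 * a 1 ∨ x = xa 0 ∨ x = a 2 * xa 0 ∨
        x = a 1 * xa 0 ∨ x = a 2 * (a 1 * xa 0) := by decide
    have key : ∀ p : K z, f ⟨x, hx⟩ = f p → x = p := fun p hp => lift ⟨x, hx⟩ p hp
    have hz' : f.symm (a 2) = ⟨z, h.mem z hz⟩ := by rw [← hez, f.symm_apply_apply]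
    have conv : ∀ q : QEight.Q, f ⟨x, hx⟩ = q → x = (f.symm q : K z) := by
      intro q hq
      exact key _ (by rw [f.apply_symm_apply]; exact hq)
    rcases h1 (f ⟨x, hx⟩) with h2 | h2 | h2 | h2 | h2 | h2 | h2 | h2
    · left; rw [conv _ h2, map_one]; rfl
    · right; left; rw [conv _ h2, hz']
    · right; right; left; exact conv _ h2
    · right; right; right; left; rw [conv _ h2, map_mul, hz']; rfl
    · right; right; right; right; left; exact conv _ h2
    · right; right; right; right; right; left; rw [conv _ h2, map_mul, hz']; rfl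
    · right; right; right; right; right; right; left; rw [conv _ h2, map_mul]; rfl
    · right; right; right; right; right; right; right; rw [conv _ h2, map_mul, map_mul, hz']; rfl

end basic

/-! ### The conjugation action on `K z` -/

section act

variable (h : W Z K)

/-- conjugation by `g ∈ C(z)` on `K z` -/
def actK (hz : z ∈ Z) (g : G) (hg : g * z = z * g) : MulAut (K z) where
  toFun x := ⟨g * x * g⁻¹, h.norm_mem hz hg x.2⟩
  invFun x := ⟨g⁻¹ * x * g, h.norm_mem' hz hg x.2⟩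
  left_inv x := Subtype.ext (by change g⁻¹ * (g * x * g⁻¹) * g = x; group)
  right_inv x := Subtype.ext (by change g * (g⁻¹ * x * g) * g⁻¹ = x; group)
  map_mul' x y := Subtype.ext (by change g * (x * y) * g⁻¹ = (g * x * g⁻¹) * (g * y * g⁻¹); group)

/-- conjugation by `g ∈ C(z)` on the model of `K z` -/
noncomputable def rho (hz : z ∈ Z) (g : G) (hg : g * z = z * g) : MulAut QEight.Q :=
  ((h.e hz).symm.trans (h.actK hz g hg)).trans (h.e hz)

theorem rho_e (hz : z ∈ Z) (hg : g * z = z * g) (hx : x ∈ K z) :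
    h.rho hz g hg (h.e hz ⟨x, hx⟩) = h.e hz ⟨g * x * g⁻¹, h.norm_mem hz hg hx⟩ := by
  change h.e hz (h.actK hz g hg ((h.e hz).symm (h.e hz ⟨x, hx⟩))) = _
  rw [(h.e hz).symm_apply_apply]
  rfl

theorem e_inj (hz : z ∈ Z) (hx : x ∈ K z) (hy : y ∈ K z) (he : h.e hz ⟨x, hx⟩ = h.e hz ⟨y, hy⟩) : x = y :=
  congrArg Subtype.val ((h.e hz).injective he)

theorem exists_e (hz : z ∈ Z) (p : QEight.Q) : ∃ x, ∃ hx : x ∈ K z, h.e hz ⟨x, hx⟩ = p :=
  ⟨((h.e hz).symm p : K z), ((h.e hz).symm p).2, (h.e hz).apply_symm_apply p⟩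

theorem e_mul (hz : z ∈ Z) (hx : x ∈ K z) (hy : y ∈ K z) :
    h.e hz ⟨x * y, mul_mem hx hy⟩ = h.e hz ⟨x, hx⟩ * h.e hz ⟨y, hy⟩ := by
  rw [← map_mul]; rfl

theorem e_inv (hz : z ∈ Z) (hx : x ∈ K z) : h.e hz ⟨x⁻¹, inv_mem hx⟩ = (h.e hz ⟨x, hx⟩)⁻¹ := by
  rw [← map_inv]; rfl

theorem rho_mul (hz : z ∈ Z) {g' : G} (hg : g * z = z * g) (hg' : g' * z = z * g') (hgg : (g * g') * z = z * (g * g')) :
    h.rho hz (g * g') hgg = h.rho hz g hg * h.rho hz g' hg' := by
  refine MulEquiv.ext fun p => ?_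
  obtain ⟨x, hx, rfl⟩ := h.exists_e hz p
  rw [MulAut.mul_apply, rho_e, rho_e, rho_e]
  congr 1
  exact Subtype.ext (by change (g * g') * x * (g * g')⁻¹ = g * (g' * x * g'⁻¹) * g⁻¹; group)

theorem rho_eq_one (hz : z ∈ Z) (hg : g * z = z * g) : h.rho hz g hg = 1 ↔ Cen K g z := by
  constructor
  · intro h1 k hk
    have h2 := h.rho_e hz hg hk
    rw [h1, MulAut.one_apply] at h2
    have h3 := h.e_inj hz _ _ h2
    exact (eq_mul_inv_iff_mul_eq.1 h3).symm
  · intro h1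
    refine MulEquiv.ext fun p => ?_
    obtain ⟨x, hx, rfl⟩ := h.exists_e hz p
    rw [rho_e, MulAut.one_apply]
    congr 1
    exact Subtype.ext (by change g * x * g⁻¹ = x; rw [h1 x hx, mul_inv_cancel_right])

end act

end W

end Cfsg.Agent.Cit.Nil.ROne
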