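import Cfsg.Agent.Cit.Nil.ROne.Defs
import Cfsg.Agent.Cit.Nil.AbSyl

/-!
# `r = 1`, (10.2) : abelian Sylow 2-subgroups

`false_of_abelian` : (C3), a perfect normal subgroup `X` with `Z ⊆ X` whose 2-subgroups are abelian: impossible.

The argument (a shorter version of (10.2) of helper545's text, no `Ω₁`, no coprime generation):
`S0 = S ⊓ X`, `K z ≤ S`.  `K z ⊓ X = ⟨z⟩`, `[S0, K z] ≤ ⟨z⟩`, `C_{K z}(S0)` is `⟨z⟩` or `K z` by (C3).
* `⟨z⟩` : let `n ∈ N_X(S0)`, `z' = z^n ≠ z`.  If `k ∈ K z - ⟨z⟩` centralises `z'`, then `k` and `k^n` are commuting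
  transvections or generate a 2-group modulo `C(S0)`, so `k⁻¹ k^n ∈ C(S0)`, `z' = z`.  So all `k ∈ K z - ⟨z⟩` move `z'`, absurd.
* `K z` : `k⁻¹ k^n ∈ X` is a 2-element centralising `S0`, so in `S0`, so `K z` centralises `k`.
-/

set_option autoImplicit false
set_option linter.style.haveILetI false
set_option linter.unusedSectionVars false
set_option linter.unusedVariables false

namespace Cfsg.Agent.Cit.Nil.ROne.EndAb

open Subgroup Cfsg Cit OneBasic AbSyl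

variable {G : Type*} [Group G] [Finite G] {Z : Set G} {K : G → Subgroup G} {X : Subgroup G} {z : G}

/-- commuting elements of order 4 of `K z` are equal up to inversion -/
theorem eq_or_inv_of_comm (w : W Z K) (hz : z ∈ Z) {x y : G} (hx : x ∈ K z) (hy : y ∈ K z) (hxx : x * x = z)
    (hyy : y * y = z) (hc : x * y = y * x) : y = x ∨ y = x⁻¹ := by
  have h1 : (x⁻¹ * y) * (x⁻¹ * y) = 1 := by
    have h2 : x⁻¹ * y = y * x⁻¹ := by
      rw [inv_mul_eq_iff_eq_mul, ← mul_assoc, hc, mul_inv_cancel_right]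
    calc (x⁻¹ * y) * (x⁻¹ * y) = (x⁻¹ * y) * (y * x⁻¹) := by rw [← h2]
      _ = x⁻¹ * (y * y) * x⁻¹ := by group
      _ = x⁻¹ * (x * x) * x⁻¹ := by rw [hyy, hxx]
      _ = 1 := by group
  rcases w.uniq hz (mul_mem (inv_mem hx) hy) h1 with h2 | h2
  · left
    rw [inv_mul_eq_one] at h2
    exact h2.symm
  · right
    rw [inv_mul_eq_iff_eq_mul] at h2
    rw [h2, ← hxx]
    have h3 : x * x * (x * x) = 1 := by rw [hxx]; exact w.sq z hz
    rw [← mul_assoc]
    exact eq_inv_of_mul_eq_one_left (by rw [mul_assoc (x * x), h3])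

/-- `K z ⊓ X = ⟨z⟩` -/
theorem inf_eq (w : W Z K) (c3 : C3 Z K) [hn : X.Normal]
    (hab : ∀ P : Subgroup G, P ≤ X → IsPGroup 2 P → ∀ a ∈ P, ∀ b ∈ P, a * b = b * a) (hz : z ∈ Z) {x : G}
    (hx : x ∈ K z) (hxX : x ∈ X) : x = 1 ∨ x = z := by
  by_contra hcon
  push Not at hcon
  have hxx := w.sq_eq hz hx hcon.1 hcon.2
  obtain ⟨g, hg, h1, h2⟩ := c3 z hz x hx hxx
  have hy : g * x * g⁻¹ ∈ K z := w.norm_mem hz hg hx
  have hyy : (g * x * g⁻¹) * (g * x * g⁻¹) = z := by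
    have h3 : (g * x * g⁻¹) * (g * x * g⁻¹) = g * (x * x) * g⁻¹ := by group
    rw [h3, hxx, hg, mul_inv_cancel_right]
  have hc := hab (K z ⊓ X) inf_le_right ((w.two hz).to_le inf_le_left) x ⟨hx, hxX⟩ _ ⟨hy, hn.conj_mem x hxX g⟩
  rcases eq_or_inv_of_comm w hz hx hy hxx hyy hc with h3 | h3
  · exact h1 h3
  · exact h2 h3

/-- elements of `X ⊓ C(z)` act trivially on `K z / ⟨z⟩` -/
theorem act_inn (w : W Z K) (c3 : C3 Z K) [hn : X.Normal]
    (hab : ∀ P : Subgroup G, P ≤ X → IsPGroup 2 P → ∀ a ∈ P, ∀ b ∈ P, a * b = b * a) (hz : z ∈ Z) {c : G}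
    (hc : c ∈ X) (hcz : c * z = z * c) {k : G} (hk : k ∈ K z) : c * k * c⁻¹ = k ∨ c * k * c⁻¹ = z * k := by
  have h1 : c * k * c⁻¹ * k⁻¹ ∈ K z := mul_mem (w.norm_mem hz hcz hk) (inv_mem hk)
  have h2 : c * k * c⁻¹ * k⁻¹ ∈ X := by
    have h3 : c * k * c⁻¹ * k⁻¹ = c * (k * c⁻¹ * k⁻¹) := by group
    rw [h3]
    exact mul_mem hc (hn.conj_mem _ (inv_mem hc) k)
  rcases inf_eq w c3 hab hz h1 h2 with h3 | h3
  · left; exact mul_inv_eq_one.1 h3
  · right; exact mul_inv_eq_iff_eq_mul.1 h3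

/-- elements of `N_X(S0)` with a 2-power centralising `S0` centralise `S0` -/
theorem cent_of_pow {S0 : Subgroup G} (hS : Syl S0 X) (hS0 : ∀ a ∈ S0, ∀ b ∈ S0, a * b = b * a) {n : G}
    (hnX : n ∈ X) (hnN : n ∈ normalizer (S0 : Set G)) {j : ℕ} (hj : ∀ s ∈ S0, n ^ 2 ^ j * s = s * n ^ 2 ^ j) :
    ∀ s ∈ S0, n * s = s * n := by
  obtain ⟨m, hm, hm2⟩ := exists_odd_pow n
  have h3 : n ^ m ∈ S0 := by
    have h4 : zpowers (n ^ m) ≤ S0 :=
      syl_le_of_normalizes' hS hm2 (zpowers_le.2 (X.pow_mem hnX m)) (zpowers_le.2 (pow_mem hnN m))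
    exact h4 (mem_zpowers _)
  intro s hs
  have c1 : n ^ m ∈ centralizer ({s} : Set G) := mem_centralizer_singleton_iff.2 (hS0 _ h3 s hs)
  have c2 : n ^ 2 ^ j ∈ centralizer ({s} : Set G) := mem_centralizer_singleton_iff.2 (hj s hs)
  have hcop : Nat.Coprime m (2 ^ j) := Nat.Coprime.pow_right j hm.coprime_two_right
  have h5 : n ∈ centralizer ({s} : Set G) := by
    have h6 : n = (n ^ m) ^ (Int.gcdA m (2 ^ j)) * (n ^ 2 ^ j) ^ (Int.gcdB m (2 ^ j)) := by
      have h7 := Int.gcd_eq_gcd_ab (m : ℤ) ((2 ^ j : ℕ) : ℤ)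
      have h8 : Int.gcd (m : ℤ) ((2 ^ j : ℕ) : ℤ) = 1 := by
        rw [Int.gcd_natCast_natCast]; exact hcop
      rw [h8] at h7
      rw [← zpow_natCast, ← zpow_natCast, ← zpow_mul, ← zpow_mul, ← zpow_add]
      have h9 : (m : ℤ) * Int.gcdA m (2 ^ j) + ((2 ^ j : ℕ) : ℤ) * Int.gcdB m (2 ^ j) = 1 := by
        push_cast at h7 ⊢
        exact h7.symm
      rw [h9, zpow_one]
    rw [h6]
    exact mul_mem (zpow_mem c1 _) (zpow_mem c2 _)
  exact mem_centralizer_singleton_iff.1 h5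

/-- the situation: `S0` is a Sylow 2-subgroup of `X` normalised by `K z` -/
structure Sit (Z : Set G) (K : G → Subgroup G) (X S0 : Subgroup G) (z : G) : Prop where
  w : W Z K
  c3 : C3 Z K
  nor : X.Normal
  ab : ∀ P : Subgroup G, P ≤ X → IsPGroup 2 P → ∀ a ∈ P, ∀ b ∈ P, a * b = b * a
  hz : z ∈ Z
  syl : Syl S0 X
  zS : z ∈ S0

namespace Sit

variable {S0 : Subgroup G} (h : Sit Z K X S0 z)

include h

theorem comm {a b : G} (ha : a ∈ S0) (hb : b ∈ S0) : a * b = b * a := h.ab S0 h.syl.1 h.syl.2.1 a ha b hb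

/-- `K z` acts on `S0` by `s ↦ s` or `s ↦ z s` -/
theorem act {k s : G} (hk : k ∈ K z) (hs : s ∈ S0) : k * s * k⁻¹ = s ∨ k * s * k⁻¹ = z * s := by
  haveI := h.nor
  have hzs := h.comm h.zS hs
  rcases act_inn h.w h.c3 h.ab h.hz (h.syl.1 hs) hzs.symm hk with h1 | h1
  · left
    rw [mul_inv_eq_iff_eq_mul] at h1 ⊢
    exact h1.symm
  · right
    rw [mul_inv_eq_iff_eq_mul] at h1 ⊢
    have h2 : z * (s * k) = k * s := by
      rw [h1, ← mul_assoc, ← mul_assoc, h.w.sq z h.hz, one_mul]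
    rw [← h2, mul_assoc]

/-- `C_{K z}(S0)` is `⟨z⟩` or `K z` -/
theorem dich {k : G} (hk : k ∈ K z) (hkk : k * k = z) (hc : ∀ s ∈ S0, k * s = s * k) :
    ∀ x ∈ K z, ∀ s ∈ S0, x * s = s * x := by
  have w := h.w
  have hz := h.hz
  haveI := h.nor
  obtain ⟨g, hg, h1, h2⟩ := h.c3 z hz k hk hkk
  have hzz := w.sq z hz
  have hSC : S0 ≤ X ⊓ centralizer ({z} : Set G) :=
    le_inf h.syl.1 fun s hs => mem_centralizer_singleton_iff.2 (h.comm hs h.zS)
  have hs1 : Syl S0 (X ⊓ centralizer ({z} : Set G)) := OneBasic.syl_of_le h.syl hSC inf_le_left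
  have hgX : Cit.cj g X = X := mem_normalizer_iff_cj.1 (by rw [normalizer_eq_top]; exact mem_top g)
  have hs2 : Syl (Cit.cj g S0) (X ⊓ centralizer ({z} : Set G)) := by
    have h3 : Syl (Cit.cj g S0) X := by
      have h4 := h.syl.cj g
      rwa [hgX] at h4
    refine OneBasic.syl_of_le h3 (le_inf h3.1 ?_) inf_le_left
    intro s hs
    rw [mem_cj] at hs
    have h4 := h.comm hs h.zS
    rw [mem_centralizer_singleton_iff]
    have h5 : s = g * (g⁻¹ * s * g) * g⁻¹ := by group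
    rw [h5]
    have h6 : g⁻¹ * z = z * g⁻¹ := by
      rw [inv_mul_eq_iff_eq_mul, ← mul_assoc, hg, mul_inv_cancel_right]
    calc g * (g⁻¹ * s * g) * g⁻¹ * z = g * (g⁻¹ * s * g) * (g⁻¹ * z) := by group
      _ = g * ((g⁻¹ * s * g) * z) * g⁻¹ := by rw [h6]; group
      _ = g * (z * (g⁻¹ * s * g)) * g⁻¹ := by rw [h4]
      _ = (g * z) * (g⁻¹ * s * g) * g⁻¹ := by group
      _ = z * (g * (g⁻¹ * s * g) * g⁻¹) := by rw [hg]; group
  obtain ⟨c, hc1, hc2⟩ := hs2.exists_conj hs1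
  have hcX : c ∈ X := hc1.1
  have hcz : c * z = z * c := mem_centralizer_singleton_iff.1 hc1.2
  obtain ⟨y, hy⟩ : ∃ y, y = g * k * g⁻¹ := ⟨_, rfl⟩
  rw [← hy] at h1 h2
  have hyK : y ∈ K z := by rw [hy]; exact w.norm_mem hz hg hk
  have hyy : y * y = z := by
    have h3 : y * y = g * (k * k) * g⁻¹ := by rw [hy]; group
    rw [h3, hkk, hg, mul_inv_cancel_right]
  -- `x = c y c⁻¹` centralises `S0`
  have hxS : ∀ s ∈ S0, (c * y * c⁻¹) * s = s * (c * y * c⁻¹) := by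
    intro s hs
    have h3 : s ∈ Cit.cj c (Cit.cj g S0) := by rw [hc2]; exact hs
    rw [mem_cj, mem_cj] at h3
    have h4 := hc _ h3
    have h5 : (c * g) * (k * (g⁻¹ * (c⁻¹ * s * c) * g)) * (c * g)⁻¹ = (c * y * c⁻¹) * s := by rw [hy]; group
    have h6 : (c * g) * ((g⁻¹ * (c⁻¹ * s * c) * g) * k) * (c * g)⁻¹ = s * (c * y * c⁻¹) := by rw [hy]; group
    rw [← h5, ← h6, h4]
  have hyinv : z * y = y⁻¹ := by
    refine eq_inv_of_mul_eq_one_left ?_
    rw [mul_assoc, hyy, hzz]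
  have hkinv : z * k = k⁻¹ := by
    refine eq_inv_of_mul_eq_one_left ?_
    rw [mul_assoc, hkk, hzz]
  have hyS : ∀ s ∈ S0, y * s = s * y := by
    intro s hs
    rcases act_inn w h.c3 h.ab hz hcX hcz hyK with h3 | h3
    · have := hxS s hs
      rwa [h3] at this
    · have := hxS s hs
      rw [h3] at this
      have h4 := h.comm h.zS hs
      have h5 : z * (y * s) = z * (s * y) := by
        rw [← mul_assoc z y s, this, ← mul_assoc, ← mul_assoc, h4]
      exact mul_left_cancel h5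
  -- `C = C_{K z}(S0)`
  have hk4 : orderOf k = 4 := by
    have h3 : k ^ 2 ^ 2 = 1 := by
      have h4 : k ^ 2 ^ 2 = (k * k) * (k * k) := by
        rw [show (2 : ℕ) ^ 2 = 2 + 2 by norm_num, pow_add, pow_two]
      rw [h4, hkk, hzz]
    have h4 : ¬ k ^ 2 ^ 1 = 1 := by
      rw [pow_one, pow_two, hkk]; exact w.ne z hz
    exact orderOf_eq_prime_pow h4 h3
  obtain ⟨C, hC⟩ : ∃ C, C = K z ⊓ centralizer (S0 : Set G) := ⟨_, rfl⟩
  have hkC : k ∈ C := by
    rw [hC]; exact ⟨hk, mem_centralizer_iff.2 fun s hs => (hc s hs).symm⟩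
  have hyC : y ∈ C := by
    rw [hC]; exact ⟨hyK, mem_centralizer_iff.2 fun s hs => (hyS s hs).symm⟩
  have hCK : C ≤ K z := by rw [hC]; exact inf_le_left
  have hlt : zpowers k < C := by
    refine lt_of_le_of_ne (zpowers_le.2 hkC) ?_
    intro e
    rw [← e] at hyC
    obtain ⟨i, hi⟩ := hyC
    have hi' : k ^ i = y := hi
    rcases Int.even_or_odd' i with ⟨j, hj | hj⟩
    · have h3 : y * y = 1 := by
        rw [← hi', hj, ← zpow_add]
        have h4 : (2 * j + 2 * j : ℤ) = ((orderOf k : ℕ) : ℤ) * j := by rw [hk4]; push_cast; ring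
        rw [h4, zpow_mul, zpow_natCast, pow_orderOf_eq_one, one_zpow]
      rw [hyy] at h3
      exact w.ne z hz h3
    · rcases Int.even_or_odd' j with ⟨l, hl | hl⟩
      · apply h1
        rw [← hi', hj, hl]
        have h4 : (2 * (2 * l) + 1 : ℤ) = ((orderOf k : ℕ) : ℤ) * l + 1 := by rw [hk4]; push_cast; ring
        rw [h4, zpow_add, zpow_mul, zpow_natCast, pow_orderOf_eq_one, one_zpow, one_mul, zpow_one]
      · apply h2
        rw [← hi', hj, hl]
        have h4 : (2 * (2 * l + 1) + 1 : ℤ) = ((orderOf k : ℕ) : ℤ) * (l + 1) + (-1) := by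
          rw [hk4]; push_cast; ring
        rw [h4, zpow_add, zpow_mul, zpow_natCast, pow_orderOf_eq_one, one_zpow, one_mul, zpow_neg_one]
  have h8 := w.card8 hz
  have hCK' : C = K z := by
    apply Subgroup.eq_of_le_of_card_ge hCK
    have h3 : Nat.card C ∣ 8 := by rw [← h8]; exact card_dvd_of_le hCK
    have h4 : 4 < Nat.card C := by
      rw [← hk4, ← Nat.card_zpowers]
      exact Set.Finite.card_lt_card (Set.toFinite _) hlt
    have h5 : Nat.card C ≤ 8 := Nat.le_of_dvd (by norm_num) h3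
    rw [h8]
    interval_cases (Nat.card C) <;> omega
  intro x hx s hs
  rw [← hCK', hC] at hx
  exact ((mem_centralizer_iff.1 hx.2) s hs).symm

theorem conj_mem_S {n s : G} (hnN : n ∈ normalizer (S0 : Set G)) (hs : s ∈ S0) : n * s * n⁻¹ ∈ S0 :=
  (mem_normalizer_iff.1 hnN s).1 hs

theorem conj_mem_S' {n s : G} (hnN : n ∈ normalizer (S0 : Set G)) (hs : s ∈ S0) : n⁻¹ * s * n ∈ S0 := by
  have h1 := h.conj_mem_S (inv_mem hnN) hs
  rwa [inv_inv] at h1

/-- the case `C_{K z}(S0) = K z` -/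
theorem false_one (hcom : ∀ u ∈ Z, u ≠ z → (∀ k ∈ K z, k * u = u * k) → ∀ a ∈ K z, ∀ b ∈ K u, a * b = b * a)
    (hall : ∀ x ∈ K z, ∀ s ∈ S0, x * s = s * x) {n : G} (hnX : n ∈ X) (hnN : n ∈ normalizer (S0 : Set G))
    (hnz : n * z ≠ z * n) : False := by
  have w := h.w
  have hz := h.hz
  haveI hn := h.nor
  obtain ⟨i, hi, j, hj, hii, hjj, hji, -⟩ := w.exists_ij hz
  have hu : n * z * n⁻¹ ∈ Z := w.conjZ z hz n
  have huS : n * z * n⁻¹ ∈ S0 := h.conj_mem_S hnN h.zS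
  have hne : n * z * n⁻¹ ≠ z := fun e => hnz (mul_inv_eq_iff_eq_mul.1 e)
  have hc := hcom _ hu hne fun k hk => hall k hk _ huS
  have hi' : n * i * n⁻¹ ∈ K (n * z * n⁻¹) := by
    rw [w.conjK z hz n]
    exact conj_mem_cj hi
  have h1 := hc i hi _ hi'
  have h2 := hc j hj _ hi'
  obtain ⟨i', hi'd⟩ : ∃ i', i' = n * i * n⁻¹ := ⟨_, rfl⟩
  rw [← hi'd] at h1 h2
  -- `c = i⁻¹ i'`
  have hcX : i⁻¹ * i' ∈ X := by
    have h3 : i⁻¹ * i' = (i⁻¹ * n * i) * n⁻¹ := by rw [hi'd]; group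
    rw [h3]
    refine mul_mem ?_ (inv_mem hnX)
    have h4 := hn.conj_mem n hnX i⁻¹
    rwa [inv_inv] at h4
  have hic : ∀ s ∈ S0, i⁻¹ * s = s * i⁻¹ := fun s hs => hall _ (inv_mem hi) s hs
  have hi'c : ∀ s ∈ S0, i' * s = s * i' := by
    intro s hs
    have h3 := hall i hi _ (h.conj_mem_S' hnN hs)
    have h4 : n * (i * (n⁻¹ * s * n)) * n⁻¹ = i' * s := by rw [hi'd]; group
    have h5 : n * ((n⁻¹ * s * n) * i) * n⁻¹ = s * i' := by rw [hi'd]; group
    rw [← h4, ← h5, h3]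
  have hcs : ∀ s ∈ S0, (i⁻¹ * i') * s = s * (i⁻¹ * i') := by
    intro s hs
    rw [mul_assoc, hi'c s hs, ← mul_assoc, hic s hs, mul_assoc]
  have hi4 : i ^ 4 = 1 := by
    rw [show 4 = 2 + 2 by norm_num, pow_add, pow_two, hii]; exact w.sq z hz
  have hc4 : (i⁻¹ * i') ^ 4 = 1 := by
    have h3 : Commute i⁻¹ i' := by
      have h4 : Commute i i' := h1
      exact h4.inv_left
    have h4 : i' ^ 4 = 1 := by rw [hi'd, _root_.conj_pow, hi4, mul_one, mul_inv_cancel]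
    rw [h3.mul_pow, inv_pow, hi4, h4, inv_one, one_mul]
  have hc2 : IsPGroup 2 (zpowers (i⁻¹ * i')) := by
    rintro ⟨_, m, rfl⟩
    refine ⟨2, Subtype.ext ?_⟩
    change ((i⁻¹ * i') ^ m) ^ 2 ^ 2 = 1
    rw [← zpow_natCast, ← zpow_mul, mul_comm, zpow_mul, zpow_natCast, show (2 : ℕ) ^ 2 = 4 by norm_num, hc4, one_zpow]
  have hcS : i⁻¹ * i' ∈ S0 := by
    have h3 : zpowers (i⁻¹ * i') ≤ S0 := by
      refine syl_le_of_normalizes' h.syl hc2 (zpowers_le.2 hcX) (zpowers_le.2 ?_)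
      rw [mem_normalizer_iff]
      intro s
      constructor
      · intro hs
        rw [hcs s hs, mul_inv_cancel_right]
        exact hs
      · intro hs
        have h4 := hcs _ hs
        have h5 : (i⁻¹ * i') * s = s * (i⁻¹ * i') := by
          have h6 : (i⁻¹ * i')⁻¹ * ((i⁻¹ * i') * ((i⁻¹ * i') * s * (i⁻¹ * i')⁻¹)) * (i⁻¹ * i') = (i⁻¹ * i') * s := by
            group
          have h7 : (i⁻¹ * i')⁻¹ * (((i⁻¹ * i') * s * (i⁻¹ * i')⁻¹) * (i⁻¹ * i')) * (i⁻¹ * i') = s * (i⁻¹ * i') := by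
            group
          rw [← h6, ← h7, h4]
        rw [h5, mul_inv_cancel_right] at hs
        exact hs
    exact h3 (mem_zpowers _)
  have h3 := hall j hj _ hcS
  -- `j` commutes with `i`
  have h4 : j * i = i * j := by
    have h5 : i = i' * (i⁻¹ * i')⁻¹ := by group
    have h6 : j * (i⁻¹ * i')⁻¹ = (i⁻¹ * i')⁻¹ * j := by
      have h7 : Commute j (i⁻¹ * i') := h3
      exact h7.inv_right
    rw [h5, ← mul_assoc, h2, mul_assoc, h6, mul_assoc]
  rw [hji] at h4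
  exact w.ne z hz (mul_eq_right.1 h4)

/-- the case `C_{K z}(S0) = ⟨z⟩` -/
theorem false_two (hmv : ∀ k ∈ K z, k * k = z → ∃ s ∈ S0, k * s ≠ s * k) {n : G} (hnX : n ∈ X)
    (hnN : n ∈ normalizer (S0 : Set G)) (hnz : n * z ≠ z * n) : False := by
  have w := h.w
  have hz := h.hz
  haveI hn := h.nor
  have hzz := w.sq z hz
  obtain ⟨z', hz'⟩ : ∃ z', z' = n * z * n⁻¹ := ⟨_, rfl⟩
  have hz'S : z' ∈ S0 := by rw [hz']; exact h.conj_mem_S hnN h.zS
  have hne : z' ≠ z := fun e => hnz (mul_inv_eq_iff_eq_mul.1 (by rw [← hz']; exact e))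
  have hz'z' : z' * z' = 1 := by
    have h1 : z' * z' = n * (z * z) * n⁻¹ := by rw [hz']; group
    rw [h1, hzz, mul_one, mul_inv_cancel]
  -- no `k` of order 4 centralises `z'`
  have key : ∀ k ∈ K z, k * k = z → k * z' * k⁻¹ = z * z' := by
    intro k hk hkk
    rcases h.act hk hz'S with hkz | hkz
    swap
    · exact hkz
    exfalso
    obtain ⟨s1, hs1, hks1⟩ := hmv k hk hkk
    -- the actions
    have hα : ∀ s ∈ S0, k⁻¹ * s * k = s ∨ k⁻¹ * s * k = z * s := by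
      intro s hs
      have h1 := h.act (inv_mem hk) hs
      rwa [inv_inv] at h1
    have hβ : ∀ s ∈ S0, (n * k * n⁻¹) * s * (n * k * n⁻¹)⁻¹ = s ∨ (n * k * n⁻¹) * s * (n * k * n⁻¹)⁻¹ = z' * s := by
      intro s hs
      have e1 : (n * k * n⁻¹) * s * (n * k * n⁻¹)⁻¹ = n * (k * (n⁻¹ * s * n) * k⁻¹) * n⁻¹ := by group
      rw [e1]
      rcases h.act hk (h.conj_mem_S' hnN hs) with h1 | h1
      · left; rw [h1]; group
      · right; rw [h1, hz']; group
    have hαz : k⁻¹ * z * k = z := by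
      rw [mul_assoc, ← w.cent hz hk, inv_mul_cancel_left]
    have hαz' : k⁻¹ * z' * k = z' := by
      rw [mul_inv_eq_iff_eq_mul] at hkz
      rw [mul_assoc, ← hkz, inv_mul_cancel_left]
    have hβz' : (n * k * n⁻¹) * z' * (n * k * n⁻¹)⁻¹ = z' := by
      have e1 : (n * k * n⁻¹) * z' * (n * k * n⁻¹)⁻¹ = n * (k * z * k⁻¹) * n⁻¹ := by rw [hz']; group
      rw [e1, w.cent hz hk, mul_inv_cancel_right, hz']
    obtain ⟨b, hb⟩ : ∃ b, b = k⁻¹ * (n * k * n⁻¹) := ⟨_, rfl⟩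
    have hbX : b ∈ X := by
      have h3 : b = (k⁻¹ * n * k) * n⁻¹ := by rw [hb]; group
      rw [h3]
      refine mul_mem ?_ (inv_mem hnX)
      have h4 := hn.conj_mem n hnX k⁻¹
      rwa [inv_inv] at h4
    have hγ : ∀ s, b * s * b⁻¹ = k⁻¹ * ((n * k * n⁻¹) * s * (n * k * n⁻¹)⁻¹) * k := by
      intro s; rw [hb]; group
    have hmul : ∀ s t, b * (s * t) * b⁻¹ = (b * s * b⁻¹) * (b * t * b⁻¹) := by
      intro s t; group
    have hαm : ∀ s t, k⁻¹ * (s * t) * k = (k⁻¹ * s * k) * (k⁻¹ * t * k) := by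
      intro s t; group
    have hγz' : b * z' * b⁻¹ = z' := by rw [hγ, hβz', hαz']
    have hγz : b * z * b⁻¹ = z ∨ b * z * b⁻¹ = z' * z := by
      rw [hγ]
      rcases hβ z h.zS with h1 | h1
      · left; rw [h1, hαz]
      · right; rw [h1, hαm, hαz', hαz]
    have hcomm := fun {a b : G} (ha : a ∈ S0) (hb : b ∈ S0) => h.comm ha hb
    have hγ1 : ∀ s ∈ S0, b * s * b⁻¹ = s ∨ b * s * b⁻¹ = z * s ∨ b * s * b⁻¹ = z' * s ∨
        b * s * b⁻¹ = z' * (z * s) := by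
      intro s hs
      rw [hγ]
      rcases hβ s hs with h1 | h1 <;> rw [h1]
      · rcases hα s hs with h2 | h2
        · left; exact h2
        · right; left; exact h2
      · rw [hαm, hαz']
        rcases hα s hs with h2 | h2
        · right; right; left; rw [h2]
        · right; right; right; rw [h2]
    have hzS := h.zS
    have hγ2 : ∀ s ∈ S0, b * (b * s * b⁻¹) * b⁻¹ = s ∨ b * (b * s * b⁻¹) * b⁻¹ = z' * s := by
      intro s hs
      have c1 := hcomm hz'S h.zS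
      -- `γ(z) z ∈ {1, z'}`
      have e1 : ∀ t, (b * z * b⁻¹) * (z * t) = t ∨ (b * z * b⁻¹) * (z * t) = z' * t := by
        intro t
        rcases hγz with h2 | h2
        · left; rw [h2, ← mul_assoc, hzz, one_mul]
        · right; rw [h2, mul_assoc, ← mul_assoc z z t, hzz, one_mul]
      rcases hγ1 s hs with h1 | h1 | h1 | h1
      · left; rw [h1, h1]
      · rw [h1, hmul, h1]; exact e1 s
      · left; rw [h1, hmul, h1, hγz', ← mul_assoc, hz'z', one_mul]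
      · rw [h1, hmul, hγz', hmul, h1]
        -- `z' * (γ z * (z' * (z * s)))`
        have hγS : b * z * b⁻¹ ∈ S0 := by
          rcases hγz with h2 | h2
          · rw [h2]; exact h.zS
          · rw [h2]; exact mul_mem hz'S h.zS
        have e2 : z' * ((b * z * b⁻¹) * (z' * (z * s))) = (b * z * b⁻¹) * (z * s) := by
          rw [← mul_assoc (b * z * b⁻¹) z', hcomm hγS hz'S, mul_assoc z', ← mul_assoc z' z', hz'z', one_mul]
        rw [e2]
        exact e1 s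
    have hb4 : ∀ s ∈ S0, b ^ 2 ^ 2 * s = s * b ^ 2 ^ 2 := by
      intro s hs
      have e1 : b ^ 2 ^ 2 * s * (b ^ 2 ^ 2)⁻¹ = b * (b * (b * (b * s * b⁻¹) * b⁻¹) * b⁻¹) * b⁻¹ := by
        have hb' : b ^ 2 ^ 2 = b * b * b * b := by
          rw [show (2 : ℕ) ^ 2 = 4 by norm_num]; simp only [pow_succ, pow_zero, one_mul]
        rw [hb']; simp only [mul_inv_rev, mul_assoc]
      have e2 : b ^ 2 ^ 2 * s * (b ^ 2 ^ 2)⁻¹ = s := by
        rw [e1]
        rcases hγ2 s hs with h1 | h1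
        · rw [h1, h1]
        · rw [h1, hmul z' s, hγz', hmul z' (b * s * b⁻¹), hγz', h1, ← mul_assoc, hz'z', one_mul]
      exact mul_inv_eq_iff_eq_mul.1 e2
    have hbN : b ∈ normalizer (S0 : Set G) := by
      rw [hb]
      have hkN : k ∈ normalizer (S0 : Set G) := by
        rw [mem_normalizer_iff]
        have h3 : ∀ x ∈ K z, ∀ s ∈ S0, x * s * x⁻¹ ∈ S0 := by
          intro x hx s hs
          rcases h.act hx hs with h1 | h1
          · rw [h1]; exact hs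
          · rw [h1]; exact mul_mem h.zS hs
        intro s
        refine ⟨h3 k hk s, fun hs => ?_⟩
        have h4 := h3 k⁻¹ (inv_mem hk) _ hs
        have h5 : k⁻¹ * (k * s * k⁻¹) * k⁻¹⁻¹ = s := by group
        rwa [h5] at h4
      exact mul_mem (inv_mem hkN) (mul_mem (mul_mem hnN hkN) (inv_mem hnN))
    have hbc := cent_of_pow h.syl (fun a ha b hb => h.comm ha hb) hbX hbN hb4
    -- evaluate at `s1`
    have h5 : b * s1 * b⁻¹ = s1 := by rw [hbc s1 hs1, mul_inv_cancel_right]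
    rw [hγ] at h5
    have hk1 : k⁻¹ * s1 * k = z * s1 := by
      rcases hα s1 hs1 with h6 | h6
      · exfalso
        apply hks1
        have h7 : k * (k⁻¹ * s1 * k) = k * s1 := by rw [h6]
        rw [← h7]; group
      · exact h6
    rcases hβ s1 hs1 with h6 | h6
    · rw [h6, hk1] at h5
      exact w.ne z hz (mul_eq_right.1 h5)
    · rw [h6, hαm, hαz', hk1, ← mul_assoc] at h5
      have h7 := mul_eq_right.1 h5
      apply hne
      rw [mul_eq_one_iff_eq_inv] at h7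
      rw [h7]
      exact w.inv hz
  obtain ⟨i, hi, j, hj, hii, hjj, hji, -⟩ := w.exists_ij hz
  have hij : (i * j) * (i * j) = z := by
    calc (i * j) * (i * j) = i * (j * i) * j := by group
      _ = i * (z * (i * j)) * j := by rw [hji]
      _ = (i * z) * i * (j * j) := by group
      _ = (z * i) * i * z := by rw [w.cent hz hi, hjj]
      _ = z * (i * i) * z := by group
      _ = z := by rw [hii, mul_assoc, hzz, mul_one]
  have k1 := key i hi hii
  have k2 := key j hj hjj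
  have k3 := key (i * j) (mul_mem hi hj) hij
  have k4 : (i * j) * z' * (i * j)⁻¹ = i * (j * z' * j⁻¹) * i⁻¹ := by group
  rw [k4, k2] at k3
  have k5 : i * (z * z') * i⁻¹ = (i * z * i⁻¹) * (i * z' * i⁻¹) := by group
  rw [k5, k1, w.cent hz hi, mul_inv_cancel_right, ← mul_assoc, hzz, one_mul] at k3
  exact w.ne z hz (mul_eq_right.1 k3.symm)

/-- **the situation is impossible** -/
theorem false (hX : ⁅X, X⁆ = X)
    (hcom : ∀ u ∈ Z, u ≠ z → (∀ k ∈ K z, k * u = u * k) → ∀ a ∈ K z, ∀ b ∈ K u, a * b = b * a) : False := by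
  by_cases hf : ∀ n ∈ X, n ∈ normalizer (S0 : Set G) → n * z = z * n
  · refine h.w.ne z h.hz (eq_one_of_syl h.syl (fun a ha b hb => h.comm ha hb) h.zS hf ?_)
    rw [hX]
    exact h.syl.1 h.zS
  push Not at hf
  obtain ⟨n, hnX, hnN, hnz⟩ := hf
  by_cases hmv : ∀ k ∈ K z, k * k = z → ∃ s ∈ S0, k * s ≠ s * k
  · exact h.false_two hmv hnX hnN hnz
  · push Not at hmv
    obtain ⟨k, hk, hkk, hc⟩ := hmv
    exact h.false_one hcom (h.dich hk hkk hc) hnX hnN hnz

end Sit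

/-- **(10.2)** : a perfect normal subgroup containing `Z` has a nonabelian 2-subgroup -/
theorem false_of_abelian (w : W Z K) (c3 : C3 Z K) [hn : X.Normal] (hX : ⁅X, X⁆ = X)
    (hab : ∀ P : Subgroup G, P ≤ X → IsPGroup 2 P → ∀ a ∈ P, ∀ b ∈ P, a * b = b * a) (hz : z ∈ Z) (hzX : z ∈ X)
    (hcom : ∀ u ∈ Z, u ≠ z → (∀ k ∈ K z, k * u = u * k) → ∀ a ∈ K z, ∀ b ∈ K u, a * b = b * a) : False := by
  obtain ⟨S0, hS0, hzS0⟩ := exists_syl_ge (M := X) (A := zpowers z) (by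
    refine IsPGroup.of_card (n := 1) ?_
    rw [Nat.card_zpowers, w.ord hz, pow_one]) (zpowers_le.2 hzX)
  exact Sit.false ⟨w, c3, hn, hab, hz, hS0, hzS0 (mem_zpowers z)⟩ hX hcom

/-- (10.2), all data in terms of one Sylow 2-subgroup of `X` -/
theorem false_of_abelian' (w : W Z K) (c3 : C3 Z K) [hn : X.Normal] (hX : ⁅X, X⁆ = X) {T : Subgroup G}
    (hT : Syl T X) (hab : ∀ a ∈ T, ∀ b ∈ T, a * b = b * a) (hz : z ∈ Z) (hzX : z ∈ X)
    (hcom : ∀ u ∈ Z, u ≠ z → (∀ k ∈ K z, k * u = u * k) → ∀ a ∈ K z, ∀ b ∈ K u, a * b = b * a) : False := by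
  refine false_of_abelian w c3 hX (fun P hPX hP a ha b hb => ?_) hz hzX hcom
  obtain ⟨R, hR, hPR⟩ := exists_syl_ge hP hPX
  obtain ⟨g, -, hg⟩ := hT.exists_conj hR
  have h1 : ∀ x ∈ P, g⁻¹ * x * g ∈ T := fun x hx => by
    have h2 := hPR hx
    rwa [← hg, mem_cj] at h2
  have h2 := hab _ (h1 a ha) _ (h1 b hb)
  have h3 : g * ((g⁻¹ * a * g) * (g⁻¹ * b * g)) * g⁻¹ = a * b := by group
  have h4 : g * ((g⁻¹ * b * g) * (g⁻¹ * a * g)) * g⁻¹ = b * a := by group
  rw [← h3, ← h4, h2]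

end Cfsg.Agent.Cit.Nil.ROne.EndAb
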