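import Cfsg.Agent.Cit.Nil.ROne.NPair
import Cfsg.Agent.TwoFusion.StronglyEmbeddedBasic
import Cfsg.Prelude.Def_Involutions

/-!
# (6b), `r = 1`: (10.1) of helper545's text: the case of a strongly embedded subgroup of `G₀`

`G₀` is a normal subgroup of `G` containing `Z`, with a strongly embedded subgroup; then all involutions of `G₀` are in
`Z`, and conjugate in `G₀`.

* `One Z G₀` : this situation; `One.of_se`;
* `One.no_csw` : there are no C-swaps, by (5.8);
* `One.no_np_of_tw` : there are no N-pairs, if there are twins (`κ ≥ 2`);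
* `One.no_np_of_cn` : the same, if C-pairs lie in different components (`κ = 1`);
* `One.false_of` : contradiction.
-/

set_option autoImplicit false
set_option linter.style.haveILetI false
set_option linter.unusedSectionVars false

namespace Cfsg.Agent.Cit.Nil.ROne.EndSE

open Subgroup Cfsg Cit QuaternionGroup

variable {G : Type*} [Group G] {Z : Set G} {K : G → Subgroup G}

/-- all involutions of `G₀` are in `Z`, and conjugate in `G₀` -/
structure One (Z : Set G) (G₀ : Subgroup G) : Prop where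
  le : ∀ z ∈ Z, z ∈ G₀
  mem : ∀ x ∈ G₀, x * x = 1 → x ≠ 1 → x ∈ Z
  conj : ∀ x ∈ Z, ∀ y ∈ Z, ∃ g ∈ G₀, g * x * g⁻¹ = y

theorem One.of_se [Finite G] (w : W Z K) {G₀ : Subgroup G} (hle : ∀ z ∈ Z, z ∈ G₀) (hne : Z.Nonempty)
    {H : Subgroup G₀} (hH : IsStronglyEmbedded H) : One Z G₀ := by
  obtain ⟨z, hz⟩ := hne
  have ord : ∀ x : G₀, (x : G) * x = 1 → (x : G) ≠ 1 → orderOf x = 2 := fun x h1 h2 =>
    orderOf_eq_prime (by rw [pow_two]; exact Subtype.ext h1) (fun h3 => h2 (congrArg Subtype.val h3))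
  have key : ∀ x ∈ G₀, x * x = 1 → x ≠ 1 → ∀ y ∈ G₀, y * y = 1 → y ≠ 1 → ∃ g ∈ G₀, g * x * g⁻¹ = y := by
    intro x hx hxx hx1 y hy hyy hy1
    have h1 := TwoFusion.StronglyEmbeddedBasic.isConj_of_involutions hH (⟨x, hx⟩ : G₀) ⟨y, hy⟩
      (ord _ hxx hx1) (ord _ hyy hy1)
    obtain ⟨g, hg⟩ := isConj_iff.1 h1
    exact ⟨g, g.2, congrArg Subtype.val hg⟩
  refine ⟨hle, fun x hx hxx hx1 => ?_, fun x hx y hy => ?_⟩
  · obtain ⟨g, -, hg⟩ := key z (hle z hz) (w.sq z hz) (w.ne z hz) x hx hxx hx1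
    rw [← hg]
    exact w.conjZ z hz g
  · exact key x (hle x hx) (w.sq x hx) (w.ne x hx) y (hle y hy) (w.sq y hy) (w.ne y hy)

namespace One

variable [Finite G] {G₀ : Subgroup G} (o : One Z G₀) (w : W Z K)

include o w

/-- the product of a C-pair is in `Z` -/
theorem mul_mem {u v : G} (hu : u ∈ Z) (hv : v ∈ Z) (h : CP K u v) : u * v ∈ Z := by
  have hc := h.comm w hu hv
  refine o.mem _ (G₀.mul_mem (o.le u hu) (o.le v hv)) ?_ (w.cp_mul_ne hv h)
  calc u * v * (u * v) = u * (v * u) * v := by group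
    _ = (u * u) * (v * v) := by rw [← hc]; group
    _ = 1 := by rw [w.sq u hu, w.sq v hv, one_mul]

/-- (5.8) excludes C-swaps -/
theorem no_csw (h58 : ∀ u ∈ Z, ∀ v ∈ Z, CSw K u v → wt u v ∉ Z) :
    ∀ u ∈ Z, ∀ v ∈ Z, ¬ CSw K u v := fun u hu v hv h =>
  h58 u hu v hv h (o.mul_mem w hu (w.conjZ u hu v) h)

/-- `κ ≥ 2`: no N-pairs, by (6.4) -/
theorem no_np_of_tw (one : OneCls Z) (h64 : ∀ z ∈ Z, ∀ x ∈ Z, NP K z x → z ∉ Ep Z K z)
    (htw : ∃ z ∈ Z, ∃ z', Tw Z K z z' ∧ z ≠ z') : ∀ u ∈ Z, ∀ v ∈ Z, ¬ NP K u v := by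
  intro u hu v hv hn
  obtain ⟨z, hz, z', htz, hne⟩ := htw
  -- the cardinality of `c[z]` is constant
  have hcard : ∀ x ∈ Z, ∀ y ∈ Z, (cl Z K x).ncard = (cl Z K y).ncard := by
    intro x hx y hy
    obtain ⟨g, rfl⟩ := one x hx y hy
    have h1 : cl Z K (g * x * g⁻¹) = (fun t => g * t * g⁻¹) '' cl Z K x := by
      ext t
      constructor
      · intro ht
        refine ⟨g⁻¹ * t * g, ?_, by change g * (g⁻¹ * t * g) * g⁻¹ = t; group⟩
        rw [← w.mem_cl_conj hx g]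
        have h2 : g * (g⁻¹ * t * g) * g⁻¹ = t := by group
        rwa [h2]
      · rintro ⟨s, hs, rfl⟩
        exact (w.mem_cl_conj hx g).2 hs
    rw [h1, Set.ncard_image_of_injective]
    intro a b hab
    exact mul_left_cancel (mul_right_cancel hab)
  -- `z z'` is a twin of `z`
  have hcp : CP K z z' := htz.cp hz hne
  have hzz : z * z' ∈ Z := o.mul_mem w hz htz.1 hcp
  have hsub : cl Z K z ⊆ cl Z K (z * z') := by
    intro y hy
    have h1 : Cen K z y := (w.cen_iff hy.1 hz).2 (by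
      rcases hy.2 with h2 | h2
      · exact Or.inl h2
      · exact Or.inr h2.symm)
    have hy' : y ∈ cl Z K z' := by rw [← htz.2]; exact hy
    have h2 : Cen K z' y := (w.cen_iff hy.1 htz.1).2 (by
      rcases hy'.2 with h2 | h2
      · exact Or.inl h2
      · exact Or.inr h2.symm)
    refine ⟨hy.1, ?_⟩
    rcases (w.cen_iff hy.1 hzz).1 (h1.mul h2) with h3 | h3
    · exact Or.inl h3
    · exact Or.inr h3.symm
  have heq : cl Z K z = cl Z K (z * z') :=
    Set.eq_of_subset_of_ncard_le hsub (hcard _ hzz _ hz).le (Set.toFinite _)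
  have hmem : z ∈ Ep Z K z := by
    have h1 := mul_mem_Ep (Z := Z) (K := K) (z := z) ⟨hzz, heq⟩ htz
    have h2 : z * z' * z' = z := by rw [mul_assoc, w.sq z' htz.1, mul_one]
    rwa [h2] at h1
  -- transport
  obtain ⟨g, hg⟩ := one u hu z hz
  have h1 := w.np_conj hu hv g hn
  rw [hg] at h1
  exact h64 z hz _ (w.conjZ v hv g) h1 hmem

/-- `κ = 1`: no N-pairs, if C-pairs lie in different components -/
theorem no_np_of_cn (one : OneCls Z) (Cn : G → G → Prop) (symm : ∀ x y, Cn x y → Cn y x)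
    (trans : ∀ x y z, Cn x y → Cn y z → Cn x z) (np : ∀ x ∈ Z, ∀ y ∈ Z, NP K x y → Cn x y)
    (perp : ∀ x ∈ Z, ∀ y ∈ Z, CP K x y → ∀ x' ∈ Z, Cn x x' → CP K x' y)
    (dif : ∀ x ∈ Z, ∀ y ∈ Z, CP K x y → ¬ Cn x y) (htwo : ∃ z ∈ Z, ∃ u ∈ Z, CP K z u) :
    ∀ u ∈ Z, ∀ v ∈ Z, ¬ NP K u v := by
  intro a ha b hb hab
  obtain ⟨z, hz, u, hu, hzu⟩ := htwo
  -- every element of `Z` is in an N-pair and in a C-pair
  obtain ⟨g, hg⟩ := one z hz a ha
  have hac := w.cp_conj hz hu hzu g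
  rw [hg] at hac
  set c := g * u * g⁻¹ with hcdef
  have hc : c ∈ Z := w.conjZ u hu g
  obtain ⟨g', hg'⟩ := one a ha c hc
  have hcd := w.np_conj ha hb g' hab
  rw [hg'] at hcd
  set d := g' * b * g'⁻¹ with hddef
  have hd : d ∈ Z := w.conjZ b hb g'
  have hacZ := o.mul_mem w ha hc hac
  -- `K b` is centralised by `c`, `K d` by `a`
  have hbc : CP K b c := perp a ha c hc hac b hb (np a ha b hb hab)
  have had : CP K d a := perp c hc a ha hac.symm d hd (np c hc d hd hcd)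
  have key : ∀ {a b c : G}, a ∈ Z → b ∈ Z → c ∈ Z → a * c ∈ Z → NP K a b → CP K b c → NP K (a * c) b := by
    intro a b c ha hb hc hac hab hbc
    have h1 : Cen K c b := w.cen_of_cp hc hbc
    have h2 : ¬ Cen K (a * c) b := by
      intro h3
      have h4 : Cen K a b := by
        have h5 := h3.mul h1.inv
        rwa [mul_inv_cancel_right] at h5
      rcases (w.cen_iff hb ha).1 h4 with h5 | h5
      · exact hab.1 h5.symm
      · exact hab.2.2 h5.symm
    refine ⟨fun h3 => h2 ?_, ?_, fun h3 => h2 (w.cen_of_cp hac h3.symm)⟩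
    · rw [h3]
      exact (w.cen_iff hb hb).2 (Or.inl rfl)
    · rw [mul_assoc, ← h1 b (w.mem b hb) |>.symm, ← mul_assoc, hab.2.1, mul_assoc]
  have h1 : Cn (a * c) b := np _ hacZ b hb (key ha hb hc hacZ hab hbc)
  have hcomm : a * c = c * a := hac.comm w ha hc
  have h2 : Cn (a * c) d := by
    rw [hcomm] at hacZ ⊢
    exact np _ hacZ d hd (key hc hd ha hacZ hcd had)
  have h3 : Cn a c := by
    have h4 : Cn a (a * c) := trans _ _ _ (np a ha b hb hab) (symm _ _ h1)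
    have h5 : Cn (a * c) c := trans _ _ _ h2 (symm _ _ (np c hc d hd hcd))
    exact trans _ _ _ h4 h5
  exact dif a ha c hc hac h3

/-- **(10.1)** -/
theorem false_of [G₀.Normal] (S : Sylow 2 G) {z₁ z₂ : G} (h₁ : z₁ ∈ CS Z K (S : Subgroup G))
    (h₂ : z₂ ∈ CS Z K (S : Subgroup G)) (hne : z₁ ≠ z₂) (hN : ∀ u ∈ Z, ∀ v ∈ Z, ¬ NP K u v)
    (hsw : ∀ u ∈ Z, ∀ v ∈ Z, ¬ CSw K u v) : False := by
  have h12 : CP K z₁ z₂ := w.com h₁.1 h₂.1 S.isPGroup' h₁.2 h₂.2 hne
  set z₃ := z₁ * z₂ with hz₃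
  have hz₃Z : z₃ ∈ Z := o.mul_mem w h₁.1 h₂.1 h12
  have h₃ : z₃ ∈ CS Z K (S : Subgroup G) := w.mem_CS_of_mem_TT S hz₃Z
    (Subgroup.mul_mem _ (subset_closure h₁) (subset_closure h₂))
  have h13 : CP K z₁ z₃ := w.com h₁.1 h₃.1 S.isPGroup' h₁.2 h₃.2 (fun h => w.ne z₂ h₂.1 (by
    rw [hz₃] at h; exact (mul_eq_left.1 h.symm)))
  have h23 : CP K z₂ z₃ := w.com h₂.1 h₃.1 S.isPGroup' h₂.2 h₃.2 (fun h => w.ne z₁ h₁.1 (by
    rw [hz₃] at h; exact (mul_eq_right.1 h.symm)))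
  obtain ⟨g₂, hg₂, hg₂z⟩ := o.conj z₁ h₁.1 z₂ h₂.1
  obtain ⟨g₃, hg₃, hg₃z⟩ := o.conj z₁ h₁.1 z₃ h₃.1
  obtain ⟨i, hi, j, hj, hii, hjj, hji, -⟩ := w.exists_ij h₁.1
  have hk : i * j ∈ K z₁ := (K z₁).mul_mem hi hj
  have hkk : (i * j) * (i * j) = z₁ := by
    calc (i * j) * (i * j) = i * (j * i) * j := by group
      _ = i * (z₁ * (i * j)) * j := by rw [hji]
      _ = (i * z₁) * i * (j * j) := by group
      _ = z₁ * (i * i) * (j * j) := by rw [w.cent h₁.1 hi]; group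
      _ = z₁ := by rw [hii, hjj, w.sq z₁ h₁.1, one_mul]
  set j' := g₂ * j * g₂⁻¹ with hj'
  set k' := g₃ * (i * j) * g₃⁻¹ with hk'
  have hj'K : j' ∈ K z₂ := by
    rw [← hg₂z, w.conjK z₁ h₁.1]
    exact conj_mem_cj hj
  have hk'K : k' ∈ K z₃ := by
    rw [← hg₃z, w.conjK z₁ h₁.1]
    exact conj_mem_cj hk
  have hj'j' : j' * j' = z₂ := by
    rw [← hg₂z, ← hjj, hj']; group
  have hk'k' : k' * k' = z₃ := by
    rw [← hg₃z, ← hkk, hk']; group
  set x := i * j' * k' with hx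
  have c1 : i * j' = j' * i := h12.2 i hi j' hj'K
  have c2 : i * k' = k' * i := h13.2 i hi k' hk'K
  have c3 : j' * k' = k' * j' := h23.2 j' hj'K k' hk'K
  have hxx : x * x = 1 := by
    calc x * x = i * j' * (k' * i) * j' * k' := by rw [hx]; group
      _ = i * j' * (i * k') * j' * k' := by rw [c2]
      _ = i * (j' * i) * (k' * j') * k' := by group
      _ = i * (i * j') * (j' * k') * k' := by rw [← c1, c3]
      _ = (i * i) * (j' * j') * (k' * k') := by group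
      _ = z₁ * z₂ * z₃ := by rw [hii, hj'j', hk'k']
      _ = z₃ * z₃ := rfl
      _ = 1 := w.sq z₃ hz₃Z
  -- `x` does not commute with `j`
  have hxj : x * j ≠ j * x := by
    intro h
    have d1 : j * j' = j' * j := h12.2 j hj j' hj'K
    have d2 : j * k' = k' * j := h13.2 j hj k' hk'K
    have h1 : i * j = j * i := by
      have h2 : (i * j) * (j' * k') = (j * i) * (j' * k') := by
        calc (i * j) * (j' * k') = i * (j * j') * k' := by group
          _ = i * j' * (j * k') := by rw [d1]; group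
          _ = x * j := by rw [d2, hx]; group
          _ = j * x := h
          _ = (j * i) * (j' * k') := by rw [hx]; group
      exact mul_right_cancel h2
    rw [hji] at h1
    exact w.ne z₁ h₁.1 (mul_eq_right.1 h1.symm)
  have hx1 : x ≠ 1 := fun h => hxj (by rw [h, one_mul, mul_one])
  have hxS : x ∈ (S : Subgroup G) := Subgroup.mul_mem _ (Subgroup.mul_mem _ (h₁.2 hi) (h₂.2 hj'K)) (h₃.2 hk'K)
  have hx0 : x ∈ G₀ := by
    rw [← QuotientGroup.eq_one_iff]
    have e1 : ((g₂ : G) : G ⧸ G₀) = 1 := (QuotientGroup.eq_one_iff _).2 hg₂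
    have e2 : ((g₃ : G) : G ⧸ G₀) = 1 := (QuotientGroup.eq_one_iff _).2 hg₃
    have e3 : ((i * j * (i * j) : G) : G ⧸ G₀) = 1 := by
      rw [hkk]
      exact (QuotientGroup.eq_one_iff _).2 (o.le z₁ h₁.1)
    calc ((x : G) : G ⧸ G₀) = (i : G ⧸ G₀) * ((g₂ : G ⧸ G₀) * j * (g₂ : G ⧸ G₀)⁻¹) *
          ((g₃ : G ⧸ G₀) * (i * j) * (g₃ : G ⧸ G₀)⁻¹) := rfl
      _ = (i : G ⧸ G₀) * j * (i * j) := by rw [e1, e2]; group
      _ = 1 := e3
  have hxZ : x ∈ Z := o.mem x hx0 hxx hx1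
  have hxCS : x ∈ CS Z K (S : Subgroup G) := by
    refine w.mem_CS_of_clique S hxZ fun v hv => ?_
    have hvx : x * v * x⁻¹ = v := by
      by_contra h
      have h1 : K (x * v * x⁻¹) ≤ (S : Subgroup G) := by
        rw [w.conjK v hv.1]
        intro y hy
        rw [mem_cj] at hy
        have h2 : y = x * (x⁻¹ * y * x) * x⁻¹ := by group
        rw [h2]
        exact Subgroup.mul_mem _ (Subgroup.mul_mem _ hxS (hv.2 hy)) (Subgroup.inv_mem _ hxS)
      exact hsw v hv.1 x hxZ (w.com hv.1 (w.conjZ v hv.1 x) S.isPGroup' hv.2 h1 (fun h2 => h h2.symm))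
    have hvx' : v * x = x * v := by
      conv_lhs => rw [← hvx]
      group
    by_cases h : v = x
    · exact Or.inl h
    · right
      by_contra h1
      exact hN v hv.1 x hxZ ⟨h, hvx', h1⟩
  have hcen : Cen K x z₁ := w.TT_cen S.isPGroup' h₁ (subset_closure hxCS)
  exact hxj (hcen j hj)

end One

end Cfsg.Agent.Cit.Nil.ROne.EndSE
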