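import Cfsg.Agent.Cit.Nil.ROne.Swap

/-!
# (6b), `r = 1`: the graph (section 8 of helper545's text), (8.1)

`GD Z K` : the input (`GD.two_four` = (2.4), `GD.two_five` = (2.5), `GD.twin` = (5.5), `GD.five_eight` = (5.8)).
`Ed` : edges = N-pairs, twins, C-swaps; `Conn` : same component.

* `GD.cp_of_not_conn` ((8.1)): `z, u` commute and are not connected, `x ~ z`, `y ~ u` : `(x, y)` is a C-pair.
-/

set_option autoImplicit false
set_option linter.style.haveILetI false
set_option linter.unusedSectionVars false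

namespace Cfsg.Agent.Cit.Nil.ROne

open Subgroup Cfsg Cit

variable {G : Type*} [Group G]

/-- `s ∈ T_S#` for some Sylow subgroup `S` -/
def Tor (Z : Set G) (K : G → Subgroup G) (s : G) : Prop := s ≠ 1 ∧ ∃ S : Sylow 2 G, s ∈ TT Z K S

/-- the input of the graph argument -/
structure GD (Z : Set G) (K : G → Subgroup G) : Prop where
  w : W Z K
  two_four : ∀ s, Tor Z K s → ∀ y ∈ Z, ∀ x ∈ Z, Cen K s y → Cen K s x →
    x ∈ NC s y ∨ ∀ n ∈ NC s y, Cen K n x
  two_five : ∀ s, Tor Z K s → ∀ y ∈ Z, Cen K s y → ∀ n ∈ NC s y, n * y * n⁻¹ = y ∨ CP K y (n * y * n⁻¹)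
  twin : ∀ u ∈ Z, ∀ v ∈ Z, CSw K u v → Tw Z K u (v * u * v⁻¹)
  five_eight : ∀ u ∈ Z, ∀ v ∈ Z, CSw K u v → wt u v ∉ Z

/-- edges -/
def Ed (Z : Set G) (K : G → Subgroup G) (u v : G) : Prop :=
  u ∈ Z ∧ v ∈ Z ∧ (NP K u v ∨ Tw Z K u v ∨ CSw K u v)

/-- same component -/
def Conn (Z : Set G) (K : G → Subgroup G) (u v : G) : Prop := Relation.ReflTransGen (Ed Z K) u v

section

variable {Z : Set G} {K : G → Subgroup G} {z u v g x y s : G}

theorem tor_one [Finite G] (w : W Z K) (hz : z ∈ Z) : Tor Z K z := by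
  obtain ⟨S, hS⟩ := w.exists_sylow hz
  exact ⟨w.ne z hz, S, subset_closure hS⟩

theorem tor_wt [Finite G] (w : W Z K) (hu : u ∈ Z) (hv : v ∈ Z) (hs : CSw K u v) : Tor Z K (wt u v) := by
  obtain ⟨S, -, -, h1⟩ := w.wt_mem_TT hu hv hs
  exact ⟨w.wt_ne hu hv hs, S, h1⟩

theorem cen_of_cp_left (w : W Z K) (hu : u ∈ Z) (h : CP K u v) : Cen K u v :=
  fun k hk => h.2 u (w.mem u hu) k hk

theorem Ed.conj (w : W Z K) (h : Ed Z K u v) (g : G) : Ed Z K (g * u * g⁻¹) (g * v * g⁻¹) := by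
  refine ⟨w.conjZ u h.1 g, w.conjZ v h.2.1 g, ?_⟩
  rcases h.2.2 with h1 | h1 | h1
  · exact Or.inl (w.np_conj h.1 h.2.1 g h1)
  · exact Or.inr (Or.inl (w.tw_conj h.1 h1 g))
  · exact Or.inr (Or.inr (w.csw_conj h.1 h1 g))

theorem Ed.symm (w : W Z K) (h : Ed Z K u v) : Ed Z K v u :=
  ⟨h.2.1, h.1, h.2.2.imp NP.symm (Or.imp (fun h1 => h1.symm h.1) (w.csw_symm h.1 h.2.1))⟩

theorem Conn.refl (u : G) : Conn Z K u u := Relation.ReflTransGen.refl

theorem Conn.trans (h : Conn Z K u v) (h' : Conn Z K v x) : Conn Z K u x := Relation.ReflTransGen.trans h h'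

theorem Conn.conj (w : W Z K) (h : Conn Z K u v) (g : G) : Conn Z K (g * u * g⁻¹) (g * v * g⁻¹) := by
  induction h with
  | refl => exact Relation.ReflTransGen.refl
  | tail _ h2 ih => exact ih.tail (h2.conj w g)

theorem Conn.mem (h : Conn Z K u v) (hu : u ∈ Z) : v ∈ Z := by
  induction h with
  | refl => exact hu
  | tail _ h2 _ => exact h2.2.1

theorem Conn.symm (w : W Z K) (h : Conn Z K u v) : Conn Z K v u := by
  induction h with
  | refl => exact Relation.ReflTransGen.refl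
  | tail _ h2 ih => exact Relation.ReflTransGen.head (h2.symm w) ih

/-- commuting and not connected: a C-pair -/
theorem cp_of_comm (hz : z ∈ Z) (hu : u ∈ Z) (hc : z * u = u * z) (hn : ¬ Conn Z K z u) : CP K z u := by
  by_contra h1
  exact hn (Relation.ReflTransGen.single ⟨hz, hu, Or.inl ⟨fun h2 => hn (h2 ▸ Conn.refl z), hc, h1⟩⟩)

/-- an N-pair: connected -/
theorem conn_of_np (hx : x ∈ Z) (hu : u ∈ Z) (h1 : NP K x u) : Conn Z K x u :=
  Relation.ReflTransGen.single ⟨hx, hu, Or.inl h1⟩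

theorem conn_of_tw (hx : x ∈ Z) (h1 : Tw Z K x u) : Conn Z K x u :=
  Relation.ReflTransGen.single ⟨hx, h1.1, Or.inr (Or.inl h1)⟩

/-- a C-swap: connected -/
theorem conn_of_csw (hx : x ∈ Z) (hu : u ∈ Z) (h1 : CSw K x u) : Conn Z K x u :=
  Relation.ReflTransGen.single ⟨hx, hu, Or.inr (Or.inr h1)⟩

end

namespace GD

variable [Finite G] {Z : Set G} {K : G → Subgroup G} {z u v g x y s : G}

section

variable (h : GD Z K)

include h

/-- (2.4), (2.5) -/
theorem dich (hs : Tor Z K s) (hx : x ∈ Z) (hy : y ∈ Z) (h1 : Cen K s x) (h2 : Cen K s y) :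
    x * y = y * x ∨ CP K x (y * x * y⁻¹) := by
  rcases h.two_four s hs x hx y hy h1 h2 with h3 | h3
  · rcases h.two_five s hs x hx h1 y h3 with h4 | h4
    · left
      rw [mul_inv_eq_iff_eq_mul] at h4
      exact h4.symm
    · exact Or.inr h4
  · left
    exact h3 x self_mem_NC y (h.w.mem y hy)

/-- (8.1), a C-swap -/
theorem step_csw (hz : z ∈ Z) (hu : u ∈ Z) (hx : x ∈ Z) (hcp : CP K z u) (hn : ¬ Conn Z K z u)
    (hE : CSw K z x) : CP K x u := by
  have hzx : Conn Z K z x := conn_of_csw hz hx hE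
  have hxu : ¬ Conn Z K x u := fun h1 => hn (hzx.trans h1)
  have hz' := h.w.conjZ z hz x
  -- `z' = z^x` is connected with `z`
  have hT := h.twin z hz x hx hE
  have hne : u ≠ x * z * x⁻¹ := fun h1 => hn (h1 ▸ conn_of_tw hz hT)
  have h1 := hT.cp_of hu hcp hne
  -- `t = z z'`
  have ht := tor_wt h.w hz hx hE
  have htu : Cen K (wt z x) u := (cen_of_cp_left h.w hz hcp).mul (cen_of_cp_left h.w hz' h1)
  rcases h.dich ht hx hu (h.w.wt_cen_v hz hx hE) htu with h3 | h3
  · exact cp_of_comm hx hu h3 hxu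
  · exact absurd (conn_of_csw hx hu h3) hxu

/-- (8.1), an N-pair -/
theorem step_np (hz : z ∈ Z) (hu : u ∈ Z) (hx : x ∈ Z) (hcp : CP K z u) (hn : ¬ Conn Z K z u)
    (hE : NP K z x) : CP K x u := by
  have w := h.w
  have hzx : Conn Z K z x := conn_of_np hz hx hE
  have hxu : ¬ Conn Z K x u := fun h1 => hn (hzx.trans h1)
  have hxx := w.sq x hx
  have huu := w.sq u hu
  have xinv := w.inv hx
  have uinv := w.inv hu
  by_cases hc : x * u = u * x
  · exact cp_of_comm hx hu hc hxu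
  exfalso
  -- `u1 = u^x`
  obtain ⟨u1, hu1⟩ : ∃ u1, u1 = x * u * x⁻¹ := ⟨_, rfl⟩
  have hu1Z : u1 ∈ Z := hu1 ▸ w.conjZ u hu x
  have hne : u ≠ u1 := by
    intro h1
    apply hc
    rw [hu1, eq_mul_inv_iff_mul_eq] at h1
    exact h1.symm
  have hxz : x * z * x⁻¹ = z := by rw [← hE.2.1, mul_inv_cancel_right]
  have hcp1 : CP K z u1 := by
    have h1 := w.cp_conj hz hu hcp x
    rwa [hxz, ← hu1] at h1
  have hxu1 : x * u1 * x⁻¹ = u := by
    have : x * u1 * x⁻¹ = (x * x) * u * (x * x)⁻¹ := by rw [hu1]; group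
    rw [this, hxx]; group
  have u1inv := w.inv hu1Z
  by_cases huc : u * u1 = u1 * u
  · by_cases hcc : CP K u u1
    · -- a C-swap `(u, x)`
      refine hxu (conn_of_csw hx hu (w.csw_symm hu hx ?_))
      rw [CSw, ← hu1]
      exact hcc
    · have hN : NP K u u1 := ⟨hne, huc, hcc⟩
      have hqZ := w.mul_mem_of_np hu hu1Z hN
      have hq1 := w.np_mul hu hu1Z hN
      obtain ⟨q, hq⟩ : ∃ q, q = u * u1 := ⟨_, rfl⟩
      rw [← hq] at hqZ hq1
      -- `x` and `q` commute
      have hxq : x * q * x⁻¹ = q := by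
        have : x * q * x⁻¹ = (x * u * x⁻¹) * (x * u1 * x⁻¹) := by rw [hq]; group
        rw [this, hxu1, ← hu1, ← huc, ← hq]
      have hxq' : x * q = q * x := mul_inv_eq_iff_eq_mul.1 hxq
      have hux : u * x * u⁻¹ = x * q := by
        rw [uinv, hxq', hq, hu1, xinv]
        simp only [mul_assoc, hxx, mul_one]
      have hqne : q ≠ 1 := w.ne q hqZ
      have hxqZ : x * q ∈ Z := hux ▸ w.conjZ x hx u
      by_cases hcx : CP K x (x * q)
      · rw [← hux] at hcx
        exact hxu (conn_of_csw hx hu hcx)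
      · have hNx : NP K x (x * q) := by
          refine ⟨fun h1 => hqne (mul_eq_left.1 h1.symm), ?_, hcx⟩
          rw [mul_assoc, ← hxq']
        have h3 := w.np_mul hx hxqZ hNx
        have h4 : x * (x * q) = q := by rw [← mul_assoc, hxx, one_mul]
        rw [h4] at h3
        exact hxu ((conn_of_np hx hqZ h3).trans (conn_of_np hqZ hu hq1.symm))
  · -- `u`, `u1` do not commute
    have hu1N : u1 ∈ NC z u := hu1 ▸ conj_mem_NC hE.2.1.symm
    have hsw : CSw K u u1 := by
      rcases h.two_five z (tor_one w hz) u hu (cen_of_cp_left w hz hcp) u1 hu1N with h1 | h1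
      · exact absurd (mul_inv_eq_iff_eq_mul.1 h1).symm huc
      · exact h1
    obtain ⟨s, hs⟩ : ∃ s, s = wt u u1 := ⟨_, rfl⟩
    have hs1 : Tor Z K s := by rw [hs]; exact tor_wt w hu hu1Z hsw
    have hsu : Cen K s u := by rw [hs]; exact w.wt_cen_u hu hu1Z hsw
    have hss : s * s = 1 := by rw [hs]; exact w.wt_sq hu hu1Z hsw
    -- `s = (u x)^4`
    have hs4 : s = u * x * u * x * u * x * u * x := by
      rw [hs, wt, u1inv, hu1, xinv]
      simp only [mul_assoc]
    have hsinv : s⁻¹ = s := inv_eq_of_mul_eq_one_right hss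
    have hxs : x * s = s * x := by
      have h1 : s⁻¹ = x * u * x * u * x * u * x * u := by
        rw [hs4]
        simp only [mul_inv_rev, xinv, uinv, mul_assoc]
      rw [hsinv] at h1
      have h2 : x * s = x * (u * x * u * x * u * x * u * x) := by rw [← hs4]
      rw [h2, h1]
      simp only [mul_assoc]
    -- `K_x` is centralised by `s`
    have hsx : Cen K s x := by
      obtain ⟨x1, hx1⟩ : ∃ x1, x1 = u * x * u⁻¹ := ⟨_, rfl⟩
      have hx1Z : x1 ∈ Z := hx1 ▸ w.conjZ x hx u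
      have e1 : x1 * x * x1⁻¹ = s * x := by
        rw [w.inv hx1Z, hx1, uinv, hs4]
        simp only [mul_assoc, hxx, mul_one]
      have e2 : x * (s * x) = s := by rw [← mul_assoc, hxs, mul_assoc, hxx, mul_one]
      have hsxZ : s * x ∈ Z := e1 ▸ w.conjZ x hx x1
      by_cases hcx : CP K x (s * x)
      · rw [← e1] at hcx
        have h1 := w.wt_cen_u hx hx1Z hcx
        rwa [wt, e1, e2] at h1
      · exfalso
        have hNx : NP K x (s * x) := by
          refine ⟨fun h1 => hs1.1 (mul_eq_right.1 h1.symm), ?_, hcx⟩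
          rw [← mul_assoc, hxs]
        have h3 := w.mul_mem_of_np hx hsxZ hNx
        rw [e2, hs] at h3
        exact h.five_eight u hu u1 hu1Z hsw h3
    rcases h.dich hs1 hu hx hsu hsx with h2 | h2
    · exact hc h2.symm
    · rw [← hu1] at h2
      exact huc (CP.comm w hu hu1Z h2)

/-- (8.1), one step -/
theorem step (hz : z ∈ Z) (hu : u ∈ Z) (hcp : CP K z u) (hn : ¬ Conn Z K z u) (hE : Ed Z K z x) : CP K x u := by
  rcases hE.2.2 with h1 | h1 | h1
  · exact h.step_np hz hu hE.2.1 hcp hn h1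
  · exact h1.cp_of hu hcp (fun h2 => hn (h2 ▸ conn_of_tw hz h1))
  · exact h.step_csw hz hu hE.2.1 hcp hn h1

theorem cp_left (hu : u ∈ Z) (hcp : CP K z u) (hn : ¬ Conn Z K z u) (hx : Conn Z K z x) : CP K x u := by
  induction hx with
  | refl => exact hcp
  | tail h1 h2 ih => exact h.step h2.1 hu ih (fun h3 => hn (Conn.trans h1 h3)) h2

/-- **(8.1)** -/
theorem cp_of_not_conn (hz : z ∈ Z) (hu : u ∈ Z) (hc : z * u = u * z) (hn : ¬ Conn Z K z u)
    (hx : Conn Z K z x) (hy : Conn Z K u y) : CP K x y := by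
  have h1 := h.cp_left hu (cp_of_comm hz hu hc hn) hn hx
  have h2 : ¬ Conn Z K u x := fun h3 => hn (hx.trans (h3.symm h.w))
  exact (h.cp_left (hx.mem hz) h1.symm h2 hy).symm

end

end GD

end Cfsg.Agent.Cit.Nil.ROne
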