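import Cfsg.Agent.Cit.Nil.ROne.Graph
import Cfsg.Agent.Cit.Nil.ROne.GraphB
import Cfsg.Agent.Cit.Nil.ROne.Strong
import Cfsg.Agent.Cit.TwoBasic

/-!
# (6b), `r = 1`: the strongly closed subgroup (sections 8 and 9 of helper545's text)

`WOne Z K E` : `E` is a nontrivial equivariant map into the subgroups, constant on components, `E z ≤ ⟨[z]⟩`
(C-swaps exist: `E z = ⟨t_z⟩`; no C-swaps, `κ ≥ 2`: `E z = E_z^+`).
`WTwo Z K` : no C-swaps, `[z] = {z}`, no linked C-pairs (`κ = 1`).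

* `GD.gr` : helper587's `Gr`; `GD.data` : helper815's `Data`;
* `WOne.exists_closed`, `WTwo.exists_closed` : **`A` is strongly closed in `S`**;
* `WTwo.not_conn`, `WTwo.comm_of_rel` : `κ = 1` : C-pairs are not connected; related elements commute.
-/

set_option autoImplicit false
set_option linter.style.haveILetI false
set_option linter.unusedSectionVars false

namespace Cfsg.Agent.Cit.Nil.ROne

open Subgroup Cfsg Cit

variable {G : Type*} [Group G]

/-- C-swaps exist, or `κ ≥ 2` -/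
structure WOne (Z : Set G) (K : G → Subgroup G) (E : G → Subgroup G) : Prop where
  eqv : ∀ z ∈ Z, ∀ g, E (g * z * g⁻¹) = cj g (E z)
  ne : ∀ z ∈ Z, E z ≠ ⊥
  le : ∀ z ∈ Z, E z ≤ closure {u | Tw Z K z u}
  np : ∀ z ∈ Z, ∀ x ∈ Z, NP K z x → E z = E x
  tw : ∀ z ∈ Z, ∀ x, Tw Z K z x → E z = E x
  sw : ∀ z ∈ Z, ∀ x ∈ Z, CSw K z x → E z = E x

/-- no C-swaps, `κ = 1` -/
structure WTwo (Z : Set G) (K : G → Subgroup G) : Prop where
  sw : ∀ z ∈ Z, ∀ x ∈ Z, ¬ CSw K z x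
  tw : ∀ z ∈ Z, ∀ x, Tw Z K z x → x = z
  nl : ∀ u ∈ Z, ∀ e ∈ Z, ∀ x ∈ Z, CP K u e → NP K u x → NP K e x → False

namespace GD

variable [Finite G] {Z : Set G} {K : G → Subgroup G} {z u v g x y s : G}

variable (h : GD Z K)

include h

/-- helper587's structure -/
theorem gr (cls : OneCls Z) : Gr Z K (Tor Z K) (Conn Z K) where
  w := h.w
  cls := cls
  cp _ hS _ hx _ hy h1 h2 hne := h.w.com hx hy hS h1 h2 hne
  refl x _ := Conn.refl x
  symm _ _ h1 := h1.symm h.w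
  trans _ _ _ h1 h2 := h1.trans h2
  conj _ _ g h1 := h1.conj h.w g
  pz _ hz := tor_one h.w hz
  dich _ hs _ hx _ hy h1 h2 := h.dich hs hx hy h1 h2
  swap _ hx _ hy h1 := conn_of_csw hx hy h1
  perp _ hx _ hy hc hn _ _ _ _ h1 h2 := h.cp_of_not_conn hx hy hc hn h1 h2

omit h in
/-- helper815's structure -/
theorem data (w : W Z K) (S : Sylow 2 G) : Strong.Data (S : Subgroup G) (CS Z K S) K where
  sq z hz := w.sq z hz.1
  ne z hz := w.ne z hz.1
  mem z hz := w.mem z hz.1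
  le z hz := hz.2
  q8 z hz := w.q8 z hz.1
  comm z hz u hu hne := (w.com hz.1 hu.1 S.isPGroup' hz.2 hu.2 hne).2
  conjZ s hs z hz := by
    have h1 := (w.cj_CS s (S : Subgroup G) hz.1).2 hz
    rwa [mem_normalizer_iff_cj.1 (le_normalizer hs)] at h1
  conjK s _ z hz := w.conjK z hz.1 s

/-- the subgroup `M` contains the Sylow subgroup, (P1), (P2) -/
theorem le_MM (cls : OneCls Z) (S : Sylow 2 G) (hz : z ∈ CS Z K S) : (S : Subgroup G) ≤ (h.gr cls).MM z hz.1 :=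
  (h.gr cls).le_MM S.isPGroup' hz.1 hz.2

theorem rel_CS (cls : OneCls Z) (S : Sylow 2 G) (hz : z ∈ CS Z K S) (hu : u ∈ CS Z K S) : (h.gr cls).Rel z u :=
  (h.gr cls).rel_of_le S.isPGroup' hz.1 hu.1 hz.2 hu.2

theorem P1 (cls : OneCls Z) (S : Sylow 2 G) (hz : z ∈ CS Z K S) (hu : u ∈ CS Z K S)
    (hx : x * u * x⁻¹ ∈ (h.gr cls).MM z hz.1) : x ∈ (h.gr cls).MM z hz.1 := by
  have h1 : u ∈ (h.gr cls).MM z hz.1 := h.le_MM cls S hz (hu.2 (h.w.mem u hu.1))
  have h2 := (h.gr cls).mem_of_mem (g := x⁻¹) hz.1 hu.1 h1 (by rwa [inv_inv])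
  simpa using inv_mem h2

theorem P2 (cls : OneCls Z) (S : Sylow 2 G) (hz : z ∈ CS Z K S) (hs : s ∈ TT Z K S) (hs1 : s ≠ 1)
    (hx : x * s = s * x) : x ∈ (h.gr cls).MM z hz.1 :=
  (h.gr cls).centralizer_le_MM' ⟨hs1, S, hs⟩ hz.1 (h.w.TT_cen S.isPGroup' hz hs) (mem_centralizer_singleton_iff.2 hx)

end GD

namespace WOne

variable [Finite G] {Z : Set G} {K : G → Subgroup G} {E : G → Subgroup G} {z u v g x y s : G}

theorem const (o : WOne Z K E) (hE : Conn Z K x y) : E x = E y := by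
  induction hE with
  | refl => rfl
  | tail _ h2 ih =>
    refine ih.trans ?_
    rcases h2.2.2 with h3 | h3 | h3
    · exact o.np _ h2.1 _ h2.2.1 h3
    · exact o.tw _ h2.1 _ h3
    · exact o.sw _ h2.1 _ h2.2.1 h3

variable (o : WOne Z K E) (h : GD Z K) (cls : OneCls Z)

include h

/-- every component of the class meets `C_S` -/
theorem exists_conn (S : Sylow 2 G) (hz : z ∈ CS Z K S) (hx : x ∈ Z) (hzx : (h.gr cls).Rel z x) :
    ∃ c ∈ CS Z K S, Conn Z K x c := by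
  by_contra hcon
  push Not at hcon
  have hg := h.gr cls
  have h1 : x ∈ CS Z K S := by
    refine h.w.mem_CS_of_clique S hx fun c hc => Or.inr ?_
    have h2 : hg.Rel c x := hg.rel_trans hc.1 hz.1 hx (h.rel_CS cls S hc hz) hzx
    rcases h2 with h2 | h2
    · exact absurd (h2.symm h.w) (hcon c hc)
    · exact h2
  exact hcon x h1 (Conn.refl x)

/-- `[c] ⊆ C_S` -/
theorem tw_mem_CS (S : Sylow 2 G) (hz : z ∈ CS Z K S) (hu : Tw Z K z u) : u ∈ CS Z K S := by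
  refine h.w.mem_CS_of_clique S hu.1 fun c hc => ?_
  have h1 : c ∈ cl Z K z := by
    by_cases hcz : c = z
    · exact ⟨hc.1, Or.inl hcz⟩
    · exact ⟨hc.1, Or.inr (h.w.com hz.1 hc.1 S.isPGroup' hz.2 hc.2 (Ne.symm hcz))⟩
  rw [hu.2] at h1
  exact h1.2.imp id CP.symm

include o

theorem E_le (S : Sylow 2 G) (hz : z ∈ CS Z K S) (hx : x ∈ Z) (hzx : (h.gr cls).Rel z x) : E x ≤ TT Z K S := by
  obtain ⟨c, hc, hxc⟩ := exists_conn h cls S hz hx hzx
  rw [o.const hxc]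
  refine (o.le c hc.1).trans ((closure_le _).2 fun u hu => subset_closure (tw_mem_CS h S hc hu))

/-- **(9.1)**, C-swaps exist or `κ ≥ 2` -/
theorem exists_closed (S : Sylow 2 G) (hz : z ∈ CS Z K S) :
    ∃ A : Subgroup G, A ≠ ⊥ ∧ A ≤ TT Z K S ∧ IsStronglyClosed A (S : Subgroup G) ∧ ∀ a ∈ A, a ≠ 1 → ∀ c, c * a = a * c →
      c ∈ (h.gr cls).MM z hz.1 := by
  have hg := h.gr cls
  have w := h.w
  set A : Subgroup G := closure {a | ∃ x ∈ Z, hg.Rel z x ∧ a ∈ E x} with hA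
  have hAT : A ≤ TT Z K S := by
    rw [hA, closure_le]
    rintro a ⟨x, hx, hzx, ha⟩
    exact o.E_le h cls S hz hx hzx ha
  have hAM : hg.MM z hz.1 ≤ normalizer (A : Set G) := by
    have key : ∀ g ∈ hg.MM z hz.1, A ≤ A.comap (MulAut.conj g).toMonoidHom := by
      intro g hgM
      conv_lhs => rw [hA]
      rw [closure_le]
      rintro a ⟨x, hx, hzx, ha⟩
      refine subset_closure ⟨g * x * g⁻¹, w.conjZ x hx g, ?_, ?_⟩
      · exact hg.rel_trans hz.1 (w.conjZ z hz.1 g) (w.conjZ x hx g) hgM (hg.rel_conj hz.1 hx hzx g)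
      · rw [o.eqv x hx]
        exact conj_mem_cj ha
    intro g hgM
    rw [mem_normalizer_iff]
    intro a
    refine ⟨fun ha => key g hgM ha, fun ha => ?_⟩
    have h1 : g⁻¹ * (g * a * g⁻¹) * g⁻¹⁻¹ ∈ A := key g⁻¹ (inv_mem hgM) ha
    have h2 : g⁻¹ * (g * a * g⁻¹) * g⁻¹⁻¹ = a := by group
    rwa [h2] at h1
  have hP : ∀ a ∈ A, a ≠ 1 → ∀ c, c * a = a * c → c ∈ (h.gr cls).MM z hz.1 :=
    fun a ha ha1 c hc => h.P2 cls S hz (hAT ha) ha1 hc
  refine ⟨A, ?_, hAT, ?_, hP⟩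
  · intro h1
    apply o.ne z hz.1
    rw [eq_bot_iff, ← h1]
    exact fun a ha => subset_closure ⟨z, hz.1, hg.rel_refl hz.1, ha⟩
  · refine Strong.strong S (h.le_MM cls S hz) (GD.data w S) ⟨z, hz⟩ (fun u hu x hx => h.P1 cls S hz hu hx)
      (fun s hs hs1 c hc => h.P2 cls S hz hs hs1 hc) (hAT.trans w.TT_le) hAM
      (fun a ha => w.TT_sq S.isPGroup' (hAT ha)) ?_
    intro a ha ha1 R _ hR
    refine ⟨1, by rw [one_mul, mul_one], ?_⟩
    rw [cj_one]
    exact fun r hr => hP a ha ha1 r (hR r hr)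

end WOne

/-- `u`, `u1 = u^x` an N-pair: `q = u u1` is in the same component as `u` and `x` -/
theorem np_np {Z : Set G} {K : G → Subgroup G} {u x : G} (w : W Z K) (hu : u ∈ Z) (hx : x ∈ Z)
    (hN : NP K u (x * u * x⁻¹)) (hsw : ¬ CSw K x u) :
    ∃ q ∈ Z, q = u * (x * u * x⁻¹) ∧ NP K u q ∧ NP K x q := by
  have hxx := w.sq x hx
  have huu := w.sq u hu
  have xinv := w.inv hx
  have uinv := w.inv hu
  have hu1Z := w.conjZ u hu x
  have hqZ := w.mul_mem_of_np hu hu1Z hN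
  have hq1 := w.np_mul hu hu1Z hN
  have hxu1 : x * (x * u * x⁻¹) * x⁻¹ = u := by
    have : x * (x * u * x⁻¹) * x⁻¹ = (x * x) * u * (x * x)⁻¹ := by group
    rw [this, hxx]; group
  have huc := hN.2.1
  obtain ⟨q, hq⟩ : ∃ q, q = u * (x * u * x⁻¹) := ⟨_, rfl⟩
  rw [← hq] at hqZ hq1
  have hxq : x * q * x⁻¹ = q := by
    have : x * q * x⁻¹ = (x * u * x⁻¹) * (x * (x * u * x⁻¹) * x⁻¹) := by rw [hq]; group
    rw [this, hxu1, ← huc, ← hq]
  have hxq' : x * q = q * x := mul_inv_eq_iff_eq_mul.1 hxq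
  have hux : u * x * u⁻¹ = x * q := by
    rw [uinv, hxq', hq, xinv]
    simp only [mul_assoc, hxx, mul_one]
  have hqne : q ≠ 1 := w.ne q hqZ
  have hxqZ : x * q ∈ Z := hux ▸ w.conjZ x hx u
  have hcx : ¬ CP K x (x * q) := by
    intro hcx
    rw [← hux] at hcx
    exact hsw hcx
  have hNx : NP K x (x * q) := by
    refine ⟨fun h1 => hqne (mul_eq_left.1 h1.symm), ?_, hcx⟩
    rw [mul_assoc, ← hxq']
  have h3 := w.np_mul hx hxqZ hNx
  have h4 : x * (x * q) = q := by rw [← mul_assoc, hxx, one_mul]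
  rw [h4] at h3
  exact ⟨q, hqZ, hq, hq1, h3⟩

namespace WTwo

variable [Finite G] {Z : Set G} {K : G → Subgroup G} {z u v g x y s : G}

variable (o : WTwo Z K) (h : GD Z K)

include o h

/-- the claim of (8.6) -/
theorem cp_np (hz : z ∈ Z) (hu : u ∈ Z) (hx : x ∈ Z) (hcp : CP K z u) (hE : NP K z x) : CP K x u := by
  have w := h.w
  have hxu : x ≠ u := by
    rintro rfl
    exact hE.2.2 hcp
  by_cases hc : x * u = u * x
  · by_contra hn
    exact o.nl z hz u hu x hx hcp hE ⟨hxu.symm, hc.symm, fun h1 => hn h1.symm⟩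
  exfalso
  have hu1Z := w.conjZ u hu x
  have hne : u ≠ x * u * x⁻¹ := by
    intro h1
    apply hc
    rw [eq_mul_inv_iff_mul_eq] at h1
    exact h1.symm
  have hxz : x * z * x⁻¹ = z := by rw [← hE.2.1, mul_inv_cancel_right]
  have hcp1 : CP K z (x * u * x⁻¹) := by
    have h1 := w.cp_conj hz hu hcp x
    rwa [hxz] at h1
  have huc : u * (x * u * x⁻¹) = (x * u * x⁻¹) * u := by
    rcases h.two_five z (tor_one w hz) u hu (cen_of_cp_left w hz hcp) _ (conj_mem_NC hE.2.1.symm) with h1 | h1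
    · exact (mul_inv_eq_iff_eq_mul.1 h1).symm
    · exact absurd h1 (o.sw u hu _ hu1Z)
  obtain ⟨q, hqZ, hq, h1, h2⟩ := np_np w hu hx ⟨hne, huc, o.sw u hu x hx⟩ (o.sw x hx u hu)
  have hzq : CP K z q := by
    refine w.csymm hz hqZ ?_ ?_
    · rintro rfl
      exact h1.2.2 hcp.symm
    · rw [hq]
      exact (w.cen_of_cp hu hcp).mul (w.cen_of_cp hu1Z hcp1)
  exact o.nl z hz q hqZ x hx hzq hE h2.symm

theorem cp_conn (hu : u ∈ Z) (hcp : CP K z u) (hx : Conn Z K z x) : CP K x u := by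
  induction hx with
  | refl => exact hcp
  | tail _ h2 ih =>
    rcases h2.2.2 with h3 | h3 | h3
    · exact o.cp_np h h2.1 hu h2.2.1 ih h3
    · rw [o.tw _ h2.1 _ h3]
      exact ih
    · exact absurd h3 (o.sw _ h2.1 _ h2.2.1)

/-- C-pairs lie in different components -/
theorem not_conn (hu : u ∈ Z) (hcp : CP K z u) : ¬ Conn Z K z u := fun h1 => (o.cp_conn h hu hcp h1).1 rfl

variable (cls : OneCls Z)

/-- related elements commute -/
theorem comm_of_rel {a b : G} (ha : a ∈ Z) (hb : b ∈ Z) (hab : CP K a b) (hz : z ∈ Z) (hx : x ∈ Z)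
    (hzx : (h.gr cls).Rel z x) : z * x = x * z := by
  rcases hzx with h1 | h1
  · obtain ⟨g, rfl⟩ := cls a ha z hz
    have hu := h.w.conjZ b hb g
    have h2 := h.w.cp_conj ha hb hab g
    have h3 := o.cp_conn h hu h2 h1
    rcases h.dich (tor_one h.w hu) hz hx (h.w.cen_of_cp hu h2) (h.w.cen_of_cp hu h3) with h4 | h4
    · exact h4
    · exact absurd h4 (o.sw _ hz _ hx)
  · exact h1.comm h.w hz hx

/-- **(9.1)**, `κ = 1` -/
theorem exists_closed (S : Sylow 2 G) (hz : z ∈ CS Z K S) (hu : u ∈ CS Z K S) (hzu : z ≠ u) :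
    ∃ A : Subgroup G, A = closure {x | x ∈ Z ∧ (h.gr cls).Rel z x} ∧ A ≠ ⊥ ∧ (∀ x ∈ A, ∀ y ∈ A, x * y = y * x) ∧
      (∀ x ∈ A, x * x = 1) ∧ IsStronglyClosed A (S : Subgroup G) := by
  haveI : Fact (Nat.Prime 2) := ⟨Nat.prime_two⟩
  have hg := h.gr cls
  have w := h.w
  have hcp : CP K z u := w.com hz.1 hu.1 S.isPGroup' hz.2 hu.2 hzu
  set A : Subgroup G := closure {x | x ∈ Z ∧ hg.Rel z x} with hA
  have hrel : ∀ x ∈ Z, ∀ y ∈ Z, hg.Rel z x → hg.Rel z y → x * y = y * x := fun x hx y hy h1 h2 =>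
    o.comm_of_rel h cls hz.1 hu.1 hcp hx hy (hg.rel_trans hx hz.1 hy (hg.rel_symm h1) h2)
  have hAc : ∀ x ∈ A, ∀ y ∈ A, x * y = y * x := by
    have h1 : ∀ x ∈ Z, hg.Rel z x → A ≤ centralizer {x} := by
      intro x hx hzx
      rw [hA, closure_le]
      rintro y ⟨hy, hzy⟩
      rw [SetLike.mem_coe, mem_centralizer_singleton_iff]
      exact hrel y hy x hx hzy hzx
    intro x hx y hy
    have h2 : A ≤ centralizer {y} := by
      conv_lhs => rw [hA]
      rw [closure_le]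
      rintro a ⟨ha, hza⟩
      rw [SetLike.mem_coe, mem_centralizer_singleton_iff]
      exact (mem_centralizer_singleton_iff.1 (h1 a ha hza hy)).symm
    exact mem_centralizer_singleton_iff.1 (h2 hx)
  have hA2 : ∀ x ∈ A, x * x = 1 := by
    intro x hx
    have hx' := hx
    rw [hA] at hx'
    refine (closure_induction (p := fun x _ => x ∈ A ∧ x * x = 1) ?_ ⟨A.one_mem, by simp⟩ ?_ ?_ hx').2
    · rintro a ⟨ha, hza⟩
      exact ⟨subset_closure ⟨ha, hza⟩, w.sq a ha⟩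
    · rintro a b _ _ ⟨ha, ha2⟩ ⟨hb, hb2⟩
      refine ⟨A.mul_mem ha hb, ?_⟩
      calc a * b * (a * b) = a * (b * a) * b := by group
        _ = a * (a * b) * b := by rw [hAc b hb a ha]
        _ = (a * a) * (b * b) := by group
        _ = 1 := by rw [ha2, hb2, one_mul]
    · rintro a _ ⟨ha, ha2⟩
      refine ⟨A.inv_mem ha, ?_⟩
      rw [← mul_inv_rev, ha2, inv_one]
  have hA2' : IsPGroup 2 A := by
    intro a
    refine ⟨1, Subtype.ext ?_⟩
    rw [pow_one, pow_two]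
    exact hA2 a a.2
  have hAM : hg.MM z hz.1 ≤ normalizer (A : Set G) := by
    have key : ∀ g ∈ hg.MM z hz.1, A ≤ A.comap (MulAut.conj g).toMonoidHom := by
      intro g hgM
      conv_lhs => rw [hA]
      rw [closure_le]
      rintro x ⟨hx, hzx⟩
      exact subset_closure ⟨w.conjZ x hx g, hg.rel_trans hz.1 (w.conjZ z hz.1 g) (w.conjZ x hx g) hgM
        (hg.rel_conj hz.1 hx hzx g)⟩
    intro g hgM
    rw [mem_normalizer_iff]
    intro a
    refine ⟨fun ha => key g hgM ha, fun ha => ?_⟩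
    have h1 : g⁻¹ * (g * a * g⁻¹) * g⁻¹⁻¹ ∈ A := key g⁻¹ (inv_mem hgM) ha
    have h2 : g⁻¹ * (g * a * g⁻¹) * g⁻¹⁻¹ = a := by group
    rwa [h2] at h1
  have hAM' : A ≤ hg.MM z hz.1 := by
    conv_lhs => rw [hA]
    rw [closure_le]
    rintro x ⟨hx, hzx⟩
    exact hg.mem_MM hz.1 hx hzx
  have hSM := h.le_MM cls S hz
  have hAS : A ≤ S := by
    have h1 : IsPGroup 2 (A ⊔ S : Subgroup G) := IsPGroup.to_sup_of_normal_left' hA2' S.isPGroup' (hSM.trans hAM)
    have h2 := S.is_maximal' h1 le_sup_right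
    rw [← h2]
    exact le_sup_left
  have hzA : z ∈ A := subset_closure ⟨hz.1, hg.rel_refl hz.1⟩
  refine ⟨A, hA, ?_, hAc, hA2, ?_⟩
  · intro h1
    rw [h1, mem_bot] at hzA
    exact w.ne z hz.1 hzA
  · refine Strong.strong S hSM (GD.data w S) ⟨z, hz⟩ (fun u hu x hx => h.P1 cls S hz hu hx)
      (fun s hs hs1 c hc => h.P2 cls S hz hs hs1 hc) hAS hAM hA2 ?_
    intro a ha _ R hR hRa
    set H : Subgroup G := centralizer {a} with hH
    have hAH : A ≤ H := fun x hx => mem_centralizer_singleton_iff.2 (hAc x hx a ha)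
    have hRH : R ≤ H := fun x hx => mem_centralizer_singleton_iff.2 (hRa x hx)
    obtain ⟨P, hP⟩ := (hA2'.comap_subtype (K := H)).exists_le_sylow
    have hP2 : IsPGroup 2 ((P : Subgroup H).map H.subtype) := P.isPGroup'.map _
    have hAP : A ≤ (P : Subgroup H).map H.subtype := fun x hx => ⟨⟨x, hAH hx⟩, hP (mem_subgroupOf.2 hx), rfl⟩
    have hPM : (P : Subgroup H).map H.subtype ≤ hg.MM z hz.1 := by
      by_contra hcon
      obtain ⟨b, hb, hb1, hb2⟩ := exists_normalizing hP2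
        (A := (P : Subgroup H).map H.subtype ⊓ hg.MM z hz.1) inf_le_left (fun h1 => hcon (inf_eq_left.1 h1))
      apply hb1
      refine Subgroup.mem_inf.2 ⟨hb, ?_⟩
      have h1 : z ∈ (P : Subgroup H).map H.subtype ⊓ hg.MM z hz.1 := Subgroup.mem_inf.2 ⟨hAP hzA, hAM' hzA⟩
      have h2 := conj_mem_cj (g := b) h1
      rw [hb2] at h2
      exact h.P1 cls S hz hz h2.2
    obtain ⟨m, hm⟩ := exists_le_cj P (hR.comap_subtype (K := H))
    refine ⟨(m : G)⁻¹, ?_, ?_⟩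
    · have h1 := mem_centralizer_singleton_iff.1 m.2
      rw [inv_mul_eq_iff_eq_mul, ← mul_assoc, h1, mul_inv_cancel_right]
    · intro x hx
      rw [mem_cj, inv_inv] at hx
      have h1 : (⟨(m : G) * x * (m : G)⁻¹, hRH hx⟩ : H) ∈ cj m (P : Subgroup H) := hm (mem_subgroupOf.2 hx)
      rw [mem_cj] at h1
      have h2 := hPM (mem_map_of_mem H.subtype h1)
      have h3 : H.subtype (m⁻¹ * (⟨(m : G) * x * (m : G)⁻¹, hRH hx⟩ : H) * m) = x := by
        change (m : G)⁻¹ * ((m : G) * x * (m : G)⁻¹) * (m : G) = x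
        group
      rwa [h3] at h2

end WTwo

end Cfsg.Agent.Cit.Nil.ROne
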