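import Cfsg.Agent.Cit.OneBasic

/-!
# (6b), r = 1, m = 2, nil world: base (helper454, bb #12195 (a)-(d))

`Z` : the involutions of the members, `K z` the member (quaternion of order 8, normal in `C(z)`).
`Ed Z K z u` : `(z, u)` is a `C`-pair (edge).  `A Z K z` is generated by the neighbours of `z`.

* `W.mem_A` : `A z = {1} ∪ a₀(z)`;
* `W.W_sub` : for `b ∈ A z`, `b ≠ 1`, `A b ≤ {c, b u c : c ∈ A u}`;
* `W.norm_sup` : `C(z)` normalises `A z ⊔ A u`;
* `W.exists_not_comm` : if `A u ≠ ⟨z⟩` then every `v ∈ K z` of order 4 moves an element of `A u`;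
* `W.full` : if `A z ≠ ⟨u⟩` then all pairs `(b, c)`, `b ∈ A z`, `c ∈ A u` nontrivial, are edges.
-/

set_option autoImplicit false
set_option linter.style.haveILetI false
set_option linter.unusedSectionVars false

namespace Cfsg.Agent.Cit.Nil.MTwo

open Subgroup Cfsg Cit OneBasic

variable {G : Type*} [Group G]

/-- an edge (`C`-pair) -/
def Ed (Z : Set G) (K : G → Subgroup G) (z u : G) : Prop :=
  z ∈ Z ∧ u ∈ Z ∧ z ≠ u ∧ ∀ k ∈ K z, ∀ l ∈ K u, k * l = l * k

/-- the subgroup generated by the neighbours of `z` -/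
def A (Z : Set G) (K : G → Subgroup G) (z : G) : Subgroup G := closure {u | Ed Z K z u}

/-- the world -/
structure W (Z : Set G) (K : G → Subgroup G) : Prop where
  conj : ∀ z ∈ Z, ∀ g : G, g * z * g⁻¹ ∈ Z
  conjK : ∀ z ∈ Z, ∀ g : G, K (g * z * g⁻¹) = cj g (K z)
  one : ∀ z ∈ Z, ∀ u ∈ Z, ∃ g : G, g * z * g⁻¹ = u
  sq : ∀ z ∈ Z, z * z = 1
  ne : ∀ z ∈ Z, z ≠ 1
  mem : ∀ z ∈ Z, z ∈ K z
  card : ∀ z ∈ Z, Nat.card (K z) = 8
  four : ∀ z ∈ Z, ∀ k ∈ K z, k ≠ 1 → k ≠ z → k * k = z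
  E : ∀ z ∈ Z, ∀ u ∈ Z, z ≠ u → (∀ k ∈ K z, k * u = u * k) → ∀ k ∈ K z, ∀ l ∈ K u, k * l = l * k
  three : ∀ z ∈ Z, ∀ u ∈ Z, ∀ v ∈ Z, ∀ T : Subgroup G, IsPGroup 2 T → K z ≤ T → K u ≤ T → K v ≤ T →
    z = u ∨ z = v ∨ u = v
  prod : ∀ z u, Ed Z K z u → z * u ∉ Z
  syl : ∀ z u, Ed Z K z u → ∃ S : Sylow 2 G, K z ≤ S ∧ K u ≤ S ∧
    ∀ s ∈ S, (s * z * s⁻¹ = z ∧ s * u * s⁻¹ = u) ∨ (s * z * s⁻¹ = u ∧ s * u * s⁻¹ = z)
  ex : ∀ z ∈ Z, ∃ u, Ed Z K z u
  two : ∀ z ∈ Z, IsPGroup 2 (A Z K z)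
  c3 : ∀ z ∈ Z, ∀ v ∈ K z, v * v = z → ∃ g : G, g * z = z * g ∧ g * v * g⁻¹ ≠ v ∧ g * v * g⁻¹ ≠ v⁻¹

variable {Z : Set G} {K : G → Subgroup G} {z u v b c x y g : G}

theorem Ed.symm (h : Ed Z K z u) : Ed Z K u z :=
  ⟨h.2.1, h.1, h.2.2.1.symm, fun k hk l hl => (h.2.2.2 l hl k hk).symm⟩

theorem Ed.left (h : Ed Z K z u) : z ∈ Z := h.1

theorem Ed.right (h : Ed Z K z u) : u ∈ Z := h.2.1

theorem Ed.ne (h : Ed Z K z u) : z ≠ u := h.2.2.1

namespace W

variable (w : W Z K)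

include w

theorem inv (hz : z ∈ Z) : z⁻¹ = z := inv_eq_of_mul_eq_one_right (w.sq z hz)

theorem commz (hz : z ∈ Z) {k : G} (hk : k ∈ K z) : k * z = z * k := by
  by_cases h1 : k = 1
  · rw [h1, one_mul, mul_one]
  by_cases h2 : k = z
  · rw [h2]
  rw [← w.four z hz k hk h1 h2, mul_assoc]

theorem comm (h : Ed Z K z u) : z * u = u * z := h.2.2.2 z (w.mem z h.1) u (w.mem u h.2.1)

theorem cent (h : Ed Z K z u) : ∀ k ∈ K z, k * u = u * k := fun k hk => h.2.2.2 k hk u (w.mem u h.2.1)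

theorem ed_of (hz : z ∈ Z) (hu : u ∈ Z) (hne : z ≠ u) (hc : ∀ k ∈ K z, k * u = u * k) : Ed Z K z u :=
  ⟨hz, hu, hne, w.E z hz u hu hne hc⟩

theorem ed_conj (h : Ed Z K z u) (g : G) : Ed Z K (g * z * g⁻¹) (g * u * g⁻¹) := by
  refine ⟨w.conj z h.1 g, w.conj u h.2.1 g, fun h1 => h.2.2.1 ?_, ?_⟩
  · simpa using h1
  · intro k hk l hl
    rw [w.conjK z h.1, mem_cj] at hk
    rw [w.conjK u h.2.1, mem_cj] at hl
    have h1 := h.2.2.2 _ hk _ hl
    have h2 : g * ((g⁻¹ * k * g) * (g⁻¹ * l * g)) * g⁻¹ = g * ((g⁻¹ * l * g) * (g⁻¹ * k * g)) * g⁻¹ := by rw [h1]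
    have h3 : g * ((g⁻¹ * k * g) * (g⁻¹ * l * g)) * g⁻¹ = k * l := by group
    have h4 : g * ((g⁻¹ * l * g) * (g⁻¹ * k * g)) * g⁻¹ = l * k := by group
    rwa [h3, h4] at h2

theorem norm (hz : z ∈ Z) (hg : g * z = z * g) {k : G} (hk : k ∈ K z) : g * k * g⁻¹ ∈ K z := by
  have h1 := w.conjK z hz g
  rw [hg, mul_inv_cancel_right] at h1
  rw [h1]
  exact conj_mem_cj hk

theorem inv_mem_K (hz : z ∈ Z) {k : G} (hkk : k * k = z) : k⁻¹ = k * z := by
  rw [← hkk]
  have h1 : z * z = 1 := w.sq z hz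
  rw [← hkk] at h1
  have h2 : k * (k * (k * k)) = 1 := by rw [← mul_assoc, h1]
  exact inv_eq_of_mul_eq_one_right h2

/-- an involution acting nontrivially on `K z` inverts an element of order 4 -/
theorem exists_inverted (hz : z ∈ Z) (hy : y * y = 1) (hyz : y * z = z * y)
    (hn : ¬ ∀ k ∈ K z, k * y = y * k) : ∃ k ∈ K z, k * k = z ∧ y * k * y⁻¹ = k⁻¹ := by
  push Not at hn
  obtain ⟨k, hk, hne⟩ := hn
  have hyi : y⁻¹ = y := inv_eq_of_mul_eq_one_right hy
  have h1 : y * k * y⁻¹ ∈ K z := w.norm hz hyz hk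
  set k' := y * k * y⁻¹ with hk'
  have hk1 : k ≠ 1 := by
    rintro rfl
    apply hne
    rw [one_mul, mul_one]
  have hkz : k ≠ z := by
    rintro rfl
    exact hne hyz.symm
  have hkk := w.four z hz k hk hk1 hkz
  have hkne : k' ≠ k := by
    intro h2
    apply hne
    rw [hk', mul_inv_eq_iff_eq_mul] at h2
    exact h2.symm
  have h3 : y * k' * y⁻¹ = k := by
    rw [hk', hyi]
    calc y * (y * k * y) * y = (y * y) * k * (y * y) := by group
      _ = k := by rw [hy, one_mul, mul_one]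
  by_cases h4 : k⁻¹ * k' = z
  · refine ⟨k, hk, hkk, ?_⟩
    change k' = k⁻¹
    rw [w.inv_mem_K hz hkk, ← h4, mul_inv_cancel_left]
  · have h5 : k⁻¹ * k' ∈ K z := mul_mem (inv_mem hk) h1
    have h6 : k⁻¹ * k' ≠ 1 := by
      intro h7
      exact hkne (inv_mul_eq_one.1 h7).symm
    refine ⟨k⁻¹ * k', h5, w.four z hz _ h5 h6 h4, ?_⟩
    calc y * (k⁻¹ * k') * y⁻¹ = (y * k * y⁻¹)⁻¹ * (y * k' * y⁻¹) := by group
      _ = k'⁻¹ * k := by rw [h3]
      _ = (k⁻¹ * k')⁻¹ := by group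

/-- ... hence is moved to `y z` by an element of `K z` -/
theorem exists_move (hz : z ∈ Z) (hy : y * y = 1) (hyz : y * z = z * y)
    (hn : ¬ ∀ k ∈ K z, k * y = y * k) : ∃ k ∈ K z, k * k = z ∧ k * y * k⁻¹ = y * z := by
  obtain ⟨k, hk, hkk, h1⟩ := w.exists_inverted hz hy hyz hn
  have hyi : y⁻¹ = y := inv_eq_of_mul_eq_one_right hy
  refine ⟨k, hk, hkk, ?_⟩
  have h2 : y * k = k⁻¹ * y := by
    rw [← h1, inv_mul_cancel_right]
  have h3 : k * y = y * k⁻¹ := by
    rw [hyi] at h1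
    have h4 : y * (y * k * y) = y * k⁻¹ := by rw [h1]
    rw [← h4]
    calc k * y = (y * y) * k * y := by rw [hy, one_mul]
      _ = _ := by group
  rw [h3, mul_assoc, ← mul_inv_rev, hkk, w.inv hz]

/-- commuting, not an edge: the product is in `Z` -/
theorem mul_mem_Z (hz : z ∈ Z) (hy : y ∈ Z) (hne : z ≠ y) (hc : z * y = y * z) (hn : ¬ Ed Z K z y) :
    z * y ∈ Z := by
  obtain ⟨k, -, -, h1⟩ := w.exists_move hz (w.sq y hy) hc.symm (fun h => hn (w.ed_of hz hy hne h))
  rw [hc, ← h1]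
  exact w.conj y hy k

theorem ed_iff (hz : z ∈ Z) (hy : y ∈ Z) (hne : z ≠ y) (hc : z * y = y * z) :
    Ed Z K z y ↔ z * y ∉ Z :=
  ⟨fun h => w.prod z y h, fun h => by
    by_contra hn
    exact h (w.mul_mem_Z hz hy hne hc hn)⟩

variable [Finite G]

theorem two_K (hz : z ∈ Z) : IsPGroup 2 (K z) := by
  haveI : Fact (Nat.Prime 2) := ⟨Nat.prime_two⟩
  rw [IsPGroup.iff_card]
  exact ⟨3, by rw [w.card z hz]; norm_num⟩

theorem noTri (h1 : Ed Z K z u) (h2 : Ed Z K z v) (h3 : Ed Z K u v) : False := by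
  have h4 : IsPGroup 2 (K z ⊔ K u : Subgroup G) := by
    refine isPGroup_sup_of_normalizes (w.two_K h1.left) (w.two_K h1.right) ?_
    refine le_trans ?_ (centralizer_le_normalizer _)
    intro k hk
    rw [mem_centralizer_iff]
    intro l hl
    exact (h1.2.2.2 k hk l hl).symm
  have h5 : IsPGroup 2 ((K z ⊔ K u) ⊔ K v : Subgroup G) := by
    refine isPGroup_sup_of_normalizes h4 (w.two_K h2.right) ?_
    refine le_trans ?_ (centralizer_le_normalizer _)
    rw [sup_le_iff]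
    constructor
    · intro k hk
      rw [mem_centralizer_iff]
      intro l hl
      exact (h2.2.2.2 k hk l hl).symm
    · intro k hk
      rw [mem_centralizer_iff]
      intro l hl
      exact (h3.2.2.2 k hk l hl).symm
  rcases w.three z h1.left u h1.right v h2.right _ h5 (le_sup_left.trans le_sup_left)
    (le_sup_right.trans le_sup_left) le_sup_right with h | h | h
  · exact h1.ne h
  · exact h2.ne h
  · exact h3.ne h

/-! ### The subgroup `A z` -/

omit [Finite G] in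
theorem A_cent (hx : x ∈ A Z K z) : ∀ k ∈ K z, k * x = x * k := by
  have h1 : A Z K z ≤ centralizer (K z : Set G) := by
    rw [A, closure_le]
    intro y hy
    rw [SetLike.mem_coe, mem_centralizer_iff]
    exact w.cent hy
  intro k hk
  exact mem_centralizer_iff.1 (h1 hx) k hk

omit [Finite G] in
theorem A_conj (g : G) : A Z K (g * z * g⁻¹) = cj g (A Z K z) := by
  rw [A, A, cj_def, MonoidHom.map_closure]
  congr 1
  ext x
  constructor
  · intro hx
    refine ⟨g⁻¹ * x * g, ?_, ?_⟩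
    · have h1 := w.ed_conj hx g⁻¹
      have h2 : g⁻¹ * (g * z * g⁻¹) * g⁻¹⁻¹ = z := by group
      rw [h2, inv_inv] at h1
      exact h1
    · simp [mul_assoc]
  · rintro ⟨y, hy, rfl⟩
    have h1 := w.ed_conj hy g
    simpa using h1

omit [Finite G] in
theorem A_norm (hg : g * z = z * g) (hx : x ∈ A Z K z) : g * x * g⁻¹ ∈ A Z K z := by
  have h1 := w.A_conj (z := z) g
  rw [hg, mul_inv_cancel_right] at h1
  rw [h1]
  exact conj_mem_cj hx

omit [Finite G] w in
theorem mem_A_of (h : Ed Z K z u) : u ∈ A Z K z := subset_closure h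

theorem A_comm (h : Ed Z K z u) (hx : x ∈ A Z K z) : x * u = u * x := by
  have hz := h.left
  -- the 2-group `K z ⊔ (K u ⊔ A z)`
  have h1 : IsPGroup 2 (K u ⊔ A Z K z : Subgroup G) := by
    refine isPGroup_sup_of_normalizes (w.two_K h.right) (w.two z hz) ?_
    intro k hk
    have hkz : k * z = z * k := (w.cent h.symm) k hk
    rw [mem_normalizer_iff]
    intro y
    constructor
    · exact fun hy => w.A_norm hkz hy
    · intro hy
      have h2 : k⁻¹ * z = z * k⁻¹ := by rw [inv_mul_eq_iff_eq_mul, ← mul_assoc, hkz, mul_inv_cancel_right]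
      have h3 := w.A_norm h2 hy
      have h4 : k⁻¹ * (k * y * k⁻¹) * k⁻¹⁻¹ = y := by group
      rwa [h4] at h3
  have h2 : IsPGroup 2 (K z ⊔ (K u ⊔ A Z K z) : Subgroup G) := by
    refine isPGroup_sup_of_normalizes (w.two_K hz) h1 ?_
    refine le_trans ?_ (centralizer_le_normalizer _)
    intro k hk
    have h3 : (K u ⊔ A Z K z : Subgroup G) ≤ centralizer {k} := by
      rw [sup_le_iff]
      constructor
      · intro l hl
        rw [mem_centralizer_singleton_iff]
        exact (h.2.2.2 k hk l hl).symm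
      · intro l hl
        rw [mem_centralizer_singleton_iff]
        exact (w.A_cent hl k hk).symm
    rw [mem_centralizer_iff]
    intro l hl
    exact mem_centralizer_singleton_iff.1 (h3 hl)
  have hu' : x * u * x⁻¹ ∈ Z := w.conj u h.right x
  have hxT : x ∈ K z ⊔ (K u ⊔ A Z K z) := (le_sup_right.trans le_sup_right : A Z K z ≤ _) hx
  have h3 : K (x * u * x⁻¹) ≤ K z ⊔ (K u ⊔ A Z K z) := by
    rw [w.conjK u h.right]
    intro k hk
    rw [mem_cj] at hk
    have h4 := (le_sup_left.trans le_sup_right : K u ≤ K z ⊔ (K u ⊔ A Z K z)) hk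
    have h5 := mul_mem (mul_mem hxT h4) (inv_mem hxT)
    have h6 : x * (x⁻¹ * k * x) * x⁻¹ = k := by group
    rwa [h6] at h5
  rcases w.three z hz u h.right _ hu' _ h2 le_sup_left (le_sup_left.trans le_sup_right) h3 with h4 | h4 | h4
  · exact absurd h4 h.ne
  · exfalso
    apply h.ne
    have h5 : u = x⁻¹ * z * x := by rw [h4]; group
    have h6 := w.A_cent hx z (w.mem z hz)
    rw [h5, mul_assoc, h6, inv_mul_cancel_left]
  · rw [eq_mul_inv_iff_mul_eq] at h4
    exact h4.symm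

theorem A_abel (hx : x ∈ A Z K z) (hy : y ∈ A Z K z) : x * y = y * x := by
  have h1 : A Z K z ≤ centralizer {x} := by
    rw [A, closure_le]
    intro v hv
    rw [SetLike.mem_coe, mem_centralizer_singleton_iff]
    exact (w.A_comm hv hx).symm
  exact (mem_centralizer_singleton_iff.1 (h1 hy)).symm

theorem ed_mul (h1 : Ed Z K z u) (h2 : Ed Z K z v) (hne : u ≠ v) : Ed Z K z (u * v) := by
  have hc : u * v = v * u := w.A_abel (mem_A_of h1) (mem_A_of h2)
  have hn : ¬ Ed Z K u v := fun h3 => w.noTri h1 h2 h3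
  have h3 := w.mul_mem_Z h1.right h2.right hne hc hn
  refine w.ed_of h1.left h3 ?_ ?_
  · intro h4
    apply w.prod z u h1
    have h5 : z * u = v := by
      rw [w.comm h1, h4, ← mul_assoc, w.sq u h1.right, one_mul]
    rw [h5]
    exact h2.right
  · intro k hk
    rw [← mul_assoc, w.cent h1 k hk, mul_assoc, w.cent h2 k hk, mul_assoc]

theorem mem_A_iff : x ∈ A Z K z ↔ x = 1 ∨ Ed Z K z x := by
  constructor
  · intro hx
    induction hx using closure_induction with
    | mem y hy => exact Or.inr hy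
    | one => exact Or.inl rfl
    | mul x y _ _ hx hy =>
      rcases hx with rfl | hx
      · rwa [one_mul]
      rcases hy with rfl | hy
      · rw [mul_one]; exact Or.inr hx
      by_cases hxy : x = y
      · left
        rw [← hxy, w.sq x hx.right]
      · exact Or.inr (w.ed_mul hx hy hxy)
    | inv x _ hx =>
      rcases hx with rfl | hx
      · left; exact inv_one
      · right
        rwa [w.inv hx.right]
  · rintro (rfl | h)
    · exact one_mem _
    · exact mem_A_of h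

theorem ed_of_mem (hx : x ∈ A Z K z) (h1 : x ≠ 1) : Ed Z K z x :=
  (w.mem_A_iff.1 hx).resolve_left h1

theorem A_sq (hx : x ∈ A Z K z) : x * x = 1 := by
  rcases w.mem_A_iff.1 hx with rfl | h
  · rw [one_mul]
  · exact w.sq x h.right

theorem A_inv (hx : x ∈ A Z K z) : x⁻¹ = x := inv_eq_of_mul_eq_one_right (w.A_sq hx)

theorem card_A (hz : z ∈ Z) (hu : u ∈ Z) : Nat.card (A Z K z) = Nat.card (A Z K u) := by
  obtain ⟨g, rfl⟩ := w.one z hz u hu
  rw [w.A_conj, card_cj]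

/-- `A z ∩ A u = 1` for an edge `(z, u)` -/
theorem inf_A (h : Ed Z K z u) (h1 : x ∈ A Z K z) (h2 : x ∈ A Z K u) : x = 1 := by
  by_contra hx
  exact w.noTri h (w.ed_of_mem h1 hx) (w.ed_of_mem h2 hx)

/-- `[A z, A u] = 1` for an edge `(z, u)` -/
theorem comm_A (h : Ed Z K z u) (hb : b ∈ A Z K z) (hc : c ∈ A Z K u) : b * c = c * b := by
  have hbu : b * u = u * b := w.A_comm h hb
  have hcz : c * z = z * c := w.A_comm h.symm hc
  have h1 : b * c * b⁻¹ * c⁻¹ ∈ A Z K z := by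
    have h2 := w.A_norm hcz (inv_mem hb)
    have h3 : b * c * b⁻¹ * c⁻¹ = b * (c * b⁻¹ * c⁻¹) := by group
    rw [h3]
    exact mul_mem hb h2
  have h2 : b * c * b⁻¹ * c⁻¹ ∈ A Z K u := mul_mem (w.A_norm hbu hc) (inv_mem hc)
  have h3 := w.inf_A h h1 h2
  rwa [mul_inv_eq_one, mul_inv_eq_iff_eq_mul] at h3

/-- `K u` moves `b ∈ A z - ⟨u⟩` to `b u` -/
theorem exists_move_A (h : Ed Z K z u) (hb : b ∈ A Z K z) (hb1 : b ≠ 1) (hbu : b ≠ u) :
    ∃ k ∈ K u, k * k = u ∧ k * b * k⁻¹ = b * u := by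
  refine w.exists_move h.right (w.A_sq hb) (w.A_comm h hb) ?_
  intro hcon
  have h1 := w.ed_of_mem hb hb1
  exact w.noTri h h1 (w.ed_of h.right h1.right hbu.symm hcon)

/-- `[A z, K u] ≤ ⟨u⟩` -/
theorem K_move (h : Ed Z K z u) (hb : b ∈ A Z K z) {k : G} (hk : k ∈ K u) :
    k * b * k⁻¹ = b ∨ k * b * k⁻¹ = b * u := by
  have hkz : k * z = z * k := w.cent h.symm k hk
  have h1 : k * b * k⁻¹ ∈ A Z K z := w.A_norm hkz hb
  have h2 : b⁻¹ * (k * b * k⁻¹) ∈ A Z K z := mul_mem (inv_mem hb) h1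
  have hbu : b⁻¹ * u = u * b⁻¹ := by
    rw [w.A_inv hb]; exact w.A_comm h hb
  have h3 : b⁻¹ * (k * b * k⁻¹) ∈ K u := by
    have h4 := w.norm h.right hbu hk
    have h5 : b⁻¹ * (k * b * k⁻¹) = (b⁻¹ * k * b⁻¹⁻¹) * k⁻¹ := by group
    rw [h5]
    exact mul_mem h4 (inv_mem hk)
  by_cases h4 : b⁻¹ * (k * b * k⁻¹) = 1
  · left
    exact (inv_mul_eq_one.1 h4).symm
  · right
    by_cases h5 : b⁻¹ * (k * b * k⁻¹) = u
    · rw [← h5, mul_inv_cancel_left]
    · exfalso
      have h6 := w.four u h.right _ h3 h4 h5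
      rw [w.A_sq h2] at h6
      exact w.ne u h.right h6.symm

/-- for `b ∈ A z`, `c ∈ A u`, not an edge: `(b, b u c)` is an edge -/
theorem ed_buc (h : Ed Z K z u) (hb : b ∈ A Z K z) (hb1 : b ≠ 1) (hbu : b ≠ u) (hc : c ∈ A Z K u)
    (hc1 : c ≠ 1) (hn : ¬ Ed Z K b c) : Ed Z K b (b * u * c) := by
  have hbZ : b ∈ Z := (w.ed_of_mem hb hb1).right
  have huc := w.ed_of_mem hc hc1
  have hcZ : c ∈ Z := huc.right
  have hbc := w.comm_A h hb hc
  have hne : b ≠ c := by
    rintro rfl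
    exact hb1 (w.inf_A h hb hc)
  have h1 := w.mul_mem_Z hbZ hcZ hne hbc hn
  obtain ⟨k, hk, -, hk2⟩ := w.exists_move_A h hb hb1 hbu
  have h2 : b * u * c ∈ Z := by
    have h3 := w.conj _ h1 k
    have h4 : k * (b * c) * k⁻¹ = (k * b * k⁻¹) * (k * c * k⁻¹) := by group
    rw [h4, hk2, w.A_cent hc k hk, mul_inv_cancel_right] at h3
    exact h3
  have hbu' := w.A_comm h hb
  have huc' := w.comm huc
  have h3 : b * (b * u * c) = u * c := by
    calc b * (b * u * c) = (b * b) * u * c := by group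
      _ = u * c := by rw [w.sq b hbZ, one_mul]
  have h4 : b * u * c * b = u * c := by
    calc b * u * c * b = b * u * (c * b) := by group
      _ = b * (u * b) * c := by rw [← hbc]; group
      _ = (b * b) * u * c := by rw [← hbu']; group
      _ = u * c := by rw [w.sq b hbZ, one_mul]
  rw [w.ed_iff hbZ h2 ?_ (by rw [h3, h4]), h3]
  · exact w.prod u c huc
  · intro h5
    apply huc.ne
    have h6 : u * c = 1 := by
      have h7 : b * (u * c) = b * 1 := by rw [mul_one, ← mul_assoc]; exact h5.symm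
      exact mul_left_cancel h7
    rw [← w.inv hcZ]
    exact eq_inv_of_mul_eq_one_left h6

/-- **(d)** for `b ∈ A z`, `b ≠ 1`: `A b ⊆ {c, b u c : c ∈ A u}` -/
theorem A_sub (h : Ed Z K z u) (hb : b ∈ A Z K z) (hb1 : b ≠ 1) (hx : x ∈ A Z K b) :
    x ∈ A Z K u ∨ ∃ c ∈ A Z K u, x = b * u * c := by
  classical
  by_cases hbu : b = u
  · left; rwa [← hbu]
  have hbZ : b ∈ Z := (w.ed_of_mem hb hb1).right
  -- the map `c ↦ c` or `b u c`
  have hf : ∀ c ∈ A Z K u, c ∉ A Z K b → b * u * c ∈ A Z K b := by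
    intro c hc hcb
    have hc1 : c ≠ 1 := fun h1 => hcb (h1 ▸ one_mem _)
    exact mem_A_of (w.ed_buc h hb hb1 hbu hc hc1 (fun h2 => hcb (mem_A_of h2)))
  let f : A Z K u → A Z K b := fun c =>
    if h1 : (c : G) ∈ A Z K b then ⟨c, h1⟩ else ⟨b * u * c, hf c c.2 h1⟩
  have hf1 : ∀ c : A Z K u, (f c : G) = c ∨ (f c : G) = b * u * c := by
    intro c
    by_cases h1 : (c : G) ∈ A Z K b
    · left; simp only [f, dif_pos h1]
    · right; simp only [f, dif_neg h1]
  have hinj : Function.Injective f := by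
    have key : ∀ c d : A Z K u, (c : G) = b * u * d → False := by
      intro c d hcd
      have h1 : b * u = c * (d : G)⁻¹ := by rw [hcd]; group
      have h2 : b * u ∈ A Z K u := by rw [h1]; exact mul_mem c.2 (inv_mem d.2)
      have h3 := w.inf_A h (mul_mem hb (mem_A_of h)) h2
      apply hbu
      rw [← w.inv h.right]
      exact eq_inv_of_mul_eq_one_left h3
    intro c d hcd
    have h1 : (f c : G) = f d := by rw [hcd]
    rcases hf1 c with h2 | h2 <;> rcases hf1 d with h3 | h3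
    · rw [h2, h3] at h1
      exact Subtype.ext h1
    · rw [h2, h3] at h1
      exact (key c d h1).elim
    · rw [h2, h3] at h1
      exact (key d c h1.symm).elim
    · rw [h2, h3] at h1
      exact Subtype.ext (mul_left_cancel h1)
  have hsurj : Function.Surjective f := by
    haveI : Fintype (A Z K u) := Fintype.ofFinite _
    haveI : Fintype (A Z K b) := Fintype.ofFinite _
    refine (hinj.bijective_of_nat_card_le ?_).2
    exact (w.card_A hbZ h.right).le
  obtain ⟨c, hc⟩ := hsurj ⟨x, hx⟩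
  have h1 : (f c : G) = x := by rw [hc]
  rcases hf1 c with h2 | h2
  · left; rw [← h1, h2]; exact c.2
  · right; exact ⟨c, c.2, by rw [← h1, h2]⟩

theorem A_le_sup (h : Ed Z K z u) (hb : b ∈ A Z K z) (hb1 : b ≠ 1) : A Z K b ≤ A Z K z ⊔ A Z K u := by
  intro x hx
  rcases w.A_sub h hb hb1 hx with h1 | ⟨c, hc, rfl⟩
  · exact mem_sup_right h1
  · exact mul_mem (mem_sup_left (mul_mem hb (mem_A_of h))) (mem_sup_right hc)

/-- `C(z)` normalises `A z ⊔ A u` -/
theorem norm_sup (h : Ed Z K z u) (hg : g * z = z * g) (hx : x ∈ A Z K z ⊔ A Z K u) :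
    g * x * g⁻¹ ∈ A Z K z ⊔ A Z K u := by
  have h1 : A Z K z ⊔ A Z K u ≤ cj g⁻¹ (A Z K z ⊔ A Z K u) := by
    rw [sup_le_iff]
    constructor
    · intro y hy
      rw [mem_cj, inv_inv]
      exact mem_sup_left (w.A_norm hg hy)
    · intro y hy
      rw [mem_cj, inv_inv]
      have h2 : g * u * g⁻¹ ∈ A Z K z := w.A_norm hg (mem_A_of h)
      have h3 : g * u * g⁻¹ ≠ 1 := by
        intro h4
        exact w.ne u h.right (conj_eq_one_iff.1 h4)
      refine w.A_le_sup h h2 h3 ?_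
      rw [w.A_conj]
      exact conj_mem_cj hy
  have h2 := h1 hx
  rwa [mem_cj, inv_inv] at h2

theorem T_comm (h : Ed Z K z u) (hx : x ∈ A Z K z ⊔ A Z K u) (hy : y ∈ A Z K z ⊔ A Z K u) :
    x * y = y * x := by
  have key : ∀ {p : G}, (∀ b ∈ A Z K z, p * b = b * p) → (∀ c ∈ A Z K u, p * c = c * p) →
      ∀ q ∈ A Z K z ⊔ A Z K u, p * q = q * p := by
    intro p h1 h2 q hq
    have h3 : A Z K z ⊔ A Z K u ≤ centralizer {p} := by
      rw [sup_le_iff]
      exact ⟨fun b hb => mem_centralizer_singleton_iff.2 (h1 b hb).symm,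
        fun c hc => mem_centralizer_singleton_iff.2 (h2 c hc).symm⟩
    exact (mem_centralizer_singleton_iff.1 (h3 hq)).symm
  refine key ?_ ?_ y hy
  · intro b hb
    exact (key (fun b' hb' => w.A_abel hb hb') (fun c hc => w.comm_A h hb hc) x hx).symm
  · intro c hc
    exact (key (fun b hb => (w.comm_A h hb hc).symm) (fun c' hc' => w.A_abel hc hc') x hx).symm

/-! ### The valency is not 1 implies: valency at least 7 and everything is joined -/

/-- two elements `v`, `v'` of order 4 of `K z`, `v' ≠ v, v⁻¹`, generate `K z` -/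
theorem K_le (hz : z ∈ Z) {v v' : G} (hv : v ∈ K z) (hv' : v' ∈ K z) (h1 : v * v = z) (h2 : v' * v' = z)
    (h3 : v' ≠ v) (h4 : v' ≠ v⁻¹) {H : Subgroup G} (h5 : v ∈ H) (h6 : v' ∈ H) : K z ≤ H := by
  classical
  have hz1 : z ≠ 1 := w.ne z hz
  have hzz := w.sq z hz
  have hv1 : v ≠ 1 := by
    rintro rfl
    exact hz1 (by rw [← h1, one_mul])
  have hv1' : v' ≠ 1 := by
    rintro rfl
    exact hz1 (by rw [← h2, one_mul])
  have hvz : v ≠ z := by
    intro hh
    rw [hh, hzz] at h1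
    exact hz1 h1.symm
  have hvz' : v' ≠ z := by
    intro hh
    rw [hh, hzz] at h2
    exact hz1 h2.symm
  have hvi : v⁻¹ ≠ v := by
    intro hh
    apply hz1
    rw [← h1]
    exact mul_eq_one_iff_eq_inv.2 hh.symm
  have hvi1 : v⁻¹ ≠ 1 := inv_ne_one.2 hv1
  have hviz : v⁻¹ ≠ z := by
    intro hh
    apply hvz
    rw [← w.inv hz, ← hh, inv_inv]
  have h7 : ({1, z, v, v⁻¹, v'} : Finset G) ⊆ (Set.toFinite ((K z ⊓ H : Subgroup G) : Set G)).toFinset := by
    intro x hx
    rw [Set.Finite.mem_toFinset, SetLike.mem_coe]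
    simp only [Finset.mem_insert, Finset.mem_singleton] at hx
    rcases hx with rfl | rfl | rfl | rfl | rfl
    · exact one_mem _
    · exact ⟨w.mem _ hz, h1 ▸ mul_mem h5 h5⟩
    · exact mem_inf.2 ⟨hv, h5⟩
    · exact mem_inf.2 ⟨inv_mem hv, inv_mem h5⟩
    · exact mem_inf.2 ⟨hv', h6⟩
  have h8 : ({1, z, v, v⁻¹, v'} : Finset G).card = 5 := by
    rw [Finset.card_insert_of_notMem, Finset.card_insert_of_notMem, Finset.card_insert_of_notMem,
      Finset.card_insert_of_notMem, Finset.card_singleton]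
    · simp only [Finset.mem_singleton]; exact h4.symm
    · simp only [Finset.mem_insert, Finset.mem_singleton, not_or]; exact ⟨hvi.symm, h3.symm⟩
    · simp only [Finset.mem_insert, Finset.mem_singleton, not_or]; exact ⟨hvz.symm, hviz.symm, hvz'.symm⟩
    · simp only [Finset.mem_insert, Finset.mem_singleton, not_or]
      exact ⟨hz1.symm, hv1.symm, hvi1.symm, hv1'.symm⟩
  have h9 := Finset.card_le_card h7
  rw [h8, ← Nat.card_eq_card_finite_toFinset] at h9
  have h10 : Nat.card (K z ⊓ H : Subgroup G) ∣ 8 := by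
    rw [← w.card z hz]
    exact card_dvd_of_le inf_le_left
  have h11 : Nat.card (K z ⊓ H : Subgroup G) = 8 := by
    have h12 : 5 ≤ Nat.card (K z ⊓ H : Subgroup G) := h9
    have h13 := Nat.le_of_dvd (by norm_num) h10
    interval_cases Nat.card (K z ⊓ H : Subgroup G) <;> omega
  have h12 : K z ⊓ H = K z := eq_of_le_of_card_ge inf_le_left (by rw [h11, w.card z hz])
  rw [← h12]
  exact inf_le_right

/-- **(e)** if `A u ≠ ⟨z⟩` then no element of order 4 of `K z` centralises `A u` -/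
theorem exists_not_comm (h : Ed Z K z u) (hc : c ∈ A Z K u) (hc1 : c ≠ 1) (hcz : c ≠ z) {v : G}
    (hv : v ∈ K z) (hvv : v * v = z) : ∃ d ∈ A Z K u, v * d ≠ d * v := by
  by_contra hcon
  push Not at hcon
  have hz := h.left
  obtain ⟨g, hgz, hg1, hg2⟩ := w.c3 z hz v hv hvv
  obtain ⟨k, hk, -, hk2⟩ := w.exists_move_A h.symm hc hc1 hcz
  -- `g v g⁻¹` commutes with `c`
  have hvA : ∀ x ∈ A Z K z ⊔ A Z K u, v * x = x * v := by
    intro x hx
    have h3 : A Z K z ⊔ A Z K u ≤ centralizer {v} := by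
      rw [sup_le_iff]
      exact ⟨fun b hb => mem_centralizer_singleton_iff.2 (w.A_cent hb v hv).symm,
        fun d hd => mem_centralizer_singleton_iff.2 (hcon d hd).symm⟩
    exact (mem_centralizer_singleton_iff.1 (h3 hx)).symm
  have hv' : g * v * g⁻¹ ∈ K z := w.norm hz hgz hv
  have hvv' : g * v * g⁻¹ * (g * v * g⁻¹) = z := by
    calc g * v * g⁻¹ * (g * v * g⁻¹) = g * (v * v) * g⁻¹ := by group
      _ = z := by rw [hvv, hgz, mul_inv_cancel_right]
  have hgi : g⁻¹ * z = z * g⁻¹ := by rw [inv_mul_eq_iff_eq_mul, ← mul_assoc, hgz, mul_inv_cancel_right]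
  have hcomm : c * (g * v * g⁻¹) = g * v * g⁻¹ * c := by
    have h3 : g⁻¹ * c * g ∈ A Z K z ⊔ A Z K u := by
      have := w.norm_sup h hgi (mem_sup_right hc)
      rwa [inv_inv] at this
    have h4 := hvA _ h3
    calc c * (g * v * g⁻¹) = g * ((g⁻¹ * c * g) * v) * g⁻¹ := by group
      _ = g * (v * (g⁻¹ * c * g)) * g⁻¹ := by rw [h4]
      _ = _ := by group
  have h5 : K z ≤ centralizer {c} := by
    refine w.K_le hz hv hv' hvv hvv' hg1 hg2 ?_ ?_
    · rw [mem_centralizer_singleton_iff]; exact hcon c hc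
    · rw [mem_centralizer_singleton_iff]; exact hcomm.symm
  have h6 := mem_centralizer_singleton_iff.1 (h5 hk)
  rw [h6, mul_inv_cancel_right] at hk2
  exact w.ne z hz (left_eq_mul.1 hk2)

/-- if `A u ≠ ⟨z⟩`: for `c ∈ A u` there is `d ∈ A u` outside `⟨z, c⟩` -/
theorem exists_indep (h : Ed Z K z u) (hc : c ∈ A Z K u) (hc1 : c ≠ 1) (hcz : c ≠ z) :
    ∃ d ∈ A Z K u, d ≠ 1 ∧ d ≠ z ∧ d ≠ c ∧ d ≠ c * z := by
  have hz := h.left
  -- an element `v ∈ K z` of order 4 commuting with `c`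
  obtain ⟨v, hv, hvv, hvc⟩ : ∃ v ∈ K z, v * v = z ∧ v * c = c * v := by
    obtain ⟨k, hk, hkk, hk2⟩ := w.exists_move_A h.symm hc hc1 hcz
    -- an element `l` of `K z` outside `⟨k⟩`
    obtain ⟨g, hgz, hg1, hg2⟩ := w.c3 z hz k hk hkk
    set l := g * k * g⁻¹ with hl
    have hlK : l ∈ K z := w.norm hz hgz hk
    have hll : l * l = z := by
      rw [hl]
      calc g * k * g⁻¹ * (g * k * g⁻¹) = g * (k * k) * g⁻¹ := by group
        _ = z := by rw [hkk, hgz, mul_inv_cancel_right]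
    have hc1' : ∀ {p : G}, p * c * p⁻¹ = c → p * c = c * p := fun hp => mul_inv_eq_iff_eq_mul.1 hp
    rcases w.K_move h.symm hc hlK with h1 | h1
    · exact ⟨l, hlK, hll, hc1' h1⟩
    · have hkl : k * l ∈ K z := mul_mem hk hlK
      refine ⟨k * l, hkl, w.four z hz _ hkl ?_ ?_, hc1' ?_⟩
      · intro h2
        exact hg2 (eq_inv_of_mul_eq_one_right h2)
      · intro h2
        apply hg1
        rw [← hkk] at h2
        exact mul_left_cancel h2
      · have hkz : k * z = z * k := w.commz hz hk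
        calc k * l * c * (k * l)⁻¹ = k * (l * c * l⁻¹) * k⁻¹ := by group
          _ = k * (c * z) * k⁻¹ := by rw [h1]
          _ = (k * c * k⁻¹) * (k * z * k⁻¹) := by group
          _ = c * z * z := by rw [hk2, hkz, mul_inv_cancel_right]
          _ = c := by rw [mul_assoc, w.sq z hz, mul_one]
  obtain ⟨d, hd, hvd⟩ := w.exists_not_comm h hc hc1 hcz hv hvv
  refine ⟨d, hd, ?_, ?_, ?_, ?_⟩
  · rintro rfl
    exact hvd (by rw [mul_one, one_mul])
  · rintro rfl
    exact hvd (w.commz hz hv)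
  · rintro rfl
    exact hvd hvc
  · rintro rfl
    apply hvd
    rw [← mul_assoc, hvc, mul_assoc, w.commz hz hv, mul_assoc]

/-- **(d), the end**: if `A z ≠ ⟨u⟩`, then `(b, c)` is an edge for all `1 ≠ b ∈ A z`, `1 ≠ c ∈ A u` -/
theorem full_aux (h : Ed Z K z u) (hb : b ∈ A Z K z) (hb1 : b ≠ 1) (hbu : b ≠ u) (hc : c ∈ A Z K u)
    (hc1 : c ≠ 1) (hcz : c ≠ z) : Ed Z K b c := by
  have hz := h.left
  have hu := h.right
  -- two nonedges `(b, c)`, `(b', c)`: then `(b b', c)` is an edge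
  have sym : ∀ b b', b ∈ A Z K z → b ≠ 1 → b ≠ u → b' ∈ A Z K z → b' ≠ 1 → b' ≠ u → b ≠ b' →
      ¬ Ed Z K b c → ¬ Ed Z K b' c → Ed Z K (b * b') c := by
    intro b b' hb hb1 hbu hb' hb1' hbu' hne h1 h2
    have h3 := w.ed_buc h.symm hc hc1 hcz hb hb1 (fun h4 => h1 h4.symm)
    have h4 := w.ed_buc h.symm hc hc1 hcz hb' hb1' (fun h4 => h2 h4.symm)
    have h5 : (c * z * b) * (c * z * b') = b * b' := by
      have hcZ : c ∈ Z := (w.ed_of_mem hc hc1).right
      have h6 : b * c = c * b := w.comm_A h hb hc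
      have h7 : z * b = b * z := w.comm (w.ed_of_mem hb hb1)
      have h8 : c * z = z * c := w.A_comm h.symm hc
      calc (c * z * b) * (c * z * b') = c * z * (b * c) * z * b' := by group
        _ = c * (z * c) * (b * z) * b' := by rw [h6]; group
        _ = c * (c * z) * (z * b) * b' := by rw [h8, h7]
        _ = (c * c) * (z * z) * b * b' := by group
        _ = b * b' := by rw [w.sq c hcZ, w.sq z hz, one_mul, one_mul]
    have h6 : Ed Z K c (b * b') := by
      rw [← h5]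
      refine w.ed_mul h3 h4 ?_
      intro h7
      exact hne (mul_left_cancel h7)
    exact h6.symm
  -- two nonedges `(b, c)`, `(b', c)` with `b' ∉ ⟨b, u⟩`: contradiction
  have two : ∀ b b', b ∈ A Z K z → b ≠ 1 → b ≠ u → b' ∈ A Z K z → b' ≠ 1 → b' ≠ u → b' ≠ b → b' ≠ b * u →
      ¬ Ed Z K b c → ¬ Ed Z K b' c → False := by
    intro b b' hb hb1 hbu hb' hb1' hbu' hne hne2 h1 h2
    have h3 := sym b b' hb hb1 hbu hb' hb1' hbu' hne.symm h1 h2
    have hbZ : b ∈ Z := (w.ed_of_mem hb hb1).right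
    have hbZ' : b' ∈ Z := (w.ed_of_mem hb' hb1').right
    have hcZ : c ∈ Z := (w.ed_of_mem hc hc1).right
    have hb'c := w.comm_A h hb' hc
    have hbc := w.comm_A h hb hc
    have hbb' := w.A_abel hb hb'
    -- `b' c ∈ Z`
    have h4 : b' * c ∈ Z := w.mul_mem_Z hbZ' hcZ (by
      rintro rfl
      exact hb1' (w.inf_A h hb' hc)) hb'c h2
    -- `(b, b' c)` is an edge
    have h5 : b * (b' * c) ∉ Z := by
      rw [← mul_assoc]
      exact w.prod _ _ h3
    have h6 : Ed Z K b (b' * c) := by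
      rw [w.ed_iff hbZ h4 ?_ ?_]
      · exact h5
      · intro h7
        have h8 : c ∈ A Z K z := by
          have h9 : c = b'⁻¹ * b := by rw [h7]; group
          rw [h9]
          exact mul_mem (inv_mem hb') hb
        exact hc1 (w.inf_A h h8 hc)
      · calc b * (b' * c) = (b * b') * c := by group
          _ = b' * (b * c) := by rw [hbb']; group
          _ = b' * c * b := by rw [hbc]; group
    rcases w.A_sub h hb hb1 (mem_A_of h6) with h7 | ⟨d, hd, h7⟩
    · have h8 : b' ∈ A Z K u := by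
        have h9 : b' = (b' * c) * c⁻¹ := by group
        rw [h9]
        exact mul_mem h7 (inv_mem hc)
      exact hb1' (w.inf_A h hb' h8)
    · have h8 : (b * u)⁻¹ * b' = d * c⁻¹ := by
        have h9 : b' = b * u * d * c⁻¹ := by rw [← h7]; group
        rw [h9]; group
      have h9 : (b * u)⁻¹ * b' ∈ A Z K z := mul_mem (inv_mem (mul_mem hb (mem_A_of h))) hb'
      have h10 : (b * u)⁻¹ * b' ∈ A Z K u := by
        rw [h8]
        exact mul_mem hd (inv_mem hc)
      have h11 := w.inf_A h h9 h10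
      exact hne2 (inv_mul_eq_one.1 h11).symm
  by_contra hcon
  obtain ⟨b', hb', hb1', hbu', hbb', hbb2'⟩ := w.exists_indep h.symm hb hb1 hbu
  by_cases h1 : Ed Z K b' c
  · -- then `(b b', c)` is not an edge
    have h2 : ¬ Ed Z K (b * b') c := by
      intro h3
      have h4 : Ed Z K c ((b * b') * b') := by
        refine w.ed_mul h3.symm h1.symm ?_
        intro h5
        exact hb1 (mul_eq_right.1 h5)
      rw [mul_assoc, w.A_sq hb', mul_one] at h4
      exact hcon h4.symm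
    refine two b (b * b') hb hb1 hbu (mul_mem hb hb') ?_ ?_ ?_ ?_ hcon h2
    · intro h3
      apply hbb'
      rw [← w.A_inv hb]
      exact eq_inv_of_mul_eq_one_right h3
    · intro h3
      apply hbb2'
      rw [← h3, ← mul_assoc, w.A_sq hb, one_mul]
    · intro h3
      exact hb1' (mul_eq_left.1 h3)
    · intro h3
      exact hbu' (mul_left_cancel h3)
  · exact two b b' hb hb1 hbu hb' hb1' hbu' hbb' hbb2' hcon h1

/-- **(d), the end**: if `A z ≠ ⟨u⟩`, then `(b, c)` is an edge for all `1 ≠ b ∈ A z`, `1 ≠ c ∈ A u` -/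
theorem full (h : Ed Z K z u) (hb : b ∈ A Z K z) (hb1 : b ≠ 1) (hc : c ∈ A Z K u) (hc1 : c ≠ 1) :
    Ed Z K b c := by
  by_cases hbu : b = u
  · rw [hbu]
    exact w.ed_of_mem hc hc1
  by_cases hcz : c = z
  · rw [hcz]
    exact (w.ed_of_mem hb hb1).symm
  exact w.full_aux h hb hb1 hbu hc hc1 hcz

end W

end Cfsg.Agent.Cit.Nil.MTwo
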