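import Cfsg.Agent.Cit.Nil.ROne.MTwoMid
import Cfsg.Agent.TwoFusion.StronglyEmbeddedBasic
import Cfsg.Agent.Cit.LemmaB
import Cfsg.Prelude.Def_TwoFusion

/-!
# (6b), r = 1, m = 2, nil world: the end (helper454, bb #12195 (i))

`W.false_of` : the world `W Z K` does not exist in a group `G` with a simple non-abelian normal subgroup `X`,
`C(X) = 1`, `Z ⊆ X`, `O(G) = 1`, `O(C(z u)) = 1` for all edges `(z, u)`.  `Str X` is the text of S1174 for `X`.
-/

set_option autoImplicit false
set_option linter.style.haveILetI false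
set_option linter.unusedSectionVars false

namespace Cfsg.Agent.Cit.Nil.MTwo

open Subgroup Cfsg Cit OneBasic

variable {G : Type*} [Group G] {Z : Set G} {K : G → Subgroup G} {z u v a b c x y g e t : G}

/-- the text of S1174 for the group `X` -/
def Str (X : Type*) [Group X] [Finite X] : Prop := ∀ (S : Sylow 2 X) (T : Subgroup X), T ≠ ⊥ →
  IsStronglyClosed T (S : Subgroup X) →
  (⨆ t : {t : X // t ∈ T ∧ orderOf t = 2}, centralizer ({(t : X)} : Set X)) ≠ ⊤ →
  ∃ H : Subgroup X, IsStronglyEmbedded H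

namespace W

variable (w : W Z K) [Finite G]

include w

/-- an element moving an element of `Z ∩ T` into `T` is in `M` -/
theorem mem_M_of (h : Ed Z K z u) (ha : a ∈ A Z K z ⊔ A Z K u) (haZ : a ∈ Z)
    (ha' : g⁻¹ * a * g ∈ A Z K z ⊔ A Z K u) :
    g ∈ normalizer ((A Z K z ⊔ A Z K u : Subgroup G) : Set G) := by
  have haZ' : g⁻¹ * a * g ∈ Z := by
    have := w.conj a haZ g⁻¹
    rwa [inv_inv] at this
  have h1 : cj g (A Z K (g⁻¹ * a * g)) = A Z K a := by
    rw [← w.A_conj]
    congr 1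
    group
  have hz1 : g * z * g⁻¹ ≠ 1 := w.ne _ (w.conj z h.left g)
  have hu1 : g * u * g⁻¹ ≠ 1 := w.ne _ (w.conj u h.right g)
  refine w.M_of_cases ?_
  rcases w.mem_T h ha haZ with h2 | h2
  · have h3 : A Z K a = A Z K u := w.A_eq h h2 (w.ne a haZ)
    rcases w.mem_T h ha' haZ' with h4 | h4
    · left
      rw [h3, w.A_eq h h4 (w.ne _ haZ')] at h1
      refine ⟨?_, h1⟩
      rw [← w.A_conj]
      refine w.A_eq h.symm ?_ hz1
      rw [← h1]
      exact conj_mem_cj (mem_A_of h.symm)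
    · right
      rw [h3, w.A_eq h.symm h4 (w.ne _ haZ')] at h1
      refine ⟨h1, ?_⟩
      rw [← w.A_conj]
      refine w.A_eq h.symm ?_ hu1
      rw [← h1]
      exact conj_mem_cj (mem_A_of h)
  · have h3 : A Z K a = A Z K z := w.A_eq h.symm h2 (w.ne a haZ)
    rcases w.mem_T h ha' haZ' with h4 | h4
    · right
      rw [h3, w.A_eq h h4 (w.ne _ haZ')] at h1
      refine ⟨?_, h1⟩
      rw [← w.A_conj]
      refine w.A_eq h ?_ hz1
      rw [← h1]
      exact conj_mem_cj (mem_A_of h.symm)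
    · left
      rw [h3, w.A_eq h.symm h4 (w.ne _ haZ')] at h1
      refine ⟨h1, ?_⟩
      rw [← w.A_conj]
      refine w.A_eq h ?_ hu1
      rw [← h1]
      exact conj_mem_cj (mem_A_of h)

/-- **(i)** `T = U V` is strongly closed in `M` -/
theorem closed (h : Ed Z K z u) (h5 : 5 ≤ Nat.card (A Z K z))
    (hO : ∀ z u, Ed Z K z u → oddCore (centralizer {z * u}) = ⊥)
    (hx : x ∈ A Z K z ⊔ A Z K u)
    (hy : g * x * g⁻¹ ∈ normalizer ((A Z K z ⊔ A Z K u : Subgroup G) : Set G)) :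
    g * x * g⁻¹ ∈ A Z K z ⊔ A Z K u := by
  by_cases hxZ : x ∈ Z
  · exact w.mem_T_of_M h h5 (w.conj x hxZ g) hy
  -- it is enough that `g ∈ M`
  have hend : g ∈ normalizer ((A Z K z ⊔ A Z K u : Subgroup G) : Set G) →
      g * x * g⁻¹ ∈ A Z K z ⊔ A Z K u := fun h1 => (mem_normalizer_iff.1 h1 x).1 hx
  obtain ⟨b, hb, c, hc, rfl⟩ := w.exists_mul h hx
  by_cases hb1 : b = 1
  · by_cases hc1 : c = 1
    · rw [hb1, hc1, one_mul, mul_one, mul_inv_cancel]
      exact one_mem _
    · exfalso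
      apply hxZ
      rw [hb1, one_mul]
      exact (w.ed_of_mem hc hc1).right
  by_cases hc1 : c = 1
  · exfalso
    apply hxZ
    rw [hc1, mul_one]
    exact (w.ed_of_mem hb hb1).right
  have hE := w.full h hb hb1 hc hc1
  set y := g * (b * c) * g⁻¹ with hydef
  have hyy : y * y = 1 := by
    rw [hydef]
    calc g * (b * c) * g⁻¹ * (g * (b * c) * g⁻¹) = g * ((b * c) * (b * c)) * g⁻¹ := by group
      _ = 1 := by rw [w.prod_sq hE, mul_one, mul_inv_cancel]
  have hyi : y⁻¹ = y := inv_eq_of_mul_eq_one_right hyy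
  -- centralisers
  have hcent : ∀ s : G, s * y = y * s → (g⁻¹ * s * g) * (b * c) = (b * c) * (g⁻¹ * s * g) := by
    intro s hs
    calc (g⁻¹ * s * g) * (b * c) = g⁻¹ * (s * y) * g := by rw [hydef]; group
      _ = g⁻¹ * (y * s) * g := by rw [hs]
      _ = _ := by rw [hydef]; group
  apply hend
  rcases w.M_cases h hy with ⟨h1, -⟩ | ⟨h1, -⟩
  · obtain ⟨a, ha, -, -, ha1, -, -, hya, -⟩ := w.exists_two_fix (fun a ha => w.A_sq ha)
      (fun a ha b hb => w.A_abel ha hb) h5 hyy h1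
    have haZ := (w.ed_of_mem ha ha1).right
    have h2 := w.cent_prod_le h h5 hb hb1 hc hc1 (hO _ _ hE) (hcent a hya.symm)
    have h3 : g⁻¹ * a * g ∈ Z := by
      have := w.conj a haZ g⁻¹
      rwa [inv_inv] at this
    exact w.mem_M_of h (mem_sup_left ha) haZ (w.mem_T_of_M h h5 h3 h2)
  · have hu := mem_A_of h
    have huV : y * u * y⁻¹ ∈ A Z K u := h1 ▸ conj_mem_cj hu
    have hu1 := w.ne u h.right
    have hu1' : y * u * y⁻¹ ≠ 1 := fun h2 => hu1 (conj_eq_one_iff.1 h2)
    have hE' := w.full h hu hu1 huV hu1'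
    obtain ⟨k, hk, hkk⟩ := w.exists_four h.right
    have hk' : y * k * y⁻¹ ∈ K (y * u * y⁻¹) := by
      rw [w.conjK u h.right]
      exact conj_mem_cj hk
    have hkk' : (y * k * y⁻¹) * (y * k * y⁻¹) = y * u * y⁻¹ := by rw [← hkk]; group
    have hkc := hE'.2.2.2 k hk _ hk'
    set k' := y * k * y⁻¹ with hk'def
    have ht2 : (k * k') * (k * k') = u * (y * u * y⁻¹) := by
      calc (k * k') * (k * k') = k * (k' * k) * k' := by simp only [mul_assoc]
        _ = (k * k) * (k' * k') := by rw [← hkc]; simp only [mul_assoc]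
        _ = _ := by rw [hkk, hkk']
    have hyk : y * k = k' * y := by rw [hk'def]; group
    have hyk' : y * k' = k * y := by
      rw [hk'def, hyi]
      calc y * (y * k * y) = (y * y) * k * y := by group
        _ = k * y := by rw [hyy, one_mul]
    have hty : (k * k') * y = y * (k * k') := by
      calc (k * k') * y = (k' * k) * y := by rw [hkc]
        _ = k' * (y * k') := by rw [hyk']; simp only [mul_assoc]
        _ = (y * k) * k' := by rw [hyk]; simp only [mul_assoc]
        _ = _ := by simp only [mul_assoc]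
    have h2 := w.cent_prod h h5 hb hb1 hc hc1 (hO _ _ hE) (hcent _ hty)
    set t := g⁻¹ * (k * k') * g with ht
    -- `t²` commutes with `b`
    have h3 : (t * t) * b = b * (t * t) := by
      rcases h2 with ⟨h3, -⟩ | ⟨h3, h4⟩
      · have h6 := mul_inv_eq_iff_eq_mul.1 h3
        rw [mul_assoc, h6, ← mul_assoc, h6, mul_assoc]
      · have h6 := mul_inv_eq_iff_eq_mul.1 h3
        have h7 := mul_inv_eq_iff_eq_mul.1 h4
        rw [mul_assoc, h6, ← mul_assoc, h7, mul_assoc]
    have h4 : t * t = g⁻¹ * (u * (y * u * y⁻¹)) * g := by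
      rw [← ht2, ht]; group
    rw [h4] at h3
    -- `g b g⁻¹` commutes with `u u^y`
    have h6 : (g * b * g⁻¹) * (u * (y * u * y⁻¹)) = u * (y * u * y⁻¹) * (g * b * g⁻¹) := by
      calc (g * b * g⁻¹) * (u * (y * u * y⁻¹)) = g * (b * (g⁻¹ * (u * (y * u * y⁻¹)) * g)) * g⁻¹ := by
            simp only [mul_assoc, mul_inv_cancel, mul_one]
        _ = g * (g⁻¹ * (u * (y * u * y⁻¹)) * g * b) * g⁻¹ := by rw [h3]
        _ = _ := by simp only [mul_assoc, mul_inv_cancel_left]
    have h7 := w.cent_prod_le h h5 hu hu1 huV hu1' (hO _ _ hE') h6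
    have hbZ := hE.left
    have h8 := w.mem_T_of_M h h5 (w.conj b hbZ g) h7
    refine w.mem_M_of h h8 (w.conj b hbZ g) ?_
    have h9 : g⁻¹ * (g * b * g⁻¹) * g = b := by group
    rw [h9]
    exact mem_sup_left hb

/-- the centralisers of the elements of `T` are in `M` -/
theorem cent_T (h : Ed Z K z u) (h5 : 5 ≤ Nat.card (A Z K z))
    (hO : ∀ z u, Ed Z K z u → oddCore (centralizer {z * u}) = ⊥)
    (hx : x ∈ A Z K z ⊔ A Z K u) (hx1 : x ≠ 1) (hg : g * x = x * g) :
    g ∈ normalizer ((A Z K z ⊔ A Z K u : Subgroup G) : Set G) := by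
  by_cases hxZ : x ∈ Z
  · exact w.cent_le' h hx hxZ hg
  obtain ⟨b, hb, c, hc, rfl⟩ := w.exists_mul h hx
  by_cases hb1 : b = 1
  · by_cases hc1 : c = 1
    · exfalso
      apply hx1
      rw [hb1, hc1, one_mul]
    · exfalso
      apply hxZ
      rw [hb1, one_mul]
      exact (w.ed_of_mem hc hc1).right
  by_cases hc1 : c = 1
  · exfalso
    apply hxZ
    rw [hc1, mul_one]
    exact (w.ed_of_mem hb hb1).right
  exact w.cent_prod_le h h5 hb hb1 hc hc1 (hO _ _ (w.full h hb hb1 hc hc1)) hg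

/-- **#12195**: r = 1, m = 2, nil: contradiction -/
theorem false_of (hne : Z.Nonempty) {X : Subgroup G} (hX : X.Normal) (hs : IsSimpleGroup X)
    (hna : ¬ IsMulCommutative X) (hC : centralizer (X : Set G) = ⊥) (hZX : ∀ z ∈ Z, z ∈ X) (hstr : Str X)
    (hG : oddCore G = ⊥) (hO : ∀ z u, Ed Z K z u → oddCore (centralizer {z * u}) = ⊥) : False := by
  haveI : Fact (Nat.Prime 2) := ⟨Nat.prime_two⟩
  by_cases hv : Val Z K
  · obtain ⟨z, hz⟩ := hne
    obtain ⟨u, h⟩ := w.ex z hz
    have h1 := w.central_of_val hv h hG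
    have h2 : z * u ∈ centralizer (X : Set G) := by
      rw [mem_centralizer_iff]
      intro x _
      exact mem_center_iff.1 h1 x
    rw [hC, mem_bot] at h2
    exact w.prod_ne h h2
  obtain ⟨z, u, v, h, hvE, huv⟩ : ∃ z u v, Ed Z K z u ∧ Ed Z K z v ∧ u ≠ v := by
    by_contra hcon
    push Not at hcon
    exact hv hcon
  have h5 := w.five_le h (mem_A_of hvE) (w.ne v hvE.right) huv.symm
  set T := A Z K z ⊔ A Z K u with hT
  have hzT : z ∈ T := mem_sup_right (mem_A_of h.symm)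
  have huT : u ∈ T := mem_sup_left (mem_A_of h)
  have hTX : T ≤ X := by
    rw [hT, sup_le_iff]
    constructor
    · intro b hb
      by_cases hb1 : b = 1
      · rw [hb1]; exact one_mem _
      · exact hZX b (w.ed_of_mem hb hb1).right
    · intro b hb
      by_cases hb1 : b = 1
      · rw [hb1]; exact one_mem _
      · exact hZX b (w.ed_of_mem hb hb1).right
  have hT2 : IsPGroup 2 T := by
    intro x
    refine ⟨1, Subtype.ext ?_⟩
    rw [pow_one, pow_two]
    exact w.T_sq h x.2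
  obtain ⟨S, -, -, hS⟩ := w.syl z u h
  have hSM : (S : Subgroup G) ≤ normalizer (T : Set G) := by
    intro s hs
    refine w.M_of_cases ?_
    rcases hS s hs with ⟨h1, h2⟩ | ⟨h1, h2⟩
    · left; rw [← w.A_conj, ← w.A_conj, h1, h2]; exact ⟨rfl, rfl⟩
    · right; rw [← w.A_conj, ← w.A_conj, h1, h2]; exact ⟨rfl, rfl⟩
  have hSt : Syl (S : Subgroup G) ⊤ := by
    refine ⟨le_top, S.isPGroup', ?_⟩
    rw [relIndex_top_right]
    exact S.not_dvd_index
  have hTS : T ≤ S := OneBasic.syl_le_of_normalizes hSt hT2 le_top hSM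
  have hSX : Syl ((S : Subgroup G) ⊓ X) X := LB.syl_inf_normal hSt le_top (by rw [normalizer_eq_top_iff.2 hX])
  obtain ⟨P, hP⟩ := hSX.exists_sylow
  have hPmem : ∀ x : X, x ∈ P ↔ (x : G) ∈ S := by
    intro x
    have h1 : x ∈ (P : Subgroup X) ↔ (x : G) ∈ S := by
      rw [hP, mem_subgroupOf, mem_inf]
      exact ⟨fun h => h.1, fun h => ⟨h, x.2⟩⟩
    exact h1
  have hTne : T.subgroupOf X ≠ ⊥ := by
    intro h1
    have h2 : (⟨z, hTX hzT⟩ : X) ∈ T.subgroupOf X := mem_subgroupOf.2 hzT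
    rw [h1, mem_bot] at h2
    exact w.ne z h.left (congrArg Subtype.val h2)
  have hsc : IsStronglyClosed (T.subgroupOf X) (P : Subgroup X) := by
    refine ⟨?_, ?_⟩
    · intro x hx
      exact (hPmem x).2 (hTS (mem_subgroupOf.1 hx))
    · intro x hx g hg
      have h1 := hSM ((hPmem _).1 hg)
      exact mem_subgroupOf.2 (w.closed h h5 hO (mem_subgroupOf.1 hx) h1)
  obtain ⟨H, hH⟩ := hstr P (T.subgroupOf X) hTne hsc (by
    intro htop
    have h1 : (⊤ : Subgroup X) ≤ (normalizer (T : Set G)).subgroupOf X := by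
      rw [← htop, iSup_le_iff]
      rintro ⟨t, ht, ht2⟩ g hg
      rw [mem_subgroupOf]
      refine w.cent_T h h5 hO (mem_subgroupOf.1 ht) ?_ (congrArg Subtype.val (mem_centralizer_singleton_iff.1 hg))
      intro h2
      have h3 : t = 1 := Subtype.ext h2
      rw [h3, orderOf_one] at ht2
      omega
    have h2 : (T.subgroupOf X).Normal := by
      refine ⟨fun n hn g => ?_⟩
      have h3 := mem_subgroupOf.1 (h1 (mem_top g))
      exact mem_subgroupOf.2 ((mem_normalizer_iff.1 h3 _).1 (mem_subgroupOf.1 hn))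
    rcases hs.eq_bot_or_eq_top_of_normal _ h2 with h3 | h3
    · exact hTne h3
    · apply hna
      refine ⟨⟨fun x y => ?_⟩⟩
      have h4 : x ∈ T.subgroupOf X := h3 ▸ mem_top x
      have h6 : y ∈ T.subgroupOf X := h3 ▸ mem_top y
      exact Subtype.ext (w.T_comm h (mem_subgroupOf.1 h4) (mem_subgroupOf.1 h6)))
  have hzu : z * u ∈ X := X.mul_mem (hTX hzT) (hTX huT)
  have h6 := TwoFusion.StronglyEmbeddedBasic.isConj_of_involutions hH (⟨z, hTX hzT⟩ : X) ⟨z * u, hzu⟩
    (by rw [Subgroup.orderOf_mk]; exact orderOf_eq_prime (by rw [pow_two]; exact w.sq z h.left) (w.ne z h.left))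
    (by rw [Subgroup.orderOf_mk]; exact orderOf_eq_prime (by rw [pow_two]; exact w.prod_sq h) (w.prod_ne h))
  obtain ⟨k, hk⟩ := isConj_iff.1 h6
  have h7 : (k : G) * z * (k : G)⁻¹ = z * u := congrArg Subtype.val hk
  apply w.prod z u h
  rw [← h7]
  exact w.conj z h.left k

end W

end Cfsg.Agent.Cit.Nil.MTwo
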