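import Cfsg.Agent.Cit.Nil.ROne.MTwoOne
import Cfsg.Agent.TwoFusion.QuatQuotient

/-!
# (6b), r = 1, m = 2, nil world: valency at least 7 (helper454, bb #12195 (g), (h))

`U = A z`, `V = A u` for an edge `(z, u)`, `T = U ⊔ V`, `M = N(T)`.

* `W.A_eq` : `A b = V` for `1 ≠ b ∈ U`;
* `W.mem_T` : `Z ∩ T = U# ∪ V#`;
* `W.M_cases` : `M` permutes `{U, V}`;
* `W.cent_le` : `C(b) ≤ M` for `1 ≠ b ∈ U`;
* `W.mem_T_of_M` : `Z ∩ M ⊆ T` (g);
* `W.cent_prod` : `C(b c)` permutes `{b, c}` and lies in `M` (h).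
-/

set_option autoImplicit false
set_option linter.style.haveILetI false
set_option linter.unusedSectionVars false

namespace Cfsg.Agent.Cit.Nil.MTwo

open Subgroup Cfsg Cit OneBasic

variable {G : Type*} [Group G] {Z : Set G} {K : G → Subgroup G} {z u v b c x y g e t : G}

/-- an involution `b` which commutes modulo the central involution `e` only with its conjugates `b`, `b e` is
central modulo `⟨e⟩` -/
theorem iso_mod {X : Type*} [Group X] [Finite X] (hO : oddCore X = ⊥) {e b : X} (he : e ∈ center X)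
    (he2 : orderOf e = 2) (hb : b * b = 1) (hb1 : b ≠ 1) (hbe : b ≠ e)
    (hiso : ∀ g : X, (g * b * g⁻¹ * b = b * (g * b * g⁻¹) ∨ g * b * g⁻¹ * b = b * (g * b * g⁻¹) * e) →
      g * b * g⁻¹ = b ∨ g * b * g⁻¹ = b * e) (g : X) : g * b * g⁻¹ = b ∨ g * b * g⁻¹ = b * e := by
  haveI hN : (zpowers e).Normal := by
    refine ⟨fun n hn g => ?_⟩
    obtain ⟨k, rfl⟩ := hn
    have h1 : g * e ^ k * g⁻¹ = e ^ k := by
      have h2 : Commute g e := (mem_center_iff.1 he g)
      rw [(h2.zpow_right k).eq, mul_inv_cancel_right]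
    change g * e ^ k * g⁻¹ ∈ zpowers e
    rw [h1]
    exact ⟨k, rfl⟩
  have hee : e * e = 1 := by rw [← pow_two, ← he2, pow_orderOf_eq_one]
  have hei : e⁻¹ = e := inv_eq_of_mul_eq_one_right hee
  have hz : ∀ x : X, x ∈ zpowers e → x = 1 ∨ x = e := by
    rintro x ⟨k, rfl⟩
    rcases Int.even_or_odd' k with ⟨m, rfl | rfl⟩
    · left
      change e ^ (2 * m) = 1
      rw [zpow_mul]
      norm_num
      rw [pow_two, hee, one_zpow]
    · right
      change e ^ (2 * m + 1) = e
      rw [zpow_add, zpow_mul]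
      norm_num
      rw [pow_two, hee, one_zpow]
  have hq := TwoFusion.QuatQuotient.oddCore_quotient_eq_bot hO e he he2
  have hb' : IsIsolatedInvolution (QuotientGroup.mk b : X ⧸ zpowers e) := by
    refine ⟨orderOf_eq_prime ?_ ?_, ?_⟩
    · rw [pow_two, ← QuotientGroup.mk_mul, hb, QuotientGroup.mk_one]
    · intro h1
      rw [QuotientGroup.eq_one_iff] at h1
      rcases hz b h1 with h2 | h2
      · exact hb1 h2
      · exact hbe h2
    · intro g'
      obtain ⟨g, rfl⟩ := QuotientGroup.mk_surjective g'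
      intro hc
      have h1 : (QuotientGroup.mk (b * (g * b * g⁻¹)) : X ⧸ zpowers e) = QuotientGroup.mk (g * b * g⁻¹ * b) := by
        rw [QuotientGroup.mk_mul, QuotientGroup.mk_mul, QuotientGroup.mk_mul, QuotientGroup.mk_mul,
          QuotientGroup.mk_inv]
        exact hc
      rw [QuotientGroup.eq] at h1
      have h2 := hiso g (by
        rcases hz _ h1 with h3 | h3
        · left
          exact (inv_mul_eq_one.1 h3).symm
        · right
          rw [← h3, mul_inv_cancel_left])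
      have h3 : (QuotientGroup.mk (g * b * g⁻¹) : X ⧸ zpowers e) = QuotientGroup.mk b := by
        rcases h2 with h2 | h2
        · rw [h2]
        · rw [h2, QuotientGroup.eq]
          have h4 : (b * e)⁻¹ * b = e⁻¹ := by group
          rw [h4]
          exact inv_mem (mem_zpowers e)
      rwa [QuotientGroup.mk_mul, QuotientGroup.mk_mul, QuotientGroup.mk_inv] at h3
  have h1 := AschCrit.Dichotomy.commutator_mem_oddCore hb' (QuotientGroup.mk g)
  have h2 : pPrimeCore 2 (X ⧸ zpowers e) = ⊥ := hq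
  rw [h2, mem_bot, mul_inv_eq_one, mul_inv_eq_iff_eq_mul] at h1
  rw [← QuotientGroup.mk_mul, ← QuotientGroup.mk_mul, QuotientGroup.eq] at h1
  -- `(b g)⁻¹ (g b) ∈ ⟨e⟩`
  have h3 : (b * g)⁻¹ * (g * b) = g⁻¹ * (b⁻¹ * (g * b * g⁻¹)) * g := by group
  have h4 : b⁻¹ * (g * b * g⁻¹) ∈ zpowers e := by
    have h5 := hN.conj_mem _ h1 g
    rw [h3] at h5
    have h6 : g * (g⁻¹ * (b⁻¹ * (g * b * g⁻¹)) * g) * g⁻¹ = b⁻¹ * (g * b * g⁻¹) := by group
    rwa [h6] at h5
  rcases hz _ h4 with h5 | h5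
  · left
    exact (inv_mul_eq_one.1 h5).symm
  · right
    rw [← h5, mul_inv_cancel_left]

namespace W

variable (w : W Z K) [Finite G]

include w

/-- `A b = A u` for `1 ≠ b ∈ A z` -/
theorem A_eq (h : Ed Z K z u) (hb : b ∈ A Z K z) (hb1 : b ≠ 1) : A Z K b = A Z K u := by
  have h1 : A Z K u ≤ A Z K b := by
    intro c hc
    by_cases hc1 : c = 1
    · rw [hc1]; exact one_mem _
    · exact mem_A_of (w.full h hb hb1 hc hc1)
  exact (eq_of_le_of_card_ge h1 (w.card_A (w.ed_of_mem hb hb1).right h.right).le).symm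

theorem exists_mul (h : Ed Z K z u) (hx : x ∈ A Z K z ⊔ A Z K u) : ∃ b ∈ A Z K z, ∃ c ∈ A Z K u, x = b * c := by
  refine OneBasic.exists_mul_of_mem_sup ?_ hx
  refine le_trans ?_ (centralizer_le_normalizer _)
  intro b hb
  rw [mem_centralizer_iff]
  intro c hc
  exact (w.comm_A h hb hc).symm

/-- `Z ∩ U V = U# ∪ V#` -/
theorem mem_T (h : Ed Z K z u) (hx : x ∈ A Z K z ⊔ A Z K u) (hxZ : x ∈ Z) :
    x ∈ A Z K z ∨ x ∈ A Z K u := by
  obtain ⟨b, hb, c, hc, rfl⟩ := w.exists_mul h hx
  by_cases hb1 : b = 1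
  · right; rw [hb1, one_mul]; exact hc
  by_cases hc1 : c = 1
  · left; rw [hc1, mul_one]; exact hb
  exact absurd hxZ (w.prod _ _ (w.full h hb hb1 hc hc1))

theorem T_sq (h : Ed Z K z u) (hx : x ∈ A Z K z ⊔ A Z K u) : x * x = 1 := by
  obtain ⟨b, hb, c, hc, rfl⟩ := w.exists_mul h hx
  have h1 := w.comm_A h hb hc
  calc (b * c) * (b * c) = b * (c * b) * c := by group
    _ = (b * b) * (c * c) := by rw [← h1]; group
    _ = 1 := by rw [w.A_sq hb, w.A_sq hc, one_mul]

theorem M_of_cases (hg : (cj g (A Z K z) = A Z K z ∧ cj g (A Z K u) = A Z K u) ∨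
    (cj g (A Z K z) = A Z K u ∧ cj g (A Z K u) = A Z K z)) :
    g ∈ normalizer ((A Z K z ⊔ A Z K u : Subgroup G) : Set G) := by
  rw [mem_normalizer_iff_cj, cj_sup]
  rcases hg with ⟨h1, h2⟩ | ⟨h1, h2⟩
  · rw [h1, h2]
  · rw [h1, h2, sup_comm]

/-- `M` permutes `{U, V}` -/
theorem M_cases (h : Ed Z K z u) (hg : g ∈ normalizer ((A Z K z ⊔ A Z K u : Subgroup G) : Set G)) :
    (cj g (A Z K z) = A Z K z ∧ cj g (A Z K u) = A Z K u) ∨
    (cj g (A Z K z) = A Z K u ∧ cj g (A Z K u) = A Z K z) := by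
  have h1 : g * z * g⁻¹ ∈ A Z K z ⊔ A Z K u :=
    (mem_normalizer_iff.1 hg z).1 (mem_sup_right (mem_A_of h.symm))
  have h2 : g * u * g⁻¹ ∈ A Z K z ⊔ A Z K u :=
    (mem_normalizer_iff.1 hg u).1 (mem_sup_left (mem_A_of h))
  have hE := w.ed_conj h g
  have hz1 : g * z * g⁻¹ ≠ 1 := w.ne _ hE.left
  have hu1 : g * u * g⁻¹ ≠ 1 := w.ne _ hE.right
  rcases w.mem_T h h1 hE.left with h3 | h3
  · rcases w.mem_T h h2 hE.right with h4 | h4
    · exfalso
      -- both in `U`
      have h5 : g * u * g⁻¹ ∈ A Z K u := by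
        rw [← w.A_eq h h3 hz1]
        exact mem_A_of hE
      exact hu1 (w.inf_A h h4 h5)
    · right
      rw [← w.A_conj, ← w.A_conj]
      exact ⟨w.A_eq h h3 hz1, w.A_eq h.symm h4 hu1⟩
  · rcases w.mem_T h h2 hE.right with h4 | h4
    · left
      rw [← w.A_conj, ← w.A_conj]
      exact ⟨w.A_eq h.symm h3 hz1, w.A_eq h h4 hu1⟩
    · exfalso
      have h5 : g * u * g⁻¹ ∈ A Z K z := by
        rw [← w.A_eq h.symm h3 hz1]
        exact mem_A_of hE
      exact hu1 (w.inf_A h h5 h4)

/-- `C(b) ≤ M` for `1 ≠ b ∈ U` -/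
theorem cent_le (h : Ed Z K z u) (hb : b ∈ A Z K z) (hb1 : b ≠ 1) (hg : g * b = b * g) :
    g ∈ normalizer ((A Z K z ⊔ A Z K u : Subgroup G) : Set G) := by
  refine w.M_of_cases (Or.inl ?_)
  have h1 : cj g (A Z K u) = A Z K u := by
    rw [← w.A_eq h hb hb1, ← w.A_conj, hg, mul_inv_cancel_right]
  refine ⟨?_, h1⟩
  have h2 : g * z * g⁻¹ ∈ A Z K u := by
    rw [← h1]
    exact conj_mem_cj (mem_A_of h.symm)
  rw [← w.A_conj]
  refine w.A_eq h.symm h2 (w.ne _ (w.conj z h.left g))

theorem cent_le' (h : Ed Z K z u) (hx : x ∈ A Z K z ⊔ A Z K u) (hxZ : x ∈ Z) (hg : g * x = x * g) :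
    g ∈ normalizer ((A Z K z ⊔ A Z K u : Subgroup G) : Set G) := by
  rcases w.mem_T h hx hxZ with h1 | h1
  · exact w.cent_le h h1 (w.ne x hxZ) hg
  · have h2 := w.cent_le h.symm h1 (w.ne x hxZ) hg
    rwa [sup_comm] at h2

/-- `|A z| > 4` if `A z ≠ ⟨u⟩` -/
theorem five_le (h : Ed Z K z u) (hb : b ∈ A Z K z) (hb1 : b ≠ 1) (hbu : b ≠ u) :
    5 ≤ Nat.card (A Z K z) := by
  classical
  obtain ⟨d, hd, hd1, hdu, hdb, hdbu⟩ := w.exists_indep h.symm hb hb1 hbu
  have hu1 := w.ne u h.right
  have hbu1 : b * u ≠ 1 := by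
    intro h1
    apply hbu
    rw [← w.inv h.right]
    exact eq_inv_of_mul_eq_one_left h1
  have h7 : ({1, u, b, b * u, d} : Finset G) ⊆ (Set.toFinite (A Z K z : Set G)).toFinset := by
    intro x hx
    rw [Set.Finite.mem_toFinset, SetLike.mem_coe]
    simp only [Finset.mem_insert, Finset.mem_singleton] at hx
    rcases hx with rfl | rfl | rfl | rfl | rfl
    · exact one_mem _
    · exact mem_A_of h
    · exact hb
    · exact mul_mem hb (mem_A_of h)
    · exact hd
  have h8 : ({1, u, b, b * u, d} : Finset G).card = 5 := by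
    rw [Finset.card_insert_of_notMem, Finset.card_insert_of_notMem, Finset.card_insert_of_notMem,
      Finset.card_insert_of_notMem, Finset.card_singleton]
    · simp only [Finset.mem_singleton]; exact hdbu.symm
    · simp only [Finset.mem_insert, Finset.mem_singleton, not_or]
      exact ⟨fun h1 => hu1 (left_eq_mul.1 h1), hdb.symm⟩
    · simp only [Finset.mem_insert, Finset.mem_singleton, not_or]
      exact ⟨hbu.symm, fun h1 => hb1 (right_eq_mul.1 h1), hdu.symm⟩
    · simp only [Finset.mem_insert, Finset.mem_singleton, not_or]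
      exact ⟨hu1.symm, hb1.symm, hbu1.symm, hd1.symm⟩
  have h9 := Finset.card_le_card h7
  rwa [h8, ← Nat.card_eq_card_finite_toFinset] at h9

/-- an involution `y` normalising the elementary abelian group `E`, `|E| > 4`, has two fixed points `≠ 1` -/
theorem exists_two_fix {E : Subgroup G} (hE : ∀ a ∈ E, a * a = 1) (hE2 : ∀ a ∈ E, ∀ b ∈ E, a * b = b * a)
    (h5 : 5 ≤ Nat.card E) (hy : y * y = 1) (hyE : cj y E = E) :
    ∃ c ∈ E, ∃ d ∈ E, c ≠ 1 ∧ d ≠ 1 ∧ c ≠ d ∧ y * c = c * y ∧ y * d = d * y := by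
  classical
  have hyi : y⁻¹ = y := inv_eq_of_mul_eq_one_right hy
  have hyE' : ∀ a ∈ E, y * a * y⁻¹ ∈ E := fun a ha => hyE ▸ conj_mem_cj ha
  have hyy : ∀ a : G, y * (y * a * y⁻¹) * y⁻¹ = a := by
    intro a
    rw [hyi]
    calc y * (y * a * y) * y = (y * y) * a * (y * y) := by group
      _ = a := by rw [hy, one_mul, mul_one]
  -- four elements do not cover `E`
  have hout : ∀ a b c : G, ∃ x ∈ E, x ≠ 1 ∧ x ≠ a ∧ x ≠ b ∧ x ≠ c := by
    intro a b c
    by_contra hcon
    push Not at hcon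
    have h1 : (Set.toFinite (E : Set G)).toFinset ⊆ ({1, a, b, c} : Finset G) := by
      intro x hx
      rw [Set.Finite.mem_toFinset, SetLike.mem_coe] at hx
      simp only [Finset.mem_insert, Finset.mem_singleton]
      by_cases h2 : x = 1
      · exact Or.inl h2
      by_cases h3 : x = a
      · exact Or.inr (Or.inl h3)
      by_cases h4 : x = b
      · exact Or.inr (Or.inr (Or.inl h4))
      · exact Or.inr (Or.inr (Or.inr (hcon x hx h2 h3 h4)))
    have h2 := Finset.card_le_card h1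
    rw [← Nat.card_eq_card_finite_toFinset] at h2
    have h3 : ({1, a, b, c} : Finset G).card ≤ 4 := Finset.card_le_four
    have h4 : 5 ≤ Nat.card E := h5
    have h5' : Nat.card (E : Set G) = Nat.card E := rfl
    omega
  -- the norm `a ↦ a · a^y` is fixed
  have hnf : ∀ a ∈ E, y * (a * (y * a * y⁻¹)) = a * (y * a * y⁻¹) * y := by
    intro a ha
    have h1 := hE2 a ha _ (hyE' a ha)
    have h2 : y * (a * (y * a * y⁻¹)) * y⁻¹ = (y * a * y⁻¹) * (y * (y * a * y⁻¹) * y⁻¹) := by group
    rw [hyy, ← h1] at h2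
    exact mul_inv_eq_iff_eq_mul.1 h2
  have hfix : ∀ a ∈ E, a * (y * a * y⁻¹) = 1 → y * a = a * y := by
    intro a ha h1
    have h2 : y * a * y⁻¹ = a := by
      have h3 : a * (y * a * y⁻¹) = a * a := by rw [h1, hE a ha]
      exact mul_left_cancel h3
    exact mul_inv_eq_iff_eq_mul.1 h2
  -- a first fixed point
  obtain ⟨c, hc, hc1, hyc⟩ : ∃ c ∈ E, c ≠ 1 ∧ y * c = c * y := by
    obtain ⟨a, ha, ha1, -, -, -⟩ := hout 1 1 1
    by_cases h1 : a * (y * a * y⁻¹) = 1
    · exact ⟨a, ha, ha1, hfix a ha h1⟩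
    · exact ⟨_, mul_mem ha (hyE' a ha), h1, hnf a ha⟩
  by_contra hcon
  have hcon' : ∀ d ∈ E, y * d = d * y → d = 1 ∨ d = c := by
    intro d hd hyd
    by_contra h1
    push Not at h1
    exact hcon ⟨c, hc, d, hd, hc1, h1.1, h1.2.symm, hyc, hyd⟩
  obtain ⟨p, hp, hp1, hpc, -, -⟩ := hout c c c
  obtain ⟨q, hq, hq1, hqc, hqp, hqpc⟩ := hout c p (p * c)
  have h1 : p * (y * p * y⁻¹) = c := by
    rcases hcon' _ (mul_mem hp (hyE' p hp)) (hnf p hp) with h2 | h2
    · rcases hcon' p hp (hfix p hp h2) with h3 | h3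
      · exact absurd h3 hp1
      · exact absurd h3 hpc
    · exact h2
  have h2 : q * (y * q * y⁻¹) = c := by
    rcases hcon' _ (mul_mem hq (hyE' q hq)) (hnf q hq) with h3 | h3
    · rcases hcon' q hq (hfix q hq h3) with h4 | h4
      · exact absurd h4 hq1
      · exact absurd h4 hqc
    · exact h3
  have h3 : (p * q) * (y * (p * q) * y⁻¹) = 1 := by
    have h4 : y * (p * q) * y⁻¹ = (y * p * y⁻¹) * (y * q * y⁻¹) := by group
    have h5 := hE2 q hq _ (hyE' p hp)
    rw [h4]
    calc p * q * (y * p * y⁻¹ * (y * q * y⁻¹)) = p * (q * (y * p * y⁻¹)) * (y * q * y⁻¹) := by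
          simp only [mul_assoc]
      _ = p * ((y * p * y⁻¹) * q) * (y * q * y⁻¹) := by rw [h5]
      _ = (p * (y * p * y⁻¹)) * (q * (y * q * y⁻¹)) := by simp only [mul_assoc]
      _ = 1 := by rw [h1, h2, hE c hc]
  rcases hcon' (p * q) (mul_mem hp hq) (hfix _ (mul_mem hp hq) h3) with h4 | h4
  · apply hqp
    have h5 : p * q = p * p := by rw [h4, hE p hp]
    exact mul_left_cancel h5
  · apply hqpc
    rw [← h4, ← mul_assoc, hE p hp, one_mul]

/-- **(g)** `Z ∩ M ⊆ T` -/
theorem mem_T_of_M (h : Ed Z K z u) (h5 : 5 ≤ Nat.card (A Z K z)) (hyZ : y ∈ Z)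
    (hyM : y ∈ normalizer ((A Z K z ⊔ A Z K u : Subgroup G) : Set G)) : y ∈ A Z K z ⊔ A Z K u := by
  by_contra hyT
  have hyy := w.sq y hyZ
  have hyi := w.inv hyZ
  have hyU : y ∉ A Z K z := fun h1 => hyT (mem_sup_left h1)
  have hyV : y ∉ A Z K u := fun h1 => hyT (mem_sup_right h1)
  have h5' : 5 ≤ Nat.card (A Z K u) := by rwa [← w.card_A h.left h.right]
  rcases w.M_cases h hyM with ⟨h1, h2⟩ | ⟨h1, h2⟩
  · -- (g1)
    obtain ⟨b, hb, -, -, hb1, -, -, hyb, -⟩ := w.exists_two_fix (fun a ha => w.A_sq ha)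
      (fun a ha b hb => w.A_abel ha hb) h5 hyy h1
    obtain ⟨c, hc, d, hd, hc1, hd1, hcd, hyc, hyd⟩ := w.exists_two_fix (fun a ha => w.A_sq ha)
      (fun a ha b hb => w.A_abel ha hb) h5' hyy h2
    have hbZ := (w.ed_of_mem hb hb1).right
    -- for `c ∈ C_V(y)`: `(y, y b c)` is an edge
    have key : ∀ c ∈ A Z K u, c ≠ 1 → y * c = c * y → Ed Z K y (y * b * c) := by
      intro c hc hc1 hyc
      have hcZ := (w.ed_of_mem hc hc1).right
      have hbc := w.full h hb hb1 hc hc1
      have hbc' := w.comm hbc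
      have hyc2 : y ≠ c := by
        rintro rfl
        exact hyV hc
      have hyb2 : y ≠ b := by
        rintro rfl
        exact hyU hb
      -- `(y, b)`, `(y, c)` are no edges
      have h3 : ¬ Ed Z K y b := by
        intro h4
        apply hyV
        rw [← w.A_eq h hb hb1]
        exact mem_A_of h4.symm
      have h4 : ¬ Ed Z K y c := by
        intro h6
        apply hyU
        rw [← w.A_eq h.symm hc hc1]
        exact mem_A_of h6.symm
      have h6 : y * c ∈ Z := w.mul_mem_Z hyZ hcZ hyc2 hyc h4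
      -- an element of `K b` moving `y` to `y b`
      obtain ⟨k, hk, -, hk2⟩ := w.exists_move hbZ hyy hyb (by
        intro h7
        exact h3 (w.ed_of hbZ hyZ (Ne.symm hyb2) h7).symm)
      have hkc : k * c = c * k := w.cent hbc k hk
      have h7 : y * b * c ∈ Z := by
        have h8 := w.conj _ h6 k
        have h9 : k * (y * c) * k⁻¹ = y * b * c := by
          calc k * (y * c) * k⁻¹ = (k * y * k⁻¹) * (k * c * k⁻¹) := by group
            _ = y * b * c := by rw [hk2, hkc, mul_inv_cancel_right]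
        rwa [h9] at h8
      have h8 : y * (y * b * c) = b * c := by
        calc y * (y * b * c) = (y * y) * b * c := by group
          _ = b * c := by rw [hyy, one_mul]
      have h9 : y * b * c * y = b * c := by
        calc y * b * c * y = y * b * (c * y) := by group
          _ = y * (b * y) * c := by rw [← hyc]; group
          _ = (y * y) * b * c := by rw [← hyb]; group
          _ = b * c := by rw [hyy, one_mul]
      rw [w.ed_iff hyZ h7 ?_ (by rw [h8, h9]), h8]
      · exact w.prod _ _ hbc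
      · intro h10
        rw [mul_assoc] at h10
        exact w.prod_ne hbc (left_eq_mul.1 h10)
    have h3 := key c hc hc1 hyc
    have h4 := key d hd hd1 hyd
    have h6 : Ed Z K y ((y * b * c) * (y * b * d)) := by
      refine w.ed_mul h3 h4 ?_
      intro h7
      exact hcd (mul_left_cancel h7)
    have h7 : (y * b * c) * (y * b * d) = c * d := by
      have hbc := w.comm_A h hb hc
      calc (y * b * c) * (y * b * d) = y * b * (c * y) * b * d := by group
        _ = y * (b * y) * (c * b) * d := by rw [← hyc]; group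
        _ = y * (y * b) * (b * c) * d := by rw [← hyb, hbc]
        _ = (y * y) * (b * b) * c * d := by group
        _ = c * d := by rw [hyy, w.sq b hbZ, one_mul, one_mul]
    rw [h7] at h6
    apply hyU
    rw [← w.A_eq h.symm (mul_mem hc hd) (w.ne _ h6.right)]
    exact mem_A_of h6.symm
  · -- (g2)
    have hyb : ∀ b ∈ A Z K z, y * b * y⁻¹ ∈ A Z K u := fun b hb => h1 ▸ conj_mem_cj hb
    have hcom : ∀ b ∈ A Z K z, (y * b * y⁻¹) * b = b * (y * b * y⁻¹) := fun b hb =>
      (w.comm_A h hb (hyb b hb)).symm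
    -- `y` commutes with `b^y b`
    have hycom : ∀ b ∈ A Z K z, y * ((y * b * y⁻¹) * b) = (y * b * y⁻¹) * b * y := by
      intro b hb
      have h3 : y * (y * b * y⁻¹ * b) * y⁻¹ = (y * y) * b * y⁻¹ * y⁻¹ * (y * b * y⁻¹) := by group
      have h4 : y * (y * b * y⁻¹ * b) * y⁻¹ = b * (y * b * y⁻¹) := by
        rw [h3, hyy, one_mul, mul_assoc b, ← mul_inv_rev, hyy, inv_one, mul_one]
      rw [← hcom b hb] at h4
      exact mul_inv_eq_iff_eq_mul.1 h4
    have key : ∀ b ∈ A Z K z, b ≠ 1 → Ed Z K y (y * ((y * b * y⁻¹) * b)) := by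
      intro b hb hb1
      have hb1' : y * b * y⁻¹ ≠ 1 := fun h3 => hb1 (conj_eq_one_iff.1 h3)
      have hE := w.full h hb hb1 (hyb b hb) hb1'
      have hbZ := hE.left
      have h3 : y * ((y * b * y⁻¹) * b) ∈ Z := by
        have h4 := w.conj y hyZ b
        have h6 : b * y * b⁻¹ = y * ((y * b * y⁻¹) * b) := by
          rw [w.inv hbZ]
          calc b * y * b = b * (y * b * y⁻¹) * y := by group
            _ = (y * b * y⁻¹) * b * y := by rw [hcom b hb]
            _ = _ := (hycom b hb).symm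
        rwa [h6] at h4
      have h4 : y * (y * ((y * b * y⁻¹) * b)) = (y * b * y⁻¹) * b := by rw [← mul_assoc, hyy, one_mul]
      rw [w.ed_iff hyZ h3 ?_ ?_, h4]
      · exact w.prod _ _ hE.symm
      · intro h6
        exact w.prod_ne hE.symm (left_eq_mul.1 h6)
      · rw [h4, hycom b hb, mul_assoc _ y y, hyy, mul_one]
    -- two different elements of `U`
    obtain ⟨b, hb, hb1, hbu⟩ : ∃ b ∈ A Z K z, b ≠ 1 ∧ b ≠ u := by
      by_contra hcon
      push Not at hcon
      have h3 : A Z K z ≤ zpowers u := by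
        intro b hb
        by_cases hb1 : b = 1
        · rw [hb1]; exact one_mem _
        · rw [hcon b hb hb1]; exact mem_zpowers u
      have h4 := Nat.le_of_dvd Nat.card_pos (card_dvd_of_le h3)
      rw [Nat.card_zpowers] at h4
      have h6 : orderOf u ∣ 2 := orderOf_dvd_of_pow_eq_one (by rw [pow_two]; exact w.sq u h.right)
      have h7 := Nat.le_of_dvd (by norm_num) h6
      omega
    have hu := mem_A_of h
    have h3 := key b hb hb1
    have h4 := key u hu (w.ne u h.right)
    have hne : b * u ≠ 1 := by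
      intro h6
      apply hbu
      rw [← w.inv h.right]
      exact eq_inv_of_mul_eq_one_left h6
    have hne' : y * (b * u) * y⁻¹ ≠ 1 := fun h6 => hne (conj_eq_one_iff.1 h6)
    have hbuU : b * u ∈ A Z K z := mul_mem hb hu
    have hE := w.full h hbuU hne (hyb _ hbuU) hne'
    have h6 : (y * ((y * b * y⁻¹) * b)) * (y * ((y * u * y⁻¹) * u)) = (y * (b * u) * y⁻¹) * (b * u) := by
      have h7 : b * (y * u * y⁻¹) = (y * u * y⁻¹) * b := w.comm_A h hb (hyb u hu)
      calc (y * ((y * b * y⁻¹) * b)) * (y * ((y * u * y⁻¹) * u))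
          = ((y * b * y⁻¹) * b * y) * (y * ((y * u * y⁻¹) * u)) := by rw [hycom b hb]
        _ = (y * b * y⁻¹) * b * (y * y) * ((y * u * y⁻¹) * u) := by simp only [mul_assoc]
        _ = (y * b * y⁻¹) * (b * (y * u * y⁻¹)) * u := by rw [hyy]; simp only [mul_assoc, one_mul]
        _ = (y * b * y⁻¹) * ((y * u * y⁻¹) * b) * u := by rw [h7]
        _ = _ := by group
    have h7 : (y * ((y * b * y⁻¹) * b)) * (y * ((y * u * y⁻¹) * u)) ∈ A Z K y :=
      mul_mem (mem_A_of h3) (mem_A_of h4)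
    rw [h6] at h7
    have h8 := w.ed_of_mem h7 (w.prod_ne hE.symm)
    exact w.prod _ _ hE.symm h8.right

/-- **(h)** `C(b c)` permutes `{b, c}` -/
theorem cent_prod (h : Ed Z K z u) (h5 : 5 ≤ Nat.card (A Z K z)) (hb : b ∈ A Z K z) (hb1 : b ≠ 1)
    (hc : c ∈ A Z K u) (hc1 : c ≠ 1) (hO : oddCore (centralizer {b * c}) = ⊥)
    (hg : g * (b * c) = b * c * g) :
    (g * b * g⁻¹ = b ∧ g * c * g⁻¹ = c) ∨ (g * b * g⁻¹ = c ∧ g * c * g⁻¹ = b) := by
  have hE := w.full h hb hb1 hc hc1
  have hbZ := hE.left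
  have hcZ := hE.right
  have hbc := w.comm hE
  have hb2 := w.sq b hbZ
  have hc2 := w.sq c hcZ
  have hee := w.prod_sq hE
  have hbe : b * (b * c) = c := by rw [← mul_assoc, hb2, one_mul]
  have hce : c * (b * c) = b := by rw [hbc, ← mul_assoc, hc2, one_mul]
  have main : ∀ g : G, g * (b * c) = b * c * g → g * b * g⁻¹ = b ∨ g * b * g⁻¹ = c := by
    intro g hg
    set C := centralizer {b * c} with hCdef
    have heC : b * c ∈ C := mem_centralizer_singleton_iff.2 rfl
    have hbC : b ∈ C := by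
      rw [hCdef, mem_centralizer_singleton_iff]
      rw [mul_assoc, ← hbc]
    have hgC : g ∈ C := mem_centralizer_singleton_iff.2 hg
    have h1 := iso_mod (X := C) hO (e := ⟨b * c, heC⟩) (b := ⟨b, hbC⟩)
      (mem_center_iff.2 fun x => Subtype.ext (mem_centralizer_singleton_iff.1 x.2))
      (by
        rw [Subgroup.orderOf_mk]
        exact orderOf_eq_prime (by rw [pow_two]; exact hee) (w.prod_ne hE))
      (Subtype.ext hb2) (fun h1 => hb1 (congrArg Subtype.val h1))
      (fun h1 => hc1 (left_eq_mul.1 (congrArg Subtype.val h1 : b = b * c))) ?_ ⟨g, hgC⟩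
    · rcases h1 with h1 | h1
      · left
        exact congrArg Subtype.val h1
      · right
        have h2 : g * b * g⁻¹ = b * (b * c) := congrArg Subtype.val h1
        rw [h2, hbe]
    · rintro ⟨s, hs⟩ h2
      have hs' : s * (b * c) = b * c * s := mem_centralizer_singleton_iff.1 hs
      have hxZ := w.conj b hbZ s
      -- `x = b^s`
      suffices h3 : s * b * s⁻¹ = b ∨ s * b * s⁻¹ = b * (b * c) by
        rcases h3 with h3 | h3
        · exact Or.inl (Subtype.ext h3)
        · exact Or.inr (Subtype.ext h3)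
      have hxe : s * b * s⁻¹ * (b * c) = s * c * s⁻¹ := by
        calc s * b * s⁻¹ * (b * c) = s * b * (s⁻¹ * (b * c * s)) * s⁻¹ := by group
          _ = s * b * (s⁻¹ * (s * (b * c))) * s⁻¹ := by rw [← hs']
          _ = s * (b * (b * c)) * s⁻¹ := by group
          _ = s * c * s⁻¹ := by rw [hbe]
      rcases h2 with h2 | h2
      · have h3 : (s * b * s⁻¹) * b = b * (s * b * s⁻¹) := congrArg Subtype.val h2
        have h4 : s * b * s⁻¹ ∈ A Z K z ⊔ A Z K u :=
          w.mem_T_of_M h h5 hxZ (w.cent_le h hb hb1 h3)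
        have h6 : s * c * s⁻¹ * b = b * (s * c * s⁻¹) := by
          rw [← hxe]
          calc s * b * s⁻¹ * (b * c) * b = s * b * s⁻¹ * (b * (c * b)) := by simp only [mul_assoc]
            _ = s * b * s⁻¹ * (b * (b * c)) := by rw [← hbc]
            _ = (s * b * s⁻¹ * b) * (b * c) := by simp only [mul_assoc]
            _ = b * (s * b * s⁻¹) * (b * c) := by rw [h3]
            _ = _ := by simp only [mul_assoc]
        have h7 : s * c * s⁻¹ ∈ A Z K z ⊔ A Z K u :=
          w.mem_T_of_M h h5 (w.conj c hcZ s) (w.cent_le h hb hb1 h6)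
        have hx1 : s * b * s⁻¹ ≠ 1 := w.ne _ hxZ
        rcases w.mem_T h h4 hxZ with h8 | h8
        · left
          -- `x e = (x b) c`
          rcases w.mem_T h h7 (w.conj c hcZ s) with h9 | h9
          · exfalso
            rw [← hxe, ← mul_assoc] at h9
            have h10 : c ∈ A Z K z := by
              have h11 : c = (s * b * s⁻¹ * b)⁻¹ * (s * b * s⁻¹ * b * c) := by group
              rw [h11]
              exact mul_mem (inv_mem (mul_mem h8 hb)) h9
            exact hc1 (w.inf_A h h10 hc)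
          · rw [← hxe, ← mul_assoc] at h9
            have h10 : s * b * s⁻¹ * b ∈ A Z K u := by
              have h11 : s * b * s⁻¹ * b = (s * b * s⁻¹ * b * c) * c⁻¹ := by group
              rw [h11]
              exact mul_mem h9 (inv_mem hc)
            have h11 := w.inf_A h (mul_mem h8 hb) h10
            rw [eq_inv_of_mul_eq_one_left h11, w.inv hbZ]
        · right
          rw [hbe]
          have h12 : s * b * s⁻¹ * (b * c) = b * ((s * b * s⁻¹) * c) := by
            rw [← mul_assoc, h3, mul_assoc]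
          rcases w.mem_T h h7 (w.conj c hcZ s) with h9 | h9
          · rw [← hxe, h12] at h9
            have h10 : s * b * s⁻¹ * c ∈ A Z K z := by
              have h11 : s * b * s⁻¹ * c = b⁻¹ * (b * (s * b * s⁻¹ * c)) := by group
              rw [h11]
              exact mul_mem (inv_mem hb) h9
            have h11 := w.inf_A h h10 (mul_mem h8 hc)
            rw [eq_inv_of_mul_eq_one_left h11, w.inv hcZ]
          · exfalso
            rw [← hxe, h12] at h9
            have h10 : b ∈ A Z K u := by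
              have h11 : b = (b * (s * b * s⁻¹ * c)) * (s * b * s⁻¹ * c)⁻¹ := by group
              rw [h11]
              exact mul_mem h9 (inv_mem (mul_mem h8 hc))
            exact hb1 (w.inf_A h hb h10)
      · exfalso
        have h3 : (s * b * s⁻¹) * b = b * (s * b * s⁻¹) * (b * c) := congrArg Subtype.val h2
        set x := s * b * s⁻¹ with hx
        have hxx : x * x = 1 := w.sq x hxZ
        have hxi : x⁻¹ = x := w.inv hxZ
        have hxC : x * (b * c) = (b * c) * x := by
          have h4 : x ∈ C := by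
            rw [hx]
            exact mul_mem (mul_mem hs hbC) (inv_mem hs)
          exact mem_centralizer_singleton_iff.1 h4
        -- `x b x⁻¹ = c`
        have h4 : x * b * x⁻¹ = c := by
          rw [h3]
          calc b * x * (b * c) * x⁻¹ = b * (x * (b * c)) * x⁻¹ := by group
            _ = b * ((b * c) * x) * x⁻¹ := by rw [hxC]
            _ = b * (b * c) := by group
            _ = c := hbe
        have h6 : x * c * x⁻¹ = b := by
          rw [← h4, hxi]
          calc x * (x * b * x) * x = (x * x) * b * (x * x) := by group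
            _ = b := by rw [hxx, one_mul, mul_one]
        have h7 : x ∈ normalizer ((A Z K z ⊔ A Z K u : Subgroup G) : Set G) := by
          refine w.M_of_cases (Or.inr ⟨?_, ?_⟩)
          · rw [← w.A_eq h.symm hc hc1, ← w.A_conj, h6]
            exact (w.A_eq h hb hb1).trans (by rfl)
          · rw [← w.A_eq h hb hb1, ← w.A_conj, h4]
            exact w.A_eq h.symm hc hc1
        have h8 := w.mem_T_of_M h h5 hxZ h7
        have h9 := w.T_comm h h8 (mem_sup_left hb)
        rw [h9, mul_inv_cancel_right] at h4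
        exact hE.ne h4
  have h1 := main g hg
  have h2 : g * c * g⁻¹ = (g * b * g⁻¹) * (b * c) := by
    calc g * c * g⁻¹ = g * (b * (b * c)) * g⁻¹ := by rw [hbe]
      _ = (g * b * g⁻¹) * (g * (b * c) * g⁻¹) := by group
      _ = (g * b * g⁻¹) * (b * c) := by rw [hg, mul_inv_cancel_right]
  rcases h1 with h1 | h1
  · exact Or.inl ⟨h1, by rw [h2, h1, hbe]⟩
  · exact Or.inr ⟨h1, by rw [h2, h1, hce]⟩

/-- **(h)** `C(b c) ≤ M` -/
theorem cent_prod_le (h : Ed Z K z u) (h5 : 5 ≤ Nat.card (A Z K z)) (hb : b ∈ A Z K z) (hb1 : b ≠ 1)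
    (hc : c ∈ A Z K u) (hc1 : c ≠ 1) (hO : oddCore (centralizer {b * c}) = ⊥)
    (hg : g * (b * c) = b * c * g) :
    g ∈ normalizer ((A Z K z ⊔ A Z K u : Subgroup G) : Set G) := by
  refine w.M_of_cases ?_
  rw [← w.A_eq h.symm hc hc1, ← w.A_eq h hb hb1, ← w.A_conj, ← w.A_conj]
  rcases w.cent_prod h h5 hb hb1 hc hc1 hO hg with ⟨h1, h2⟩ | ⟨h1, h2⟩
  · left; rw [h1, h2]; exact ⟨rfl, rfl⟩
  · right; rw [h1, h2]; exact ⟨rfl, rfl⟩

end W

end Cfsg.Agent.Cit.Nil.MTwo
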