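import Cfsg.Agent.Cit.Nil.ROne.MTwoBase
import Cfsg.Agent.AschCrit.Dichotomy

/-!
# (6b), r = 1, m = 2, nil world: valency one (helper454, bb #12195 (f))

If every `z` has exactly one neighbour, then the product `z u` of an edge is an isolated involution
(`W.isolated`), hence central in `G / O(G)` (`W.central_of_val`).
-/

set_option autoImplicit false
set_option linter.style.haveILetI false
set_option linter.unusedSectionVars false

namespace Cfsg.Agent.Cit.Nil.MTwo

open Subgroup Cfsg Cit OneBasic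

variable {G : Type*} [Group G] {Z : Set G} {K : G → Subgroup G} {z u v b c x y g e : G}

namespace W

variable (w : W Z K)

include w

section

omit w

theorem commz_prod_left {z u y : G} (h1 : y * z = z * y) (h2 : y * u = u * y) : y * (z * u) = z * u * y := by
  rw [← mul_assoc, h1, mul_assoc, h2, mul_assoc]

end

theorem prod_sq (h : Ed Z K z u) : (z * u) * (z * u) = 1 := by
  have h1 := w.comm h
  calc (z * u) * (z * u) = z * (u * z) * u := by group
    _ = (z * z) * (u * u) := by rw [← h1]; group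
    _ = 1 := by rw [w.sq z h.left, w.sq u h.right, one_mul]

theorem prod_ne (h : Ed Z K z u) : z * u ≠ 1 := by
  intro h1
  apply h.ne
  rw [← w.inv h.right]
  exact eq_inv_of_mul_eq_one_left h1

/-- an element of `Z` commuting with the product `e ∉ Z` and with `y e ∈ Z` -/
theorem ed_mul_e (h : Ed Z K z u) (hy : y ∈ Z) (hc : y * (z * u) = z * u * y) (hye : y * (z * u) ∈ Z) :
    Ed Z K y (y * (z * u)) := by
  have h1 : y * (y * (z * u)) = z * u := by rw [← mul_assoc, w.sq y hy, one_mul]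
  rw [w.ed_iff hy hye ?_ ?_, h1]
  · exact w.prod z u h
  · intro h2
    exact w.prod_ne h (left_eq_mul.1 h2)
  · rw [h1, hc, mul_assoc, w.sq y hy, mul_one]

/-- an element of the Sylow subgroup swapping `z`, `u` -/
theorem ed_swap (h : Ed Z K z u) (hy : y ∈ Z) (h1 : y * z * y⁻¹ = u) (h2 : y * u * y⁻¹ = z) :
    Ed Z K y (y * (z * u)) := by
  have hyi := w.inv hy
  have h3 : y * z = u * y := mul_inv_eq_iff_eq_mul.1 h1
  have h4 : y * u = z * y := mul_inv_eq_iff_eq_mul.1 h2
  have h5 : y * (z * u) = z * u * y := by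
    calc y * (z * u) = (y * z) * u := by group
      _ = u * (y * u) := by rw [h3]; group
      _ = (u * z) * y := by rw [h4]; group
      _ = z * u * y := by rw [w.comm h]
  refine w.ed_mul_e h hy h5 ?_
  have h6 : y * (z * u) = u⁻¹⁻¹ * y * u⁻¹ := by
    rw [inv_inv, w.inv h.right]
    calc y * (z * u) = (y * z) * u := by group
      _ = u * y * u := by rw [h3]
  rw [h6]
  have h7 := w.conj y hy u
  rwa [inv_inv]

variable [Finite G]

/-- uniqueness of the neighbour -/
def Val (Z : Set G) (K : G → Subgroup G) : Prop := ∀ z u v, Ed Z K z u → Ed Z K z v → u = v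

omit w [Finite G] in
theorem _root_.Cfsg.Agent.Cit.Nil.MTwo.Val_def :
    Val Z K ↔ ∀ z u v, Ed Z K z u → Ed Z K z v → u = v := Iff.rfl

omit [Finite G] in
theorem ed_comm_z (hv : Val Z K) (h : Ed Z K z u) (hy : y ∈ Z) (hc : y * z = z * y) :
    Ed Z K y (y * (z * u)) := by
  have h1 : y * u = u * y := by
    have h2 := w.ed_conj h y
    rw [hc, mul_inv_cancel_right] at h2
    exact mul_inv_eq_iff_eq_mul.1 (hv _ _ _ h2 h)
  by_cases hyz : y = z
  · subst hyz
    have h2 : y * (y * u) = u := by rw [← mul_assoc, w.sq y hy, one_mul]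
    rw [h2]; exact h
  by_cases hyu : y = u
  · subst hyu
    have h2 : y * (z * y) = z := by rw [← hc, ← mul_assoc, w.sq y hy, one_mul]
    rw [h2]; exact h.symm
  refine w.ed_mul_e h hy (commz_prod_left hc h1) ?_
  have h3 : z * y ∈ Z := by
    refine w.mul_mem_Z h.left hy (Ne.symm hyz) hc.symm fun h4 => hyu (hv _ _ _ h4 h)
  have h5 : u * (z * y) ∈ Z := by
    refine w.mul_mem_Z h.right h3 ?_ ?_ ?_
    · intro h6
      apply w.prod z u h
      have h7 : z * u = y := by rw [h6, ← mul_assoc, w.sq z h.left, one_mul]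
      rw [h7]; exact hy
    · calc u * (z * y) = (u * z) * y := by group
        _ = z * (u * y) := by rw [← w.comm h]; group
        _ = z * y * u := by rw [← h1]; group
    · intro h6
      have h7 := hv _ _ _ h6 h.symm
      exact w.ne y hy (mul_eq_left.1 h7)
  have h6 : y * (z * u) = u * (z * y) := by
    calc y * (z * u) = (y * z) * u := by group
      _ = z * (y * u) := by rw [hc]; group
      _ = (z * u) * y := by rw [h1]; group
      _ = u * (z * y) := by rw [w.comm h]; group
  rw [h6]; exact h5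

/-- the Sylow subgroup of `syl` is a Sylow subgroup of `C(z u)` -/
theorem exists_syl (h : Ed Z K z u) : ∃ S : Sylow 2 G, K z ≤ S ∧ K u ≤ S ∧
    (∀ s ∈ S, (s * z * s⁻¹ = z ∧ s * u * s⁻¹ = u) ∨ (s * z * s⁻¹ = u ∧ s * u * s⁻¹ = z)) ∧
    Syl (S : Subgroup G) (centralizer {z * u}) := by
  obtain ⟨S, h1, h2, h3⟩ := w.syl z u h
  refine ⟨S, h1, h2, h3, ?_, S.isPGroup', ?_⟩
  · intro s hs
    rw [mem_centralizer_singleton_iff]
    have h4 : s * (z * u) * s⁻¹ = z * u := by
      rcases h3 s hs with ⟨h4, h5⟩ | ⟨h4, h5⟩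
      · calc s * (z * u) * s⁻¹ = (s * z * s⁻¹) * (s * u * s⁻¹) := by group
          _ = z * u := by rw [h4, h5]
      · calc s * (z * u) * s⁻¹ = (s * z * s⁻¹) * (s * u * s⁻¹) := by group
          _ = z * u := by rw [h4, h5, w.comm h]
    exact mul_inv_eq_iff_eq_mul.1 h4
  · intro h4
    exact S.not_dvd_index (h4.trans (relIndex_dvd_index_of_le (by
      intro s hs
      rw [mem_centralizer_singleton_iff]
      have h4 : s * (z * u) * s⁻¹ = z * u := by
        rcases h3 s hs with ⟨h4, h5⟩ | ⟨h4, h5⟩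
        · calc s * (z * u) * s⁻¹ = (s * z * s⁻¹) * (s * u * s⁻¹) := by group
            _ = z * u := by rw [h4, h5]
        · calc s * (z * u) * s⁻¹ = (s * z * s⁻¹) * (s * u * s⁻¹) := by group
            _ = z * u := by rw [h4, h5, w.comm h]
      exact mul_inv_eq_iff_eq_mul.1 h4)))

/-- a 2-element of `C(z u)` is conjugate in `C(z u)` into the Sylow subgroup -/
theorem exists_conj_syl {S C : Subgroup G} (hS : Syl S C) (hy : IsPGroup 2 (zpowers y)) (hyC : y ∈ C) :
    ∃ k ∈ C, k * y * k⁻¹ ∈ S := by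
  obtain ⟨T, hT, hyT⟩ := OneBasic.exists_syl_ge hy (by rwa [zpowers_le])
  obtain ⟨k, hk, hkT⟩ := hT.exists_conj hS
  refine ⟨k, hk, ?_⟩
  rw [← hkT]
  exact conj_mem_cj (hyT (mem_zpowers y))

omit w [Finite G] in
theorem two_zpowers (hy : y * y = 1) : IsPGroup 2 (zpowers y) := by
  intro x
  obtain ⟨k, hk⟩ := x.2
  refine ⟨1, Subtype.ext ?_⟩
  have hk' : y ^ k = (x : G) := hk
  rw [pow_one, pow_two]
  change (x : G) * x = 1
  rw [← hk', ← (Commute.refl y).mul_zpow, hy, one_zpow]

/-- `Z ∩ C(e) = {y : e_y = e}` -/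
theorem ed_of_comm_e (hv : Val Z K) (h : Ed Z K z u) (hy : y ∈ Z) (hc : y * (z * u) = z * u * y) :
    Ed Z K y (y * (z * u)) := by
  obtain ⟨S, -, -, h3, hS⟩ := w.exists_syl h
  obtain ⟨k, hk, hkS⟩ := w.exists_conj_syl hS (two_zpowers (w.sq y hy)) (mem_centralizer_singleton_iff.2 hc)
  have hk' := mem_centralizer_singleton_iff.1 hk
  have hkZ := w.conj y hy k
  have h4 : Ed Z K (k * y * k⁻¹) (k * y * k⁻¹ * (z * u)) := by
    rcases h3 _ hkS with ⟨h5, -⟩ | ⟨h5, h6⟩
    · exact w.ed_comm_z hv h hkZ (mul_inv_eq_iff_eq_mul.1 h5)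
    · exact w.ed_swap h hkZ h5 h6
  have h5 := w.ed_conj h4 k⁻¹
  have h6 : k⁻¹ * (k * y * k⁻¹) * k⁻¹⁻¹ = y := by group
  have h7 : k⁻¹ * (k * y * k⁻¹ * (z * u)) * k⁻¹⁻¹ = y * (z * u) := by
    calc k⁻¹ * (k * y * k⁻¹ * (z * u)) * k⁻¹⁻¹ = y * k⁻¹ * ((z * u) * k) := by group
      _ = y * k⁻¹ * (k * (z * u)) := by rw [hk']
      _ = y * (z * u) := by group
  rwa [h6, h7] at h5

/-- `K z` has an element of order 4 -/
theorem exists_four (hz : z ∈ Z) : ∃ k ∈ K z, k * k = z := by
  by_contra hcon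
  push Not at hcon
  have h1 : K z ≤ zpowers z := by
    intro k hk
    by_cases h1 : k = 1
    · rw [h1]; exact one_mem _
    by_cases h2 : k = z
    · rw [h2]; exact mem_zpowers z
    exact absurd (w.four z hz k hk h1 h2) (hcon k hk)
  have h2 := card_dvd_of_le h1
  rw [w.card z hz, Nat.card_zpowers] at h2
  have h3 : orderOf z ∣ 2 := orderOf_dvd_of_pow_eq_one (by rw [pow_two]; exact w.sq z hz)
  have h4 := Nat.le_of_dvd (by norm_num) (h2.trans h3)
  omega

/-- **(f)** the product of an edge is isolated -/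
theorem isolated (hv : Val Z K) (h : Ed Z K z u) : IsIsolatedInvolution (z * u) := by
  refine ⟨orderOf_eq_prime (by rw [pow_two]; exact w.prod_sq h) (w.prod_ne h), ?_⟩
  -- the key: an edge product `e1 = z1 u1` commuting with `e` is `e`
  have key : ∀ z1 u1, Ed Z K z1 u1 → (z1 * u1) * (z * u) = (z * u) * (z1 * u1) → z1 * u1 = z * u := by
    intro z1 u1 hE hc
    -- conjugate into `S`
    obtain ⟨S, h1, h2, h3, hS⟩ := w.exists_syl h
    obtain ⟨k, hk, hkS⟩ := w.exists_conj_syl hS (two_zpowers (w.prod_sq hE)) (mem_centralizer_singleton_iff.2 hc)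
    have hk' := mem_centralizer_singleton_iff.1 hk
    have hE1 := w.ed_conj hE k
    set z2 := k * z1 * k⁻¹ with hz2
    set u2 := k * u1 * k⁻¹ with hu2
    have he2 : z2 * u2 = k * (z1 * u1) * k⁻¹ := by rw [hz2, hu2]; group
    have hkS' : z2 * u2 ∈ S := by rw [he2]; exact hkS
    suffices h4 : z2 * u2 = z * u by
      rw [he2] at h4
      have h5 : z1 * u1 = k⁻¹ * (z * u * k) := by rw [← h4]; group
      rw [h5, ← hk', inv_mul_cancel_left]
    rcases h3 _ hkS' with ⟨h5, -⟩ | ⟨h5, h6⟩
    · -- `e2` commutes with `z`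
      have h7 : z * (z2 * u2) = z2 * u2 * z := (mul_inv_eq_iff_eq_mul.1 h5).symm
      have h8 := w.ed_of_comm_e hv hE1 h.left h7
      have h9 := hv _ _ _ h8 h
      have h10 : z * (z * (z2 * u2)) = z2 * u2 := by
        rw [← mul_assoc z z (z2 * u2), w.sq z h.left, one_mul]
      rw [← h10, h9]
    · -- `e2` swaps `z`, `u`
      obtain ⟨a, ha, haa⟩ := w.exists_four h.left
      set e2 := z2 * u2 with he2'
      have he22 : e2 * e2 = 1 := w.prod_sq hE1
      have hei : e2⁻¹ = e2 := inv_eq_of_mul_eq_one_right he22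
      have ha' : e2 * a * e2⁻¹ ∈ K u := by
        have h8 := w.conjK z h.left e2
        rw [h5] at h8
        rw [h8]
        exact conj_mem_cj ha
      set a' := e2 * a * e2⁻¹ with ha'def
      have haa' : a' * a' = u := by
        rw [ha'def, ← h5, ← haa]; group
      have hca : a * a' = a' * a := h.2.2.2 a ha a' ha'
      have ht2 : (a * a') * (a * a') = z * u := by
        calc (a * a') * (a * a') = a * (a' * a) * a' := by group
          _ = (a * a) * (a' * a') := by rw [← hca]; group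
          _ = z * u := by rw [haa, haa']
      have hte : (a * a') * e2 = e2 * (a * a') := by
        have h8 : e2 * a = a' * e2 := by rw [ha'def]; group
        have h9 : e2 * a' = a * e2 := by
          rw [ha'def, hei]
          calc e2 * (e2 * a * e2) = (e2 * e2) * a * e2 := by group
            _ = a * e2 := by rw [he22, one_mul]
        calc (a * a') * e2 = (a' * a) * e2 := by rw [hca]
          _ = a' * (e2 * a') := by rw [h9]; group
          _ = (e2 * a) * a' := by rw [h8]; group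
          _ = _ := by group
      have ht4 : IsPGroup 2 (zpowers (a * a')) := by
        intro x
        obtain ⟨n, hn⟩ := x.2
        have hn' : (a * a') ^ n = (x : G) := hn
        refine ⟨2, Subtype.ext ?_⟩
        have h8 : (a * a') ^ 4 = 1 := by
          calc (a * a') ^ 4 = ((a * a') * (a * a')) * ((a * a') * (a * a')) := by
                simp only [pow_succ, pow_zero, one_mul, mul_assoc]
            _ = 1 := by rw [ht2]; exact w.prod_sq h
        change ((x : G)) ^ 2 ^ 2 = 1
        rw [← hn', ← zpow_natCast, ← zpow_mul, mul_comm, zpow_mul]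
        norm_num
        rw [h8, one_zpow]
      obtain ⟨S1, -, -, h31, hS1⟩ := w.exists_syl hE1
      obtain ⟨l, hl, hlS⟩ := w.exists_conj_syl hS1 ht4 (mem_centralizer_singleton_iff.2 hte)
      have hl' : l * e2 = e2 * l := mem_centralizer_singleton_iff.1 hl
      -- the square of `l t l⁻¹` centralises `z2`
      have h10 : ∀ s ∈ S1, (s * s) * z2 = z2 * (s * s) := by
        intro s hs
        rcases h31 s hs with ⟨h11, -⟩ | ⟨h11, h12⟩
        · have h13 := mul_inv_eq_iff_eq_mul.1 h11
          rw [mul_assoc, h13, ← mul_assoc, h13, mul_assoc]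
        · have h13 := mul_inv_eq_iff_eq_mul.1 h11
          have h14 := mul_inv_eq_iff_eq_mul.1 h12
          rw [mul_assoc, h13, ← mul_assoc, h14, mul_assoc]
      have h11 := h10 _ hlS
      have h12 : l * (a * a') * l⁻¹ * (l * (a * a') * l⁻¹) = l * (z * u) * l⁻¹ := by
        rw [← ht2]; group
      rw [h12] at h11
      -- `x = l⁻¹ z2 l`
      have hE3 := w.ed_conj hE1 l⁻¹
      have h13 : l⁻¹ * z2 * l⁻¹⁻¹ * (z * u) = (z * u) * (l⁻¹ * z2 * l⁻¹⁻¹) := by
        calc l⁻¹ * z2 * l⁻¹⁻¹ * (z * u) = l⁻¹ * (z2 * (l * (z * u) * l⁻¹)) * l := by group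
          _ = l⁻¹ * (l * (z * u) * l⁻¹ * z2) * l := by rw [h11]
          _ = _ := by group
      have h14 := w.ed_of_comm_e hv h hE3.left h13
      have h15 := hv _ _ _ h14 hE3
      have h16 : l⁻¹ * z2 * l⁻¹⁻¹ * (l⁻¹ * u2 * l⁻¹⁻¹) = e2 := by
        calc l⁻¹ * z2 * l⁻¹⁻¹ * (l⁻¹ * u2 * l⁻¹⁻¹) = l⁻¹ * (e2 * l) := by rw [he2']; group
          _ = e2 := by rw [← hl', inv_mul_cancel_left]
      rw [← h16, ← h15, ← mul_assoc, w.sq _ hE3.left, one_mul]
  intro g hg
  have h1 := w.ed_conj h g
  have h2 : g * (z * u) * g⁻¹ = (g * z * g⁻¹) * (g * u * g⁻¹) := by group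
  rw [h2]
  refine key _ _ h1 ?_
  rw [← h2]
  exact hg.symm

/-- **(f)** the case of valency one -/
theorem central_of_val (hv : Val Z K) (h : Ed Z K z u) (hO : oddCore G = ⊥) :
    z * u ∈ center G := by
  rw [mem_center_iff]
  intro g
  have h1 := AschCrit.Dichotomy.commutator_mem_oddCore (w.isolated hv h) g
  have h2 : pPrimeCore 2 G = ⊥ := hO
  rw [h2, mem_bot, mul_inv_eq_one, mul_inv_eq_iff_eq_mul] at h1
  exact h1.symm

end W

end Cfsg.Agent.Cit.Nil.MTwo
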