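import Cfsg.Agent.Cit.Nil.ROne.Base
import Cfsg.Agent.Cit.Nil.ROne.Triple

/-!
# `r = 1`, section 6: N-pairs and twins ((6.1), (6.4), (6.5) of `blueprints/R18-6b-r1-helper545.md`)

* `Ep Z K z` : `E_z^+`, the subgroup generated by the products of two twins of `z`;
* `Sw Z K` : (5.6) in the form needed: the second entry of a C-swap `(u, v)` moves every twin of `u`;
* `W.np_of_tw`, `W.np_of_tw_tw` : (6.1);
* `W.Ep_le` : `E_z^+` centralises `K x`; `W.flip_tw`, `W.tw_mul`; `W.Ep_eq` : (6.4); `W.notMem_Ep`;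
* `W.t_eq` : (6.5).
-/

set_option autoImplicit false
set_option linter.style.haveILetI false
set_option linter.unusedSectionVars false

namespace Cfsg.Agent.Cit.Nil.ROne

open Subgroup Cfsg Cit QuaternionGroup

variable {G : Type*} [Group G] {Z : Set G} {K : G → Subgroup G} {z u v x y g a b : G}

/-- `E_z^+` -/
def Ep (Z : Set G) (K : G → Subgroup G) (z : G) : Subgroup G :=
  closure {e | ∃ y₁ y₂, Tw Z K z y₁ ∧ Tw Z K z y₂ ∧ e = y₁ * y₂}

/-- (5.6) -/
def Sw (Z : Set G) (K : G → Subgroup G) : Prop := ∀ u ∈ Z, ∀ v ∈ Z, CSw K u v →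
  ∀ y, Tw Z K u y → v * y * v⁻¹ ≠ y

theorem mul_mem_Ep (hu : Tw Z K z u) (hv : Tw Z K z v) : u * v ∈ Ep Z K z := subset_closure ⟨u, v, hu, hv, rfl⟩

theorem Ep_tw (h : Tw Z K z u) : Ep Z K z = Ep Z K u := by
  have key : ∀ {z u : G}, cl Z K z = cl Z K u → Ep Z K z ≤ Ep Z K u := by
    intro z u h
    refine (closure_le _).2 ?_
    rintro _ ⟨y₁, y₂, h1, h2, rfl⟩
    exact mul_mem_Ep ⟨h1.1, h.symm.trans h1.2⟩ ⟨h2.1, h.symm.trans h2.2⟩
  exact le_antisymm (key h.2) (key h.2.symm)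

namespace W

section

variable (h : W Z K)

include h

/-- (5.3) `C(z) ≤ N([z])` -/
theorem tw_of_comm (hz : z ∈ Z) (hu : Tw Z K z u) (hg : g * z = z * g) : Tw Z K z (g * u * g⁻¹) := by
  have h1 := h.tw_conj hz hu g
  rwa [hg, mul_inv_cancel_right] at h1

theorem Ep_conj (hz : z ∈ Z) (g : G) : Ep Z K (g * z * g⁻¹) = cj g (Ep Z K z) := by
  have key : ∀ {z : G} (g : G), z ∈ Z → cj g (Ep Z K z) ≤ Ep Z K (g * z * g⁻¹) := by
    intro z g hz
    refine Subgroup.map_le_iff_le_comap.2 ((closure_le _).2 ?_)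
    rintro _ ⟨y₁, y₂, h1, h2, rfl⟩
    change g * (y₁ * y₂) * g⁻¹ ∈ Ep Z K (g * z * g⁻¹)
    have e : g * (y₁ * y₂) * g⁻¹ = (g * y₁ * g⁻¹) * (g * y₂ * g⁻¹) := by group
    rw [e]
    exact mul_mem_Ep (h.tw_conj hz h1 g) (h.tw_conj hz h2 g)
  refine le_antisymm ?_ (key g hz)
  intro x hx
  have h1 : g⁻¹ * x * g⁻¹⁻¹ ∈ Ep Z K (g⁻¹ * (g * z * g⁻¹) * g⁻¹⁻¹) := key g⁻¹ (h.conjZ z hz g) (conj_mem_cj (g := g⁻¹) hx)
  have e : g⁻¹ * (g * z * g⁻¹) * g⁻¹⁻¹ = z := by group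
  rw [e] at h1
  have h2 := conj_mem_cj (g := g) h1
  have e2 : g * (g⁻¹ * x * g⁻¹⁻¹) * g⁻¹ = x := by group
  rwa [e2] at h2

/-! ### (6.1) -/

variable (h56 : Sw Z K)

include h56

/-- **(6.1)** -/
theorem np_of_tw (hz : z ∈ Z) (hx : x ∈ Z) (hn : NP K z x) (hy : Tw Z K z y) : NP K y x := by
  have h1 : Tw Z K z (x * y * x⁻¹) := tw_of_comm h hz hy hn.2.1.symm
  have h2 : x * y * x⁻¹ = y := by
    by_contra hne
    have h3 : CSw K y x := by
      have h4 : Tw Z K y (x * y * x⁻¹) := (hy.symm hz).trans h1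
      exact h4.cp hy.1 (Ne.symm hne)
    refine h56 y hy.1 x hx h3 z (hy.symm hz) ?_
    rw [← hn.2.1, mul_inv_cancel_right]
  have h3 : ¬ x ∈ cl Z K z := by
    rintro ⟨-, h4 | h4⟩
    · exact hn.1 h4.symm
    · exact hn.2.2 h4
  refine ⟨?_, ?_, ?_⟩
  · rintro rfl
    exact h3 (by rw [hy.2]; exact self_mem_cl hy.1)
  · exact (mul_inv_eq_iff_eq_mul.1 h2).symm
  · intro h4
    exact h3 (by rw [hy.2]; exact ⟨hx, Or.inr h4⟩)

/-- all pairs of `[z] × [x]` are N-pairs -/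
theorem np_of_tw_tw (hz : z ∈ Z) (hx : x ∈ Z) (hn : NP K z x) (hy : Tw Z K z y) (hu : Tw Z K x u) : NP K y u :=
  (np_of_tw h h56 hx hy.1 (np_of_tw h h56 hz hx hn hy).symm hu).symm

end

/-! ### (6.4) -/

section

variable [Finite G] (h : W Z K) (h56 : Sw Z K)

include h h56

omit h56 in
private theorem triple' (hu : u ∈ Z) (hv : v ∈ Z) (hx : x ∈ Z) (hc : CP K u v) (h1 : NP K u x) (h2 : NP K v x) :
    Cen K (u * v) x := by
  have e8 : ∀ L ∈ K '' Z, Nat.card L = 8 := by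
    rintro _ ⟨z, hz, rfl⟩
    exact h.card8 hz
  have e1 : ∀ L ∈ K '' Z, ∀ M ∈ K '' Z, zz L = zz M → L = M := by
    rintro _ ⟨z, hz, rfl⟩ _ ⟨u, hu, rfl⟩ h1
    rw [h.zz_K hz, h.zz_K hu] at h1
    rw [h1]
  have h3 := Cit.ROne.triple_aux (K := K x) (L := K u) (M := K v) h.hyp e1 e8 ⟨x, hx, rfl⟩ ⟨u, hu, rfl⟩
    ⟨v, hv, rfl⟩ (fun e => hc.1 (h.K_inj hu hv e))
  rw [h.zz_K hx, h.zz_K hu, h.zz_K hv] at h3
  exact h3 (h.cen_of_cp hv hc) h1.2.1.symm h2.2.1.symm (fun e => h1.2.2 (h.csymm hx hu h1.1.symm e).symm)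
    (fun e => h2.2.2 (h.csymm hx hv h2.1.symm e).symm)

omit h56 in
/-- some `a ∈ K x` moves `z` to `z x` -/
theorem exists_flip (hz : z ∈ Z) (hx : x ∈ Z) (hn : NP K z x) : ∃ a ∈ K x, a * z * a⁻¹ = z * x := by
  obtain ⟨c, hc, -, -, h1, -⟩ := h.flip hx hz hn.symm
  exact ⟨c, hc, h1.trans hn.2.1.symm⟩

/-- products of two twins centralise `K x` -/
theorem cen_of_tw (hz : z ∈ Z) (hx : x ∈ Z) (hn : NP K z x) (hu : Tw Z K z u) (hv : Tw Z K z v) :
    Cen K (u * v) x := by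
  by_cases hne : u = v
  · subst hne
    intro k _
    rw [h.sq u hu.1, one_mul, mul_one]
  · exact h.triple' hu.1 hv.1 hx (((hu.symm hz).trans hv).cp hu.1 hne) (np_of_tw h h56 hz hx hn hu)
      (np_of_tw h h56 hz hx hn hv)

/-- `E_z^+` centralises `K x` -/
theorem Ep_le (hz : z ∈ Z) (hx : x ∈ Z) (hn : NP K z x) : Ep Z K z ≤ centralizer (K x : Set G) := by
  refine (closure_le _).2 ?_
  rintro _ ⟨u, v, hu, hv, rfl⟩
  rw [SetLike.mem_coe, mem_centralizer_iff]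
  exact fun k hk => (cen_of_tw h h56 hz hx hn hu hv k hk).symm

/-- the element `a` moves all twins of `z` in the same way -/
theorem flip_tw (hz : z ∈ Z) (hx : x ∈ Z) (hn : NP K z x) (ha : a ∈ K x) (haz : a * z * a⁻¹ = z * x)
    (hy : Tw Z K z y) : a * y * a⁻¹ = y * x := by
  have h1 := cen_of_tw h h56 hz hx hn hy (Tw.refl hz) a ha
  have h2 : a * y * a⁻¹ * (a * z * a⁻¹) = y * z := by
    calc a * y * a⁻¹ * (a * z * a⁻¹) = a * (y * z) * a⁻¹ := by group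
      _ = y * z * a * a⁻¹ := by rw [h1]
      _ = y * z := mul_inv_cancel_right _ _
  rw [haz] at h2
  have hzz := h.sq z hz
  have hxx := h.sq x hx
  calc a * y * a⁻¹ = a * y * a⁻¹ * (z * x) * (x * z) := by
        have : (z * x) * (x * z) = 1 := by
          calc z * x * (x * z) = z * (x * x) * z := by group
            _ = 1 := by rw [hxx, mul_one, hzz]
        rw [mul_assoc (a * y * a⁻¹), this, mul_one]
    _ = y * z * (z * x) := by rw [h2, hn.2.1]
    _ = y * (z * z) * x := by group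
    _ = y * x := by rw [hzz, mul_one]

/-- `[z x] = [z] x` -/
theorem tw_mul (hz : z ∈ Z) (hx : x ∈ Z) (hn : NP K z x) (v : G) : Tw Z K (z * x) v ↔ Tw Z K z (v * x) := by
  obtain ⟨a, ha, haz⟩ := h.exists_flip hz hx hn
  have hxx := h.sq x hx
  have hx' : x⁻¹ = x := h.inv hx
  constructor
  · intro hv
    rw [← haz] at hv
    have h1 := h.tw_conj (h.conjZ z hz a) hv a⁻¹
    have e1 : a⁻¹ * (a * z * a⁻¹) * a⁻¹⁻¹ = z := by group
    rw [e1] at h1
    have h2 := flip_tw h h56 hz hx hn ha haz h1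
    have e2 : a * (a⁻¹ * v * a⁻¹⁻¹) * a⁻¹ = v := by group
    rw [e2] at h2
    have h3 : v * x = a⁻¹ * v * a⁻¹⁻¹ := by
      rw [h2, mul_assoc, hxx, mul_one, ← h2]
    rwa [h3]
  · intro hy
    have h2 := flip_tw h h56 hz hx hn ha haz hy
    rw [mul_assoc v x x, hxx, mul_one] at h2
    rw [← h2, ← haz]
    exact h.tw_conj hz hy a

/-- **(6.4)** `E_z^+ = E_x^+` -/
theorem Ep_eq (hz : z ∈ Z) (hx : x ∈ Z) (hn : NP K z x) : Ep Z K z = Ep Z K x := by
  have key : ∀ {z x : G}, z ∈ Z → x ∈ Z → NP K z x → Ep Z K x ≤ Ep Z K z := by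
    intro z x hz hx hn
    refine (closure_le _).2 ?_
    rintro _ ⟨u, v, hu, hv, rfl⟩
    have hzz := h.sq z hz
    have hxx := h.sq x hx
    -- `u z`, `v z` are in `[x z] = [z x] = [z] x`
    have h1 : ∀ u, Tw Z K x u → Tw Z K z (u * z * x) := by
      intro u hu
      rw [← tw_mul h h56 hz hx hn, hn.2.1, tw_mul h h56 hx hz hn.symm, mul_assoc, hzz, mul_one]
      exact hu
    have n1 := np_of_tw h h56 hx hz hn.symm hv
    have e3 : u * v = (u * z * x) * (v * z * x) := by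
      have e4 : v * z * x = x * z * v := by
        have n2 := np_of_tw h h56 hz hx hn (h1 v hv)
        have e5 : v * z * x * x = v * z := by rw [mul_assoc, hxx, mul_one]
        rw [n2.2.1] at e5
        calc v * z * x = x * (x * (v * z * x)) := by rw [← mul_assoc, hxx, one_mul]
          _ = x * (v * z) := by rw [e5]
          _ = x * (z * v) := by rw [n1.2.1]
          _ = x * z * v := by rw [mul_assoc]
      rw [e4]
      calc u * v = u * 1 * v := by group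
        _ = u * (z * (x * x) * z) * v := by rw [hxx, mul_one z, hzz]
        _ = _ := by group
    rw [e3]
    exact mul_mem_Ep (h1 u hu) (h1 v hv)
  exact le_antisymm (key hx hz hn.symm) (key hz hx hn)

/-- `z ∉ E_z^+` -/
theorem notMem_Ep (hz : z ∈ Z) (hx : x ∈ Z) (hn : NP K z x) : z ∉ Ep Z K z := by
  intro h1
  refine hn.2.2 (h.csymm hx hz hn.1.symm fun k hk => ?_).symm
  exact (mem_centralizer_iff.1 (Ep_le h h56 hz hx hn h1) k hk).symm

/-- **(6.5)** -/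
theorem t_eq {t : G → G} (ht : ∀ z ∈ Z, ∀ g, t (g * z * g⁻¹) = g * t z * g⁻¹) (htE : ∀ z ∈ Z, t z ∈ Ep Z K z)
    (hz : z ∈ Z) (hx : x ∈ Z) (hn : NP K z x) : t z = t x := by
  have key : ∀ {z x : G}, z ∈ Z → x ∈ Z → NP K z x → t (z * x) = t z := by
    intro z x hz hx hn
    obtain ⟨a, ha, haz⟩ := h.exists_flip hz hx hn
    rw [← haz, ht z hz]
    have h1 := mem_centralizer_iff.1 (Ep_le h h56 hz hx hn (htE z hz)) a ha
    rw [h1, mul_inv_cancel_right]
  rw [← key hz hx hn, hn.2.1, key hx hz hn.symm]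

end

end W

end Cfsg.Agent.Cit.Nil.ROne
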