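import Cfsg.Agent.Cit.SLThree

/-!
# Two commuting elements of order two acting on a quaternion group of order eight

`Qt.local_two` : let `x`, `u` be commuting elements with squares `1` normalising `Q = ⟨i, j⟩ ≅ Q8`.  Then `x u`
centralises `Q`, or there is `a ∈ Q` of order four with `xᵃ, uᵃ` equal to `(x, u z)`, `(x z, u)` or `(x z, u z)`.
-/

set_option autoImplicit false
set_option linter.unusedSectionVars false

namespace Cfsg.Agent.Cit.SLThree.Qt

open Subgroup Cfsg

variable {X : Type*} [Group X] {z i j : X}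

theorem z_comm (h : Qt z i j) {a : X} (ha : a ∈ closure {i, j}) : z * a = a * z := (h.comm_z ha).symm

/-- two elements of order four that do not commute -/
theorem nc (h : Qt z i j) {a b : X} (ha : a ∈ closure {i, j}) (hb : b ∈ closure {i, j}) (ha2 : a * a = z)
    (hb2 : b * b = z) (hne : ¬ (b = a ∨ b = z * a)) : b * a = z * (a * b) ∧ (a * b) * (a * b) = z := by
  have h1 : a * b ∈ closure {i, j} := mul_mem ha hb
  have h2 : ¬ (a * b) * (a * b) = 1 := by
    intro h3
    rcases h.sq_cases h1 h3 with h4 | h4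
    · apply hne
      right
      -- `b = a⁻¹ = z a`
      have h5 : a * (z * a) = 1 := by rw [← mul_assoc, ← h.z_comm ha, mul_assoc, ha2, h.z2]
      exact mul_left_cancel (a := a) (by rw [h4, h5])
    · apply hne
      left
      exact mul_left_cancel (a := a) (by rw [h4, ha2])
  have h3 := (h.sq h1).resolve_left h2
  refine ⟨?_, h3⟩
  -- `a b a b = z`, so `b a = a⁻¹ z b⁻¹`
  have h4 : a * (b * a) * b = a * (z * (a * b)) * b := by
    calc a * (b * a) * b = (a * b) * (a * b) := by group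
      _ = z := h3
      _ = z * (z * z) := by rw [h.z2, mul_one]
      _ = (a * a) * (z * (b * b)) := by rw [ha2, hb2]
      _ = a * (a * z) * (b * b) := by group
      _ = a * (z * a) * (b * b) := by rw [h.z_comm ha]
      _ = a * (z * (a * b)) * b := by group
  exact mul_left_cancel (mul_right_cancel h4)

/-- an involutory action fixing `d` of order four preserves `⟨b⟩` for every `b` of order four -/
theorem stable_of_fix (h : Qt z i j) {x b d : X} (hN : ∀ a ∈ closure {i, j}, x * a * x⁻¹ ∈ closure {i, j})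
    (hz : x * z * x⁻¹ = z) (hx2 : x * x = 1) (hd : d ∈ closure {i, j}) (hd2 : d * d = z)
    (hxd : x * d * x⁻¹ = d) (hb : b ∈ closure {i, j}) (hb2 : b * b = z) (hne : ¬ (b = d ∨ b = z * d)) :
    x * b * x⁻¹ = b ∨ x * b * x⁻¹ = z * b := by
  have hcj : ∀ p q : X, x * (p * q) * x⁻¹ = (x * p * x⁻¹) * (x * q * x⁻¹) := fun p q => by group
  have hxx : ∀ p : X, x * (x * p * x⁻¹) * x⁻¹ = p := by
    intro p
    calc x * (x * p * x⁻¹) * x⁻¹ = (x * x) * p * (x * x)⁻¹ := by group
      _ = p := by rw [hx2]; group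
  obtain ⟨b', hb'⟩ : ∃ b', b' = x * b * x⁻¹ := ⟨_, rfl⟩
  have hb'm : b' ∈ closure {i, j} := hb' ▸ hN b hb
  have hb'2 : b' * b' = z := by rw [hb', ← hcj, hb2, hz]
  have hne' : ¬ (b' = d ∨ b' = z * d) := by
    rintro (h1 | h1)
    · apply hne; left
      have := hxx b
      rw [← hb', h1, hxd] at this
      exact this.symm
    · apply hne; right
      have := hxx b
      rw [← hb', h1, hcj, hz, hxd] at this
      exact this.symm
  by_contra hcon
  rw [← hb'] at hcon
  obtain ⟨h1, h2⟩ := h.nc hd hb hd2 hb2 hne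
  obtain ⟨h3, h4⟩ := h.nc hd hb'm hd2 hb'2 hne'
  obtain ⟨h5, h6⟩ := h.nc hb hb'm hb2 hb'2 hcon
  -- `f = b b'` commutes with `d`
  have h7 : d * (b * b') = (b * b') * d := by
    have e1 : d * b = z * (b * d) := by rw [h1, h.zz]
    have e2 : d * b' = z * (b' * d) := by rw [h3, h.zz]
    calc d * (b * b') = (d * b) * b' := by group
      _ = z * (b * (d * b')) := by rw [e1]; group
      _ = z * (b * z) * (b' * d) := by rw [e2]; group
      _ = z * (z * b) * (b' * d) := by rw [h.z_comm hb]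
      _ = (b * b') * d := by rw [h.zz]; group
  have h8 := h.eq_or hd (mul_mem hb hb'm) hd2 h6 h7
  -- apply `x` to `b b' = z^ε d`
  have h9 : x * (b * b') * x⁻¹ = b * b' := by
    rcases h8 with h8 | h8
    · rw [h8, hxd]
    · rw [h8, hcj, hz, hxd]
  have h10 : x * (b * b') * x⁻¹ = b' * b := by
    rw [hcj, ← hb', hb', hxx]
  rw [h9, h5] at h10
  exact h.z1 (mul_right_cancel (b := b * b') (by rw [one_mul]; exact h10.symm))

/-- **local lemma** -/
theorem local_two [Finite X] (h : Qt z i j) {x u : X}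
    (hN : ∀ a ∈ closure {i, j}, x * a * x⁻¹ ∈ closure {i, j}) (hM : ∀ a ∈ closure {i, j}, u * a * u⁻¹ ∈ closure {i, j})
    (hxz : x * z * x⁻¹ = z) (huz : u * z * u⁻¹ = z) (hx2 : x * x = 1) (hu2 : u * u = 1) (hxu : x * u = u * x) :
    (∀ k ∈ closure {i, j}, (x * u) * k = k * (x * u)) ∨
      ∃ a ∈ closure {i, j}, a * a = z ∧
        ((x * a * x⁻¹ = a ∧ u * a * u⁻¹ = z * a) ∨ (x * a * x⁻¹ = z * a ∧ u * a * u⁻¹ = a) ∨
          (x * a * x⁻¹ = z * a ∧ u * a * u⁻¹ = z * a)) := by
  have cx : ∀ p q : X, x * (p * q) * x⁻¹ = (x * p * x⁻¹) * (x * q * x⁻¹) := fun p q => by group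
  have cu : ∀ p q : X, u * (p * q) * u⁻¹ = (u * p * u⁻¹) * (u * q * u⁻¹) := fun p q => by group
  have hxx : ∀ p : X, x * (x * p * x⁻¹) * x⁻¹ = p := by
    intro p
    calc x * (x * p * x⁻¹) * x⁻¹ = (x * x) * p * (x * x)⁻¹ := by group
      _ = p := by rw [hx2]; group
  have huu : ∀ p : X, u * (u * p * u⁻¹) * u⁻¹ = p := by
    intro p
    calc u * (u * p * u⁻¹) * u⁻¹ = (u * u) * p * (u * u)⁻¹ := by group
      _ = p := by rw [hu2]; group
  have hxuc : ∀ p : X, x * (u * p * u⁻¹) * x⁻¹ = u * (x * p * x⁻¹) * u⁻¹ := by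
    intro p
    calc x * (u * p * u⁻¹) * x⁻¹ = (x * u) * p * (x * u)⁻¹ := by group
      _ = u * (x * p * x⁻¹) * u⁻¹ := by rw [hxu]; group
  have sqx : ∀ {p : X}, p * p = z → (x * p * x⁻¹) * (x * p * x⁻¹) = z := fun hp => by rw [← cx, hp, hxz]
  have squ : ∀ {p : X}, p * p = z → (u * p * u⁻¹) * (u * p * u⁻¹) = z := fun hp => by rw [← cu, hp, huz]
  -- `d` stable under `x`
  obtain ⟨d, hd, hd2, hdx⟩ : ∃ d ∈ closure {i, j}, d * d = z ∧ (x * d * x⁻¹ = d ∨ x * d * x⁻¹ = z * d) := by
    by_cases h1 : x * i * x⁻¹ = i ∨ x * i * x⁻¹ = z * i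
    · exact ⟨i, mem_i z i j, h.i2, h1⟩
    · obtain ⟨h2, h3⟩ := h.nc (mem_i z i j) (hN i (mem_i z i j)) h.i2 (sqx h.i2) h1
      refine ⟨i * (x * i * x⁻¹), mul_mem (mem_i z i j) (hN i (mem_i z i j)), h3, Or.inr ?_⟩
      rw [cx, hxx, h2]
  by_cases h1 : u * d * u⁻¹ = d ∨ u * d * u⁻¹ = z * d
  · -- both stable
    by_cases h2 : x * d * x⁻¹ = d ∧ u * d * u⁻¹ = d
    · obtain ⟨hxd, hud⟩ := h2
      obtain ⟨b, hb, hb2, hbd⟩ := h.exists_inv hd hd2
      have hne : ¬ (b = d ∨ b = z * d) := by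
        rintro (rfl | rfl)
        · exact h.z1 (mul_right_cancel (b := b * b) (by rw [one_mul]; exact hbd.symm))
        · have e1 : z * d * d = d * (z * d) := by rw [mul_assoc, hd2, ← mul_assoc, ← h.z_comm hd, mul_assoc, hd2]
          rw [e1] at hbd
          exact h.z1 (mul_right_cancel (b := d * (z * d)) (by rw [one_mul]; exact hbd.symm))
      have hQ : Qt z d b := ⟨h.z2, h.z1, hd2, hb2, hbd⟩
      have hcl : closure ({d, b} : Set X) = closure {i, j} := by
        apply eq_of_le_of_card_ge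
        · rw [closure_le]
          rintro y (rfl | rfl)
          · exact hd
          · exact hb
        · rw [hQ.card, h.card]
      have hxb := h.stable_of_fix hN hxz hx2 hd hd2 hxd hb hb2 hne
      have hub := h.stable_of_fix hM huz hu2 hd hd2 hud hb hb2 hne
      have key : (x * u) * b * (x * u)⁻¹ = b → ∀ k ∈ closure {i, j}, (x * u) * k = k * (x * u) := by
        intro hk k hkm
        rw [← hcl] at hkm
        have h5 : closure ({d, b} : Set X) ≤ centralizer {x * u} := by
          rw [closure_le]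
          rintro y (rfl | rfl)
          · refine mem_centralizer_singleton_iff.2 ?_
            have : (x * u) * y * (x * u)⁻¹ = y := by
              calc (x * u) * y * (x * u)⁻¹ = x * (u * y * u⁻¹) * x⁻¹ := by group
                _ = y := by rw [hud, hxd]
            rw [mul_inv_eq_iff_eq_mul] at this
            exact this.symm
          · refine mem_centralizer_singleton_iff.2 ?_
            rw [mul_inv_eq_iff_eq_mul] at hk
            exact hk.symm
        exact (mem_centralizer_singleton_iff.1 (h5 hkm)).symm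
      have e1 : (x * u) * b * (x * u)⁻¹ = x * (u * b * u⁻¹) * x⁻¹ := by group
      rcases hxb with hxb | hxb <;> rcases hub with hub | hub
      · left
        apply key
        rw [e1, hub, hxb]
      · exact Or.inr ⟨b, hb, hb2, Or.inl ⟨hxb, hub⟩⟩
      · exact Or.inr ⟨b, hb, hb2, Or.inr (Or.inl ⟨hxb, hub⟩)⟩
      · left
        apply key
        rw [e1, hub, cx, hxz, hxb, h.zz]
    · right
      refine ⟨d, hd, hd2, ?_⟩
      rcases hdx with hdx | hdx <;> rcases h1 with h1 | h1
      · exact absurd ⟨hdx, h1⟩ h2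
      · exact Or.inl ⟨hdx, h1⟩
      · exact Or.inr (Or.inl ⟨hdx, h1⟩)
      · exact Or.inr (Or.inr ⟨hdx, h1⟩)
  · right
    obtain ⟨h2, h3⟩ := h.nc hd (hM d hd) hd2 (squ hd2) h1
    refine ⟨d * (u * d * u⁻¹), mul_mem hd (hM d hd), h3, Or.inl ⟨?_, ?_⟩⟩
    · rw [cx, hxuc]
      rcases hdx with hdx | hdx
      · rw [hdx]
      · rw [hdx, cu, huz]
        calc z * d * (z * (u * d * u⁻¹)) = z * (d * z) * (u * d * u⁻¹) := by group
          _ = z * (z * d) * (u * d * u⁻¹) := by rw [h.z_comm hd]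
          _ = d * (u * d * u⁻¹) := by rw [h.zz]
    · rw [cu, huu, h2]

end Cfsg.Agent.Cit.SLThree.Qt
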