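import Cfsg.Agent.Cit.Nil.ROne.QEight

/-!
# (6b), `r = 1`: the count of step 9 (helper545, (9.1)(iii))

`T` elementary abelian, `τ i ≠ 1` (`i ∈ ι`), `H ≤ T × Q₈^ι` of index `≤ 2|ι|`, such that an element
`(t, ((a 2)^{e i}))` of `H` satisfies `t ∏ (τ i)^{e i} = 1`: impossible.
-/

set_option autoImplicit false
set_option linter.style.haveILetI false
set_option linter.unusedSectionVars false

namespace Cfsg.Agent.Cit.Nil.ROne.StrongCount

open QuaternionGroup QEight

/-! ### Linear algebra over `𝔽₂` -/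

/-- a plane for each index -/
abbrev V (ι : Type*) := ι → ZMod 2 × ZMod 2

/-- the sum of the determinants over `J` -/
noncomputable def form {ι : Type*} (J : Finset ι) : LinearMap.BilinForm (ZMod 2) (V ι) :=
  LinearMap.mk₂ (ZMod 2) (fun x y => ∑ i ∈ J, ((x i).1 * (y i).2 + (x i).2 * (y i).1))
    (fun x x' y => by
      rw [← Finset.sum_add_distrib]
      refine Finset.sum_congr rfl fun i _ => ?_
      simp only [Pi.add_apply, Prod.fst_add, Prod.snd_add]; ring)
    (fun c x y => by
      rw [Finset.smul_sum]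
      refine Finset.sum_congr rfl fun i _ => ?_
      simp only [Pi.smul_apply, Prod.smul_fst, Prod.smul_snd, smul_eq_mul]; ring)
    (fun x y y' => by
      rw [← Finset.sum_add_distrib]
      refine Finset.sum_congr rfl fun i _ => ?_
      simp only [Pi.add_apply, Prod.fst_add, Prod.snd_add]; ring)
    (fun c x y => by
      rw [Finset.smul_sum]
      refine Finset.sum_congr rfl fun i _ => ?_
      simp only [Pi.smul_apply, Prod.smul_fst, Prod.smul_snd, smul_eq_mul]; ring)

theorem form_apply {ι : Type*} (J : Finset ι) (x y : V ι) :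
    form J x y = ∑ i ∈ J, ((x i).1 * (y i).2 + (x i).2 * (y i).1) := rfl

theorem form_refl {ι : Type*} (J : Finset ι) : (form J).IsRefl := by
  intro x y h
  rw [form_apply] at h ⊢
  rw [← h]
  refine Finset.sum_congr rfl fun i _ => ?_
  ring

theorem finrank_V {ι : Type*} [Fintype ι] : Module.finrank (ZMod 2) (V ι) = 2 * Fintype.card ι := by
  rw [Module.finrank_pi_fintype]
  simp [mul_comm]

/-- the radical vanishes on `J` -/
theorem rad_apply {ι : Type*} [Fintype ι] (J : Finset ι) {x : V ι} (hx : x ∈ (form J).orthogonal ⊤) {i : ι}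
    (hi : i ∈ J) : x i = 0 := by
  classical
  rw [LinearMap.BilinForm.mem_orthogonal_iff] at hx
  have key : ∀ v : ZMod 2 × ZMod 2, v.1 * (x i).2 + v.2 * (x i).1 = 0 := by
    intro v
    have h1 := hx (Pi.single i v) Submodule.mem_top
    rw [form_apply, Finset.sum_eq_single_of_mem i hi] at h1
    · rwa [Pi.single_eq_same] at h1
    · intro j _ hj
      rw [Pi.single_eq_of_ne hj]
      simp
  have h1 := key (1, 0)
  have h2 := key (0, 1)
  simp only [one_mul, zero_mul, add_zero, zero_add] at h1 h2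
  exact Prod.ext h2 h1

theorem isotropic {ι : Type*} [Fintype ι] (J : Finset ι) (H : Submodule (ZMod 2) (V ι))
    (hH : ∀ x ∈ H, ∀ y ∈ H, ∑ i ∈ J, ((x i).1 * (y i).2 + (x i).2 * (y i).1) = 0) :
    Nat.card H * 2 ^ J.card ≤ 4 ^ Fintype.card ι := by
  classical
  have h1 := LinearMap.BilinForm.finrank_add_finrank_orthogonal (form_refl J) H
  have h2 : Module.finrank (ZMod 2) H ≤ Module.finrank (ZMod 2) ((form J).orthogonal H) := by
    refine Submodule.finrank_mono fun x hx => ?_
    rw [LinearMap.BilinForm.mem_orthogonal_iff]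
    intro y hy
    exact hH y hy x hx
  have h3 : Module.finrank (ZMod 2) ↥(H ⊓ (form J).orthogonal ⊤) + 2 * J.card ≤ 2 * Fintype.card ι := by
    let f : ↥(H ⊓ (form J).orthogonal ⊤) →ₗ[ZMod 2] V {i // i ∉ J} :=
      { toFun := fun x i => (x : V ι) i
        map_add' := fun x y => rfl
        map_smul' := fun c x => rfl }
    have h4 : Function.Injective f := by
      intro x y hxy
      refine Subtype.ext (funext fun i => ?_)
      by_cases hi : i ∈ J
      · rw [rad_apply J x.2.2 hi, rad_apply J y.2.2 hi]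
      · exact congrFun hxy ⟨i, hi⟩
    have h5 := LinearMap.finrank_le_finrank_of_injective h4
    rw [finrank_V] at h5
    have h6 : Fintype.card {i // i ∉ J} = Fintype.card ι - J.card := by
      rw [Fintype.card_subtype_compl, Fintype.card_coe]
    have h7 : J.card ≤ Fintype.card ι := Finset.card_le_univ J
    omega
  rw [finrank_V] at h1
  have h4 : Nat.card H = 2 ^ Module.finrank (ZMod 2) H := by
    rw [Module.natCard_eq_pow_finrank (K := ZMod 2), Nat.card_zmod]
  have h5 : (4 : ℕ) ^ Fintype.card ι = 2 ^ (2 * Fintype.card ι) := by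
    rw [pow_mul]; norm_num
  rw [h4, h5, ← pow_add]
  exact Nat.pow_le_pow_right (by norm_num) (by omega)

/-! ### Averaging over the functionals -/

theorem exists_functional {T : Type*} [AddCommGroup T] [Module (ZMod 2) T] [Finite T] {ι : Type*} [Fintype ι]
    [Nonempty ι] (τ : ι → T) (hτ : ∀ i, τ i ≠ 0) : ∃ χ : T →ₗ[ZMod 2] ZMod 2,
      Fintype.card ι < 2 * (Finset.univ.filter fun i => χ (τ i) = 1).card := by
  classical
  haveI : Finite (T →ₗ[ZMod 2] ZMod 2) := Finite.of_injective _ DFunLike.coe_injective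
  haveI : Fintype (T →ₗ[ZMod 2] ZMod 2) := Fintype.ofFinite _
  have z2 : ∀ x : ZMod 2, x ≠ 1 ↔ x = 0 := by decide
  by_contra hcon
  push Not at hcon
  have hcount : ∀ i, 2 * (Finset.univ.filter fun χ : T →ₗ[ZMod 2] ZMod 2 => χ (τ i) = 1).card =
      Fintype.card (T →ₗ[ZMod 2] ZMod 2) := by
    intro i
    obtain ⟨χ₀, hχ₀⟩ : ∃ φ : Module.Dual (ZMod 2) T, φ (τ i) ≠ 0 := by
      by_contra h
      push Not at h
      exact hτ i ((Module.forall_dual_apply_eq_zero_iff (ZMod 2) (τ i)).1 h)
    have h1 : χ₀ (τ i) = 1 := by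
      by_contra h
      exact hχ₀ ((z2 _).1 h)
    have h2 : (Finset.univ.filter fun χ : T →ₗ[ZMod 2] ZMod 2 => χ (τ i) = 1).card =
        (Finset.univ.filter fun χ : T →ₗ[ZMod 2] ZMod 2 => ¬ χ (τ i) = 1).card := by
      refine Finset.card_bij' (fun χ _ => χ + χ₀) (fun χ _ => χ + χ₀) ?_ ?_ ?_ ?_
      · intro χ hχ
        rw [Finset.mem_filter] at hχ ⊢
        refine ⟨Finset.mem_univ _, ?_⟩
        rw [LinearMap.add_apply, hχ.2, h1]
        decide
      · intro χ hχ
        rw [Finset.mem_filter] at hχ ⊢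
        refine ⟨Finset.mem_univ _, ?_⟩
        rw [LinearMap.add_apply, (z2 _).1 hχ.2, h1]
        decide
      · intro χ _
        ext t
        simp only [LinearMap.add_apply, add_assoc, CharTwo.add_self_eq_zero, add_zero]
      · intro χ _
        ext t
        simp only [LinearMap.add_apply, add_assoc, CharTwo.add_self_eq_zero, add_zero]
    have h3 := Finset.card_filter_add_card_filter_not (s := (Finset.univ : Finset (T →ₗ[ZMod 2] ZMod 2)))
      (fun χ => χ (τ i) = 1)
    rw [Finset.card_univ] at h3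
    omega
  have hsum : ∑ χ : T →ₗ[ZMod 2] ZMod 2, 2 * (Finset.univ.filter fun i => χ (τ i) = 1).card =
      ∑ _χ : T →ₗ[ZMod 2] ZMod 2, Fintype.card ι := by
    rw [← Finset.mul_sum]
    have h4 : ∑ χ : T →ₗ[ZMod 2] ZMod 2, (Finset.univ.filter fun i => χ (τ i) = 1).card =
        ∑ i : ι, (Finset.univ.filter fun χ : T →ₗ[ZMod 2] ZMod 2 => χ (τ i) = 1).card := by
      simp only [Finset.card_filter]
      exact Finset.sum_comm
    rw [h4, Finset.mul_sum, Finset.sum_congr rfl (fun i _ => hcount i), Finset.sum_const, Finset.sum_const,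
      Finset.card_univ, Finset.card_univ, smul_eq_mul, smul_eq_mul, mul_comm]
  have hlt : ∑ χ : T →ₗ[ZMod 2] ZMod 2, 2 * (Finset.univ.filter fun i => χ (τ i) = 1).card <
      ∑ _χ : T →ₗ[ZMod 2] ZMod 2, Fintype.card ι := by
    refine Finset.sum_lt_sum (fun χ _ => hcon χ) ⟨0, Finset.mem_univ _, ?_⟩
    have h5 : (Finset.univ.filter fun i => (0 : T →ₗ[ZMod 2] ZMod 2) (τ i) = 1) = ∅ := by
      refine Finset.filter_eq_empty_iff.2 fun i _ => ?_
      rw [LinearMap.zero_apply]
      decide
    rw [h5, Finset.card_empty, mul_zero]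
    exact Fintype.card_pos
  exact absurd hsum hlt.ne

/-! ### The quaternion group modulo its centre -/

/-- first coordinate -/
def c1 : Q → ZMod 2
  | a i => (i.val : ZMod 2)
  | xa i => (i.val : ZMod 2)

/-- second coordinate -/
def c2 : Q → ZMod 2
  | a _ => 0
  | xa _ => 1

theorem c1_mul : ∀ x y : Q, c1 (x * y) = c1 x + c1 y := by decide

theorem c2_mul : ∀ x y : Q, c2 (x * y) = c2 x + c2 y := by decide

theorem eq_of_c : ∀ x : Q, c1 x = 0 → c2 x = 0 → x = 1 ∨ x = a 2 := by decide

theorem comm_c : ∀ x y : Q, x * y * x⁻¹ * y⁻¹ = (a 2) ^ (c1 x * c2 y + c2 x * c1 y).val := by decide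

/-- the coordinates -/
def pr {T ι : Type*} [CommGroup T] : T × (ι → Q) →* Multiplicative (V ι) where
  toFun p := Multiplicative.ofAdd fun i => (c1 (p.2 i), c2 (p.2 i))
  map_one' := rfl
  map_mul' p q := by
    refine congrArg Multiplicative.ofAdd (funext fun i => ?_)
    exact Prod.ext (c1_mul _ _) (c2_mul _ _)

/-- **the count** -/
theorem count {T ι : Type*} [CommGroup T] [Finite T] (hT : ∀ t : T, t * t = 1) [Fintype ι] [Nonempty ι]
    (τ : ι → T) (hτ : ∀ i, τ i ≠ 1) (H : Subgroup (T × (ι → Q)))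
    (hH : ∀ (t : T) (e : ι → ℕ), ((t, fun i => (a 2 : Q) ^ e i) : T × (ι → Q)) ∈ H → t * ∏ i, τ i ^ e i = 1)
    (hidx : H.index ≤ 2 * Fintype.card ι) : False := by
  classical
  letI : Module (ZMod 2) (Additive T) := AddCommGroup.zmodModule fun x => by
    rw [two_nsmul]
    exact hT x.toMul
  obtain ⟨χ, hχ⟩ := exists_functional (T := Additive T) (fun i => Additive.ofMul (τ i)) (fun i h => hτ i h)
  set J := Finset.univ.filter fun i => χ (Additive.ofMul (τ i)) = 1 with hJ
  -- the commutators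
  have hcom : ∀ p ∈ H, ∀ q ∈ H, ∑ i ∈ J, (c1 (p.2 i) * c2 (q.2 i) + c2 (p.2 i) * c1 (q.2 i)) = 0 := by
    intro p hp q hq
    have h1 : p * q * p⁻¹ * q⁻¹ ∈ H := H.mul_mem (H.mul_mem (H.mul_mem hp hq) (H.inv_mem hp)) (H.inv_mem hq)
    have h2 : p * q * p⁻¹ * q⁻¹ =
        ((1, fun i => (a 2 : Q) ^ (c1 (p.2 i) * c2 (q.2 i) + c2 (p.2 i) * c1 (q.2 i)).val) : T × (ι → Q)) := by
      refine Prod.ext ?_ (funext fun i => comm_c _ _)
      change p.1 * q.1 * p.1⁻¹ * q.1⁻¹ = 1
      rw [mul_comm p.1 q.1, mul_inv_cancel_right, mul_inv_cancel]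
    rw [h2] at h1
    have h3 := hH _ _ h1
    rw [one_mul] at h3
    have h4 := congrArg (fun t => χ (Additive.ofMul t)) h3
    simp only [ofMul_prod, ofMul_pow, map_sum, map_nsmul, ofMul_one, map_zero] at h4
    rw [← h4, hJ, Finset.sum_filter]
    refine Finset.sum_congr rfl fun i _ => ?_
    have z2 : ∀ x y : ZMod 2, (if x = 1 then y else 0) = y.val • x := by decide
    exact z2 _ _
  -- the image
  let f : H →* Multiplicative (V ι) := pr.comp H.subtype
  have hf : ∀ p : H, Multiplicative.toAdd (f p) = fun i => (c1 ((p : T × (ι → Q)).2 i), c2 ((p : T × (ι → Q)).2 i)) :=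
    fun p => rfl
  let W : Submodule (ZMod 2) (V ι) :=
    { carrier := {v | Multiplicative.ofAdd v ∈ f.range}
      add_mem' := fun {x y} hx hy => f.range.mul_mem hx hy
      zero_mem' := f.range.one_mem
      smul_mem' := fun c x hx => by
        have z2 : ∀ c : ZMod 2, c = 0 ∨ c = 1 := by decide
        rcases z2 c with rfl | rfl
        · rw [zero_smul]; exact f.range.one_mem
        · rwa [one_smul] }
  have hW : Nat.card W = Nat.card f.range :=
    Nat.card_congr ⟨fun v => ⟨Multiplicative.ofAdd v.1, v.2⟩, fun v => ⟨Multiplicative.toAdd v.1, v.2⟩,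
      fun v => rfl, fun v => rfl⟩
  have hiso : Nat.card W * 2 ^ J.card ≤ 4 ^ Fintype.card ι := by
    refine isotropic J W ?_
    rintro x ⟨p, hp⟩ y ⟨q, hq⟩
    have h1 := hcom p p.2 q q.2
    have h2 : x = fun i => (c1 ((p : T × (ι → Q)).2 i), c2 ((p : T × (ι → Q)).2 i)) := by
      rw [← hf, hp]; rfl
    have h3 : y = fun i => (c1 ((q : T × (ι → Q)).2 i), c2 ((q : T × (ι → Q)).2 i)) := by
      rw [← hf, hq]; rfl
    rw [h2, h3]
    exact h1
  -- the kernel
  have hker : Nat.card f.ker ≤ 2 ^ Fintype.card ι := by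
    let g : f.ker → (ι → Bool) := fun p i => decide (((p : H) : T × (ι → Q)).2 i = 1)
    have hform : ∀ p : f.ker, ∀ i, ((p : H) : T × (ι → Q)).2 i = 1 ∨ ((p : H) : T × (ι → Q)).2 i = a 2 := by
      intro p i
      have h1 : f (p : H) = 1 := p.2
      have h2 := congrFun (congrArg Multiplicative.toAdd h1) i
      rw [hf] at h2
      exact eq_of_c _ (congrArg Prod.fst h2) (congrArg Prod.snd h2)
    have hval : ∀ p : f.ker, ((p : H) : T × (ι → Q)).1 *
        ∏ i, τ i ^ (if g p i = true then 0 else 1) = 1 := by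
      intro p
      refine hH _ _ ?_
      have h1 : (((p : H) : T × (ι → Q)).1, fun i => (a 2 : Q) ^ (if g p i = true then 0 else 1)) =
          ((p : H) : T × (ι → Q)) := by
        refine Prod.ext rfl (funext fun i => ?_)
        have h2 : (a 2 : Q) ≠ 1 := by decide
        rcases hform p i with h3 | h3
        · simp [g, h3]
        · simp [g, h3, h2]
      rw [h1]
      exact (p : H).2
    have hinj : Function.Injective g := by
      intro p q hpq
      refine Subtype.ext (Subtype.ext (Prod.ext ?_ (funext fun i => ?_)))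
      · have h1 := hval p
        have h2 := hval q
        rw [hpq] at h1
        exact mul_right_cancel (h1.trans h2.symm)
      · have h1 := congrFun hpq i
        simp only [g, decide_eq_decide] at h1
        rcases hform p i with h2 | h2
        · rw [h2, h1.1 h2]
        · rcases hform q i with h3 | h3
          · rw [h3, h1.2 h3]
          · rw [h2, h3]
    have h1 := Nat.card_le_card_of_injective g hinj
    rwa [Nat.card_eq_fintype_card (α := ι → Bool), Fintype.card_fun, Fintype.card_bool] at h1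
  have hcard : Nat.card H = Nat.card f.ker * Nat.card W := by
    rw [hW, ← Subgroup.index_ker, Subgroup.card_mul_index]
  have hP : Nat.card (T × (ι → Q)) = Nat.card T * 8 ^ Fintype.card ι := by
    rw [Nat.card_prod]
    congr 1
    rw [Nat.card_eq_fintype_card, Fintype.card_fun]
    congr 1
  have hlag : Nat.card H * H.index = Nat.card (T × (ι → Q)) := Subgroup.card_mul_index H
  have hT2 : 2 ≤ Nat.card T := by
    obtain ⟨i⟩ := ‹Nonempty ι›
    haveI : Nontrivial T := ⟨⟨τ i, 1, hτ i⟩⟩
    exact Finite.one_lt_card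
  -- conclusion
  set n := J.card
  set k := Fintype.card ι
  have h8 : (8 : ℕ) ^ k = 2 ^ k * 4 ^ k := by rw [← mul_pow]; norm_num
  have h1 : Nat.card T * 8 ^ k * 2 ^ n ≤ 8 ^ k * (2 * k) := by
    calc Nat.card T * 8 ^ k * 2 ^ n = Nat.card H * H.index * 2 ^ n := by rw [hlag, hP]
      _ = Nat.card f.ker * (Nat.card W * 2 ^ n) * H.index := by rw [hcard]; ring
      _ ≤ 2 ^ k * 4 ^ k * (2 * k) := Nat.mul_le_mul (Nat.mul_le_mul hker hiso) hidx
      _ = 8 ^ k * (2 * k) := by rw [h8]
  have h2 : Nat.card T * 2 ^ n ≤ 2 * k := by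
    have h3 : 8 ^ k * (Nat.card T * 2 ^ n) ≤ 8 ^ k * (2 * k) := by
      calc 8 ^ k * (Nat.card T * 2 ^ n) = Nat.card T * 8 ^ k * 2 ^ n := by ring
        _ ≤ _ := h1
    exact Nat.le_of_mul_le_mul_left h3 (by positivity)
  have h3 : 2 * 2 ^ n ≤ Nat.card T * 2 ^ n := Nat.mul_le_mul_right _ hT2
  have h4 : ∀ n : ℕ, 2 * n ≤ 2 ^ n := by
    intro n
    induction n with
    | zero => norm_num
    | succ n ih =>
      rcases Nat.eq_zero_or_pos n with rfl | hn
      · norm_num
      · rw [pow_succ]; omega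
  have h5 := h4 n
  omega

end Cfsg.Agent.Cit.Nil.ROne.StrongCount
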