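import Cfsg.Agent.Cit.Nil.ROne.Defs

/-!
# `r = 1`: C-swaps, twins: shared definitions (sections 2, 3, 5 of `blueprints/R18-6b-r1-helper545.md`)

Conjugation is written `g * x * g⁻¹`.

* `CSw K u v` : `(u, v)` is a C-swap: `(u, v u v⁻¹)` is a C-pair;
* `wt u v` : `w(u, v) = u · v u v⁻¹`;
* `ZC Z K s` : `Z(s)`, the `z ∈ Z` with `[s, K z] = 1`;
* `NC s y` : `⟨y ^ C(s)⟩`;
* `cl Z K z` : `c[z] = {z} ∪ a₀(z)`;
* `Tw Z K z u` : `u ∈ [z]`, i.e. `u ∈ Z` and `c[z] = c[u]`.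
-/

set_option autoImplicit false

namespace Cfsg.Agent.Cit.Nil.ROne

open Subgroup Cfsg Cit

variable {G : Type*} [Group G]

/-- `(u, v)` is a C-swap -/
def CSw (K : G → Subgroup G) (u v : G) : Prop := CP K u (v * u * v⁻¹)

/-- `w(u, v)` -/
def wt (u v : G) : G := u * (v * u * v⁻¹)

/-- `Z(s)` -/
def ZC (Z : Set G) (K : G → Subgroup G) (s : G) : Set G := {z | z ∈ Z ∧ Cen K s z}

/-- `⟨y ^ C(s)⟩` -/
def NC (s y : G) : Subgroup G := closure {x | ∃ g, g * s = s * g ∧ x = g * y * g⁻¹}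

/-- `c[z]` -/
def cl (Z : Set G) (K : G → Subgroup G) (z : G) : Set G := {x | x ∈ Z ∧ (x = z ∨ CP K z x)}

/-- `u ∈ [z]` -/
def Tw (Z : Set G) (K : G → Subgroup G) (z u : G) : Prop := u ∈ Z ∧ cl Z K z = cl Z K u

variable {Z : Set G} {K : G → Subgroup G} {z u v x y g s : G}

theorem mem_cl : x ∈ cl Z K z ↔ x ∈ Z ∧ (x = z ∨ CP K z x) := Iff.rfl

theorem CP.symm (h : CP K u v) : CP K v u := ⟨h.1.symm, fun a ha b hb => (h.2 b hb a ha).symm⟩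

theorem CP.comm (w : W Z K) (hu : u ∈ Z) (hv : v ∈ Z) (h : CP K u v) : u * v = v * u :=
  h.2 u (w.mem u hu) v (w.mem v hv)

theorem self_mem_cl (hz : z ∈ Z) : z ∈ cl Z K z := ⟨hz, Or.inl rfl⟩

theorem mem_cl_symm (hz : z ∈ Z) (h : x ∈ cl Z K z) : z ∈ cl Z K x := by
  rcases h.2 with h1 | h1
  · rw [h1]; exact self_mem_cl hz
  · exact ⟨hz, Or.inr h1.symm⟩

theorem Tw.refl (hz : z ∈ Z) : Tw Z K z z := ⟨hz, rfl⟩

theorem Tw.symm (hz : z ∈ Z) (h : Tw Z K z u) : Tw Z K u z := ⟨hz, h.2.symm⟩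

theorem Tw.trans (h : Tw Z K z u) (h' : Tw Z K u v) : Tw Z K z v := ⟨h'.1, h.2.trans h'.2⟩

/-- twins are equal or form a C-pair -/
theorem Tw.cp (hz : z ∈ Z) (h : Tw Z K z u) (hne : z ≠ u) : CP K z u := by
  have h1 : z ∈ cl Z K u := by rw [← h.2]; exact self_mem_cl hz
  rcases h1.2 with h2 | h2
  · exact absurd h2 hne
  · exact h2.symm

/-- (5.4) -/
theorem Tw.cp_of (h : Tw Z K z u) (hx : x ∈ Z) (hc : CP K z x) (hne : x ≠ u) : CP K u x := by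
  have h1 : x ∈ cl Z K u := by rw [← h.2]; exact ⟨hx, Or.inr hc⟩
  rcases h1.2 with h2 | h2
  · exact absurd h2 hne
  · exact h2

section conj

variable (w : W Z K)
include w

theorem W.conjZ_iff (g : G) : g * x * g⁻¹ ∈ Z ↔ x ∈ Z := by
  refine ⟨fun h => ?_, fun h => w.conjZ x h g⟩
  have h1 := w.conjZ _ h g⁻¹
  have h2 : g⁻¹ * (g * x * g⁻¹) * g⁻¹⁻¹ = x := by group
  rwa [h2] at h1

theorem W.cp_conj (hu : u ∈ Z) (hv : v ∈ Z) (h : CP K u v) (g : G) : CP K (g * u * g⁻¹) (g * v * g⁻¹) := by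
  refine ⟨fun h1 => h.1 (by simpa using h1), ?_⟩
  rw [w.conjK u hu g, w.conjK v hv g]
  intro a ha b hb
  rw [mem_cj] at ha hb
  have h1 := h.2 _ ha _ hb
  have h2 : a * b = g * ((g⁻¹ * a * g) * (g⁻¹ * b * g)) * g⁻¹ := by group
  rw [h2, h1]; group

theorem W.cp_conj_iff (hu : u ∈ Z) (hv : v ∈ Z) (g : G) : CP K (g * u * g⁻¹) (g * v * g⁻¹) ↔ CP K u v := by
  refine ⟨fun h => ?_, fun h => w.cp_conj hu hv h g⟩
  have h1 := w.cp_conj (w.conjZ u hu g) (w.conjZ v hv g) h g⁻¹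
  have h2 : g⁻¹ * (g * u * g⁻¹) * g⁻¹⁻¹ = u := by group
  have h3 : g⁻¹ * (g * v * g⁻¹) * g⁻¹⁻¹ = v := by group
  rwa [h2, h3] at h1

theorem W.mem_cl_conj (hz : z ∈ Z) (g : G) : g * x * g⁻¹ ∈ cl Z K (g * z * g⁻¹) ↔ x ∈ cl Z K z := by
  rw [mem_cl, mem_cl, w.conjZ_iff]
  constructor
  · rintro ⟨h1, h2⟩
    refine ⟨h1, ?_⟩
    rcases h2 with h2 | h2
    · left; simpa using h2
    · right; exact (w.cp_conj_iff hz h1 g).1 h2
  · rintro ⟨h1, h2⟩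
    refine ⟨h1, ?_⟩
    rcases h2 with h2 | h2
    · left; rw [h2]
    · right; exact w.cp_conj hz h1 h2 g

theorem W.tw_conj (hz : z ∈ Z) (h : Tw Z K z u) (g : G) : Tw Z K (g * z * g⁻¹) (g * u * g⁻¹) := by
  refine ⟨w.conjZ u h.1 g, ?_⟩
  ext x
  have h1 : x = g * (g⁻¹ * x * g) * g⁻¹ := by group
  rw [h1, w.mem_cl_conj hz, w.mem_cl_conj h.1, h.2]

theorem W.csw_conj (hu : u ∈ Z) (h : CSw K u v) (g : G) : CSw K (g * u * g⁻¹) (g * v * g⁻¹) := by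
  unfold CSw at *
  have h1 := w.cp_conj hu (w.conjZ u hu v) h g
  have h2 : g * (v * u * v⁻¹) * g⁻¹ = g * v * g⁻¹ * (g * u * g⁻¹) * (g * v * g⁻¹)⁻¹ := by group
  rwa [h2] at h1

omit w in
theorem wt_conj (g : G) : wt (g * u * g⁻¹) (g * v * g⁻¹) = g * wt u v * g⁻¹ := by
  unfold wt; group

end conj

end Cfsg.Agent.Cit.Nil.ROne
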